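import Cfsg.Agent.H89.CN.Decomp
import Cfsg.Agent.H41.CentralDet

/-!
Invariant factors from elementary divisors, and determinants of centralisers.
-/

set_option autoImplicit false

namespace H89.CN

open Polynomial

variable {F : Type*} [Field F]

/-- Splitting off one coprime product. -/
lemma similar_merge {ι : Type*} [Fintype ι] [DecidableEq ι] (f : ι → F[X]) (hf : ∀ i, (f i).Monic)
    (s : Finset ι) (hs : (s : Set ι).Pairwise (Function.onFun IsCoprime f)) {M : ℕ} (g : Fin M → F[X])
    (hg : ∀ j, (g j).Monic)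
    (hrest : H41.Similar (H41.modelEnd fun i : {i // i ∉ s} => f i) (H41.modelEnd g)) :
    H41.Similar (H41.modelEnd f) (H41.modelEnd (Fin.cons (∏ i ∈ s, f i) g : Fin (M + 1) → F[X])) := by
  classical
  set G := ∏ i ∈ s, f i with hG
  have hGm : G.Monic := monic_prod_of_monic _ _ fun i _ => hf i
  have hdvd : ∀ i ∈ s, f i ∣ G := fun i hi => Finset.dvd_prod_of_mem f hi
  obtain ⟨b, hb⟩ := hrest.symm
  let H : Fin (M + 1) → F[X] := Fin.cons G g
  have hH : ∀ j, (H j).Monic := fun j => by cases j using Fin.cases <;> simp [H, hGm, hg]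
  let pr0 : (Π j, AdjoinRoot (H j)) →ₗ[F] AdjoinRoot G :=
    { toFun := fun v => v 0, map_add' := fun _ _ => rfl, map_smul' := fun _ _ => rfl }
  let prR : (Π j, AdjoinRoot (H j)) →ₗ[F] (Π j, AdjoinRoot (g j)) :=
    { toFun := fun v j => v j.succ, map_add' := fun _ _ => rfl, map_smul' := fun _ _ => rfl }
  let L : (Π j, AdjoinRoot (H j)) →ₗ[F] (Π i, AdjoinRoot (f i)) :=
    LinearMap.pi fun i => if hi : i ∈ s
      then ((AdjoinRoot.algHomOfDvd F G (f i) (hdvd i hi)).toLinearMap).comp pr0
      else (LinearMap.proj (R := F) (φ := fun i : {i // i ∉ s} => AdjoinRoot (f i)) ⟨i, hi⟩).comp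
        (b.toLinearMap.comp prR)
  have hL0 : ∀ v i, ∀ hi : i ∈ s, L v i = AdjoinRoot.algHomOfDvd F G (f i) (hdvd i hi) (pr0 v) := by
    intro v i hi
    simp only [L, LinearMap.pi_apply, dif_pos hi]
    rfl
  have hL1 : ∀ v i, ∀ hi : i ∉ s, L v i = b (prR v) ⟨i, hi⟩ := by
    intro v i hi
    simp only [L, LinearMap.pi_apply, dif_neg hi]
    rfl
  haveI : ∀ i, Module.Finite F (AdjoinRoot (f i)) := fun i => (AdjoinRoot.powerBasis (hf i).ne_zero).finite
  haveI : ∀ j, Module.Finite F (AdjoinRoot (H j)) := fun j => (AdjoinRoot.powerBasis (hH j).ne_zero).finite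
  haveI : ∀ j, Module.Finite F (AdjoinRoot (g j)) := fun j => (AdjoinRoot.powerBasis (hg j).ne_zero).finite
  haveI : ∀ i : {i // i ∉ s}, Module.Finite F (AdjoinRoot (f i)) :=
    fun i => (AdjoinRoot.powerBasis (hf i.1).ne_zero).finite
  have hdim : Module.finrank F (Π j, AdjoinRoot (H j)) = Module.finrank F (Π i, AdjoinRoot (f i)) := by
    have h2 := b.finrank_eq
    rw [H41.finrank_modelSpace g fun j => (hg j).ne_zero,
      H41.finrank_modelSpace (fun i : {i // i ∉ s} => f i) fun i => (hf i.1).ne_zero] at h2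
    rw [H41.finrank_modelSpace H fun j => (hH j).ne_zero, H41.finrank_modelSpace f fun i => (hf i).ne_zero,
      Fin.sum_univ_succ]
    simp only [H, Fin.cons_zero, Fin.cons_succ]
    have h3 : ∑ i ∈ sᶜ, (f i).natDegree = ∑ i : {i // i ∉ s}, (f i).natDegree :=
      Finset.sum_subtype _ (fun i => Finset.mem_compl) _
    rw [h2, hG, natDegree_prod_of_monic _ _ fun i _ => hf i, ← h3, Finset.sum_add_sum_compl]
  have hinj : Function.Injective L := by
    rw [← LinearMap.ker_eq_bot, eq_bot_iff]
    intro v hv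
    rw [LinearMap.mem_ker] at hv
    have h0 : pr0 v = 0 := by
      obtain ⟨P, hP⟩ := AdjoinRoot.mk_surjective (pr0 v)
      rw [← hP, AdjoinRoot.mk_eq_zero]
      show G ∣ P
      refine Finset.prod_dvd_of_coprime hs fun i hi => ?_
      have h1 := hL0 v i hi
      rw [hv, ← hP] at h1
      rw [← AdjoinRoot.aeval_eq, ← Polynomial.aeval_algHom_apply, AdjoinRoot.algHomOfDvd_root,
        AdjoinRoot.aeval_eq] at h1
      exact AdjoinRoot.mk_eq_zero.1 h1.symm
    have hsucc : prR v = 0 := by
      apply b.injective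
      rw [map_zero]
      funext i
      have h1 := hL1 v i.1 i.2
      rw [hv] at h1
      exact h1.symm
    refine (Submodule.mem_bot F).2 (_root_.funext fun j => ?_)
    cases j using Fin.cases with
    | zero => exact h0
    | succ j => exact congrFun hsucc j
  have hbij : Function.Bijective L :=
    ⟨hinj, (LinearMap.injective_iff_surjective_of_finrank_eq_finrank hdim).1 hinj⟩
  refine H41.Similar.symm ⟨LinearEquiv.ofBijective L hbij, fun v => ?_⟩
  funext i
  show L (H41.modelEnd H v) i = AdjoinRoot.root (f i) * L v i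
  by_cases hi : i ∈ s
  · rw [hL0 _ i hi, hL0 _ i hi]
    show AdjoinRoot.algHomOfDvd F G (f i) (hdvd i hi) (AdjoinRoot.root G * pr0 v) = _
    rw [map_mul, AdjoinRoot.algHomOfDvd_root]
  · rw [hL1 _ i hi, hL1 _ i hi]
    exact congrFun (hb (prR v)) ⟨i, hi⟩

/-- An invariant factor chain for elementary divisors. -/
theorem exists_chain_factors : ∀ (N : ℕ) {ι : Type} [Fintype ι] [DecidableEq ι] (_ : Fintype.card ι = N)
    (p : ι → F[X]) (e : ι → ℕ), (∀ i, (p i).Monic ∧ Irreducible (p i) ∧ 0 < e i) →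
    ∃ (M : ℕ) (g : Fin M → F[X]), (∀ j, (g j).Monic ∧ 0 < (g j).natDegree) ∧
      (∀ j k : Fin M, j < k → g k ∣ g j) ∧
      (∀ H : F[X], (∀ i, p i ^ e i ∣ H) → ∀ j, g j ∣ H) ∧
      H41.Similar (H41.modelEnd fun i => p i ^ e i) (H41.modelEnd g) := by
  intro N
  induction N using Nat.strong_induction_on with
  | _ N ih =>
    intro ι _ _ hN p e hp
    classical
    rcases isEmpty_or_nonempty ι with hemp | hne
    · refine ⟨0, Fin.elim0, fun j => j.elim0, fun j => j.elim0, fun _ _ j => j.elim0,
        ⟨0, fun v => funext fun j => j.elim0⟩⟩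
    -- the largest power of every prime
    have hmax : ∀ i, ∃ j, p j = p i ∧ ∀ k, p k = p i → e k ≤ e j := by
      intro i
      obtain ⟨j, hj, hjm⟩ := (Finset.univ.filter fun k => p k = p i).exists_max_image e ⟨i, by simp⟩
      simp only [Finset.mem_filter, Finset.mem_univ, true_and] at hj hjm
      exact ⟨j, hj, hjm⟩
    choose J hJ hJmax using hmax
    let R : F[X] → ι := fun q => if h : ∃ i, p i = q then J (Classical.choose h) else Classical.arbitrary ι
    let s : Finset ι := (Finset.univ.image p).image R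
    have hR : ∀ i, p (R (p i)) = p i ∧ ∀ k, p k = p i → e k ≤ e (R (p i)) := by
      intro i
      have h : ∃ k, p k = p i := ⟨i, rfl⟩
      simp only [R, dif_pos h]
      refine ⟨(hJ _).trans (Classical.choose_spec h), fun k hk => hJmax _ k ?_⟩
      rw [hk, Classical.choose_spec h]
    have hsp : ∀ a ∈ s, ∀ b ∈ s, p a = p b → a = b := by
      intro a ha b hb hab
      simp only [s, Finset.mem_image, Finset.mem_univ, true_and] at ha hb
      obtain ⟨_, ⟨i, rfl⟩, rfl⟩ := ha
      obtain ⟨_, ⟨k, rfl⟩, rfl⟩ := hb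
      rw [(hR i).1, (hR k).1] at hab
      rw [hab]
    have hcop : (s : Set ι).Pairwise (Function.onFun IsCoprime fun i => p i ^ e i) := by
      intro a ha b hb hab
      show IsCoprime (p a ^ e a) (p b ^ e b)
      refine IsCoprime.pow ?_
      rw [(hp a).2.1.coprime_iff_not_dvd]
      intro hdvd
      exact hab (hsp a ha b hb (eq_of_monic_of_associated (hp a).1 (hp b).1
        ((hp a).2.1.associated_of_dvd (hp b).2.1 hdvd)))
    have hall : ∀ i, p i ^ e i ∣ ∏ k ∈ s, p k ^ e k := by
      intro i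
      have hmem : R (p i) ∈ s := by
        simp only [s, Finset.mem_image, Finset.mem_univ, true_and]
        exact ⟨_, ⟨i, rfl⟩, rfl⟩
      refine dvd_trans ?_ (Finset.dvd_prod_of_mem _ hmem)
      rw [(hR i).1]
      exact pow_dvd_pow _ ((hR i).2 i rfl)
    obtain ⟨i₀⟩ := hne
    have hi₀ : R (p i₀) ∈ s := by
      simp only [s, Finset.mem_image, Finset.mem_univ, true_and]
      exact ⟨_, ⟨i₀, rfl⟩, rfl⟩
    have hlt : Fintype.card {i // i ∉ s} < N := by
      rw [← hN]
      exact Fintype.card_subtype_lt (x := R (p i₀)) (by simpa using hi₀)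
    obtain ⟨M, g, hg, hchain, hlcm, hsim⟩ :=
      ih _ hlt rfl (fun i : {i // i ∉ s} => p i) (fun i => e i) (fun i => hp i.1)
    refine ⟨M + 1, Fin.cons (∏ i ∈ s, p i ^ e i) g, ?_, ?_, ?_, ?_⟩
    · intro j
      cases j using Fin.cases with
      | zero =>
        simp only [Fin.cons_zero]
        refine ⟨monic_prod_of_monic _ _ fun i _ => (hp i).1.pow _, ?_⟩
        rw [natDegree_prod_of_monic _ _ fun i _ => (hp i).1.pow _]
        refine Finset.sum_pos (fun i _ => ?_) ⟨_, hi₀⟩
        rw [natDegree_pow]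
        exact Nat.mul_pos (hp i).2.2 (hp i).2.1.natDegree_pos
      | succ j => simpa using hg j
    · intro j k hjk
      cases k using Fin.cases with
      | zero => exact absurd hjk (Fin.not_lt_zero _)
      | succ k =>
        cases j using Fin.cases with
        | zero => simp only [Fin.cons_zero, Fin.cons_succ]; exact hlcm _ (fun i => hall i.1) k
        | succ j => simp only [Fin.cons_succ]; exact hchain j k (Fin.succ_lt_succ_iff.1 hjk)
    · intro H hH j
      cases j using Fin.cases with
      | zero => simp only [Fin.cons_zero]; exact Finset.prod_dvd_of_coprime hcop fun i _ => hH i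
      | succ j => simp only [Fin.cons_succ]; exact hlcm H (fun i => hH i.1) j
    · exact similar_merge (fun i => p i ^ e i) (fun i => (hp i).1.pow _) s hcop g (fun j => (hg j).1) hsim

/-- Exponents of elementary divisors give determinants in the centraliser. -/
theorem exists_comm_det [Fintype F] {n N : ℕ} (A : Matrix (Fin n) (Fin n) F) (p : Fin N → F[X]) (e : Fin N → ℕ)
    (hp : ∀ i, (p i).Monic ∧ Irreducible (p i) ∧ 0 < e i)
    (h : H41.Similar (rowEnd A) (H41.modelEnd fun i => p i ^ e i)) (i₀ : Fin N) (a : F) :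
    ∃ Z : Matrix (Fin n) (Fin n) F, Z * A = A * Z ∧ Z.det = a ^ e i₀ := by
  classical
  obtain ⟨ε, hε⟩ := h
  obtain ⟨w, hw⟩ := H41.exists_norm_eq_pow (p i₀) (hp i₀).1 (hp i₀).2.1 (e i₀) a
  let c : Π i, AdjoinRoot (p i ^ e i) := Function.update 1 i₀ w
  let T : Module.End F (Fin n → F) :=
    (ε.symm : _ →ₗ[F] Fin n → F) ∘ₗ H41.mulModel (fun i => p i ^ e i) c ∘ₗ (ε : (Fin n → F) →ₗ[F] _)
  have hdet : LinearMap.det T = a ^ e i₀ := by
    have := LinearMap.det_conj (H41.mulModel (fun i => p i ^ e i) c) ε.symm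
    rw [LinearEquiv.symm_symm] at this
    rw [this, H41.det_mulModel _ (fun i => pow_ne_zero _ (hp i).1.ne_zero), Finset.prod_eq_single i₀]
    · simp [c, hw]
    · intro j _ hj
      simp [c, hj, map_one]
    · simp
  refine ⟨Matrix.transpose (LinearMap.toMatrix' T), ?_, ?_⟩
  · apply Matrix.transpose_injective
    rw [Matrix.transpose_mul, Matrix.transpose_mul, Matrix.transpose_transpose]
    apply Matrix.toLin'.injective
    rw [Matrix.toLin'_mul, Matrix.toLin'_mul, Matrix.toLin'_toMatrix']
    refine LinearMap.ext fun v => ε.injective ?_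
    simp only [T, LinearMap.comp_apply, LinearEquiv.coe_coe, LinearEquiv.apply_symm_apply]
    show ε (rowEnd A (ε.symm (H41.mulModel _ c (ε v)))) = H41.mulModel _ c (ε (rowEnd A v))
    rw [hε, hε, H41.mulModel_comm, LinearEquiv.apply_symm_apply]
  · rw [Matrix.det_transpose, LinearMap.det_toMatrix', hdet]

end H89.CN
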