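import Mathlib

/-!
Lower bound for the covering number of the projective special linear group: some element is not a
product of `n - 1` transvection conjugates.
-/

set_option autoImplicit false

namespace H89.CN

open Matrix

variable {F : Type*} [Field F]

lemma exists_fixed_transvection_prod {N k : ℕ} (hk : k < N) (i j : Fin N)
    (f : Fin k → Matrix.SpecialLinearGroup (Fin N) F) (τ : Matrix.SpecialLinearGroup (Fin N) F)
    (hτ : (τ : Matrix (Fin N) (Fin N) F) = Matrix.transvection i j 1) :
    ∃ v : Fin N → F, v ≠ 0 ∧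
      ((List.ofFn fun a => f a * τ * (f a)⁻¹).prod : Matrix (Fin N) (Fin N) F) *ᵥ v = v := by
  classical
  let L : (Fin N → F) →ₗ[F] (Fin k → F) :=
    LinearMap.pi fun a => (LinearMap.proj j).comp
      (Matrix.mulVecLin ((((f a)⁻¹ : Matrix.SpecialLinearGroup (Fin N) F)) : Matrix (Fin N) (Fin N) F))
  have hL : LinearMap.ker L ≠ ⊥ := LinearMap.ker_ne_bot_of_finrank_lt (by simpa using hk)
  obtain ⟨v, hv, hv0⟩ := Submodule.exists_mem_ne_zero_of_ne_bot hL
  refine ⟨v, hv0, ?_⟩
  have hfix : ∀ a, ((f a * τ * (f a)⁻¹ : Matrix.SpecialLinearGroup (Fin N) F) :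
      Matrix (Fin N) (Fin N) F) *ᵥ v = v := by
    intro a
    have ha : ((((f a)⁻¹ : Matrix.SpecialLinearGroup (Fin N) F)) : Matrix (Fin N) (Fin N) F) *ᵥ v ∈
        {w : Fin N → F | w j = 0} := congrFun hv a
    rw [Matrix.SpecialLinearGroup.coe_mul, Matrix.SpecialLinearGroup.coe_mul, hτ, ← Matrix.mulVec_mulVec,
      ← Matrix.mulVec_mulVec]
    have ht : ∀ w : Fin N → F, w j = 0 → Matrix.transvection i j (1 : F) *ᵥ w = w := by
      intro w hw
      rw [Matrix.transvection, Matrix.add_mulVec, Matrix.one_mulVec, Matrix.single_mulVec, hw]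
      ext x
      simp [Function.update_apply]
    rw [ht _ ha, Matrix.mulVec_mulVec, ← Matrix.SpecialLinearGroup.coe_mul, mul_inv_cancel,
      Matrix.SpecialLinearGroup.coe_one, Matrix.one_mulVec]
  have key : ∀ l : List (Matrix.SpecialLinearGroup (Fin N) F),
      (∀ A ∈ l, (A : Matrix (Fin N) (Fin N) F) *ᵥ v = v) → (l.prod : Matrix (Fin N) (Fin N) F) *ᵥ v = v := by
    intro l
    induction l with
    | nil => simp
    | cons A l ih =>
      intro h
      rw [List.prod_cons, Matrix.SpecialLinearGroup.coe_mul, ← Matrix.mulVec_mulVec,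
        ih fun B hB => h B (List.mem_cons_of_mem _ hB), h A List.mem_cons_self]
  exact key _ fun A hA => by
    obtain ⟨a, rfl⟩ := List.mem_ofFn.1 hA
    exact hfix a

/-- A sparse companion matrix with determinant one and no eigenvalue in the field. -/
lemma exists_no_eigen [Fintype F] {N : ℕ} (hN : 3 ≤ N) :
    ∃ g : Matrix.SpecialLinearGroup (Fin N) F,
      ∀ (r : F) (v : Fin N → F), (g : Matrix (Fin N) (Fin N) F) *ᵥ v = r • v → v = 0 := by
  classical
  obtain ⟨m, rfl⟩ : ∃ m, N = m + 3 := ⟨N - 3, by omega⟩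
  set a₀ : F := (((Equiv.Perm.sign (finRotate (m + 3)) : ℤˣ) : ℤ) : F) with ha₀
  have ha0 : a₀ ≠ 0 := by
    rcases Int.units_eq_one_or (Equiv.Perm.sign (finRotate (m + 3))) with h | h <;> simp [ha₀, h]
  let bad : Fˣ × F → F × F := fun p =>
    (((p.1 : F) ^ (m + 3) - a₀ - p.2 * (p.1 : F) ^ 2) / (p.1 : F), p.2)
  have hnot : ¬ Function.Surjective bad := by
    intro h
    have := Fintype.card_le_of_surjective _ h
    rw [Fintype.card_prod, Fintype.card_prod, Fintype.card_units] at this
    have hq : 0 < Fintype.card F := Fintype.card_pos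
    have h2 : (Fintype.card F - 1) * Fintype.card F < Fintype.card F * Fintype.card F :=
      Nat.mul_lt_mul_of_pos_right (by omega) hq
    omega
  simp only [Function.Surjective, not_forall, not_exists] at hnot
  obtain ⟨⟨a₁, a₂⟩, hbad⟩ := hnot
  let a : Fin (m + 3) → F := fun i =>
    if i.val = 0 then a₀ else if i.val = 1 then a₁ else if i.val = 2 then a₂ else 0
  -- the cyclic permutation times a triangular matrix
  let σ : Equiv.Perm (Fin (m + 3)) := finRotate (m + 3)
  let U : Matrix (Fin (m + 3)) (Fin (m + 3)) F :=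
    Matrix.of fun i j => if j = Fin.last (m + 2) then a (σ i) else if i = j then 1 else 0
  let G : Matrix (Fin (m + 3)) (Fin (m + 3)) F := U.submatrix σ.symm id
  have hU : U.det = a₀ := by
    rw [Matrix.det_of_upperTriangular]
    · rw [Finset.prod_eq_single (Fin.last (m + 2))]
      · simp [U, a, σ]
      · intro j _ hj; simp [U, hj]
      · simp
    · intro i j hij
      have hj : j ≠ Fin.last (m + 2) := (lt_of_lt_of_le hij (Fin.le_last i)).ne
      simp only [U, Matrix.of_apply, if_neg hj]
      rw [if_neg]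
      exact (show j < i from hij).ne'
  have hG : G.det = 1 := by
    simp only [G, Matrix.det_permute, hU, Equiv.Perm.sign_symm]
    rcases Int.units_eq_one_or (Equiv.Perm.sign σ) with h | h <;> simp [ha₀, σ, h] at * <;> simp [h]
  refine ⟨⟨G, hG⟩, fun r v hv => ?_⟩
  have hrow : ∀ i : Fin (m + 3), (G *ᵥ v) (σ i) =
      (if i = Fin.last (m + 2) then 0 else v i) + a (σ i) * v (Fin.last (m + 2)) := by
    intro i
    simp only [Matrix.mulVec, dotProduct, G, Matrix.submatrix_apply, id, Equiv.symm_apply_apply, U,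
      Matrix.of_apply]
    rw [← Finset.add_sum_erase _ _ (Finset.mem_univ (Fin.last (m + 2))), if_pos rfl, add_comm]
    congr 1
    by_cases hi : i = Fin.last (m + 2)
    · rw [if_pos hi]
      refine Finset.sum_eq_zero fun j hj => ?_
      rw [if_neg (Finset.ne_of_mem_erase hj), if_neg (show ¬ i = j from fun h => Finset.ne_of_mem_erase hj (h.symm.trans hi)), zero_mul]
    · rw [if_neg hi, Finset.sum_eq_single i]
      · rw [if_neg hi, if_pos rfl, one_mul]
      · intro j hj hji
        rw [if_neg (Finset.ne_of_mem_erase hj), if_neg (Ne.symm hji), zero_mul]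
      · intro h; exact absurd (Finset.mem_erase.2 ⟨hi, Finset.mem_univ _⟩) h
  have hsucc : ∀ (k : ℕ) (hk : k + 1 < m + 3),
      r * v ⟨k + 1, hk⟩ = v ⟨k, by omega⟩ + a ⟨k + 1, hk⟩ * v (Fin.last (m + 2)) := by
    intro k hk
    have h := hrow ⟨k, by omega⟩
    have hs : σ ⟨k, by omega⟩ = (⟨k + 1, hk⟩ : Fin (m + 3)) := finRotate_of_lt (by omega)
    rw [hs, if_neg (by simp [Fin.ext_iff]; omega)] at h
    rw [← h]
    exact (congrFun hv _).symm
  have hzero : r * v 0 = a₀ * v (Fin.last (m + 2)) := by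
    have h := hrow (Fin.last (m + 2))
    have hs : σ (Fin.last (m + 2)) = 0 := finRotate_last
    rw [hs, if_pos rfl, zero_add] at h
    rw [show a₀ = a 0 by simp [a], ← h]
    exact (congrFun hv _).symm
  set c := v (Fin.last (m + 2)) with hc
  have hup : ∀ t : ℕ, t ≤ m → v ⟨m + 2 - t, by omega⟩ = r ^ t * c := by
    intro t
    induction t with
    | zero => intro _; simp [hc, Fin.last]
    | succ t ih =>
      intro ht
      have h := hsucc (m + 2 - (t + 1)) (by omega)
      have he : (⟨m + 2 - (t + 1) + 1, by omega⟩ : Fin (m + 3)) = ⟨m + 2 - t, by omega⟩ := Fin.ext (by simp; omega)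
      rw [he, ih (by omega)] at h
      have ha : a ⟨m + 2 - t, by omega⟩ = 0 := by
        simp only [a]
        rw [if_neg (by omega), if_neg (by omega), if_neg (by omega)]
      rw [ha, zero_mul, add_zero] at h
      rw [← h, pow_succ]; ring
  have hv2 : v ⟨2, by omega⟩ = r ^ m * c := by
    rw [← hup m le_rfl]; congr 1; ext; simp
  have h1 := hsucc 1 (by omega)
  have h0 := hsucc 0 (by omega)
  simp only [a, Nat.reduceAdd, OfNat.ofNat_ne_zero, OfNat.ofNat_ne_one, if_false, if_true, one_ne_zero] at h1 h0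
  rw [hv2] at h1
  have hmain : (r ^ (m + 3) - a₀ - a₁ * r - a₂ * r ^ 2) * c = 0 := by
    have e : (⟨0, by omega⟩ : Fin (m + 3)) = 0 := rfl
    rw [e] at h0
    linear_combination (r * r) * h1 + r * h0 + hzero
  have hne : r ^ (m + 3) - a₀ - a₁ * r - a₂ * r ^ 2 ≠ 0 := by
    intro h
    by_cases hr : r = 0
    · subst hr; simp [ha0] at h
    · refine hbad (Units.mk0 r hr, a₂) ?_
      simp only [bad, Units.val_mk0, Prod.mk.injEq, and_true]
      field_simp
      linear_combination h
  have hc0 : c = 0 := (mul_eq_zero.1 hmain).resolve_left hne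
  funext i
  -- descend from the top
  have hall : ∀ t : ℕ, t ≤ m + 2 → v ⟨m + 2 - t, by omega⟩ = 0 := by
    intro t
    induction t with
    | zero => intro _; exact hc0
    | succ t ih =>
      intro ht
      have h := hsucc (m + 2 - (t + 1)) (by omega)
      have he : (⟨m + 2 - (t + 1) + 1, by omega⟩ : Fin (m + 3)) = ⟨m + 2 - t, by omega⟩ := Fin.ext (by simp; omega)
      rw [he, ih (by omega), hc0] at h
      simpa using h.symm
  simpa [show m + 2 - (m + 2 - i.val) = i.val by omega] using hall (m + 2 - i.val) (by omega)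

/-- The lower bound. -/
theorem exists_not_prod [Fintype F] (n : ℕ) (hn : 3 ≤ n) :
    ∃ x : Matrix.ProjectiveSpecialLinearGroup (Fin n) F, x ≠ 1 ∧
      ∃ g : Matrix.ProjectiveSpecialLinearGroup (Fin n) F,
        ∀ f : Fin (n - 1) → Matrix.ProjectiveSpecialLinearGroup (Fin n) F,
          g ≠ (List.ofFn fun i => f i * x * (f i)⁻¹).prod := by
  classical
  let i₀ : Fin n := ⟨0, by omega⟩
  let j₀ : Fin n := ⟨1, by omega⟩
  have hij : i₀ ≠ j₀ := by simp [i₀, j₀]
  let τ : Matrix.SpecialLinearGroup (Fin n) F :=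
    ⟨Matrix.transvection i₀ j₀ 1, Matrix.det_transvection_of_ne _ _ hij _⟩
  obtain ⟨g, hg⟩ := exists_no_eigen (F := F) hn
  refine ⟨QuotientGroup.mk τ, ?_, QuotientGroup.mk g, fun f hf => ?_⟩
  · rw [Ne, QuotientGroup.eq_one_iff, Matrix.SpecialLinearGroup.mem_center_iff]
    rintro ⟨r, -, hr⟩
    have h := congrFun (congrFun hr i₀) j₀
    simp [τ, Matrix.transvection, hij] at h
  · choose lift hlift using fun i => QuotientGroup.mk_surjective (f i)
    set P := (List.ofFn fun i => lift i * τ * (lift i)⁻¹).prod with hP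
    have hmk : (QuotientGroup.mk g : Matrix.ProjectiveSpecialLinearGroup (Fin n) F) = QuotientGroup.mk P := by
      rw [hf, hP]
      show _ = (QuotientGroup.mk' (Subgroup.center (Matrix.SpecialLinearGroup (Fin n) F)))
        (List.ofFn fun i => lift i * τ * (lift i)⁻¹).prod
      rw [map_list_prod, List.map_ofFn]
      congr 2
      funext i
      simp [Function.comp_def, hlift]
    rw [QuotientGroup.eq, Matrix.SpecialLinearGroup.mem_center_iff] at hmk
    obtain ⟨r, hr1, hr⟩ := hmk
    obtain ⟨v, hv0, hv⟩ := exists_fixed_transvection_prod (F := F) (N := n) (k := n - 1) (by omega) i₀ j₀ lift τ rfl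
    have hgP : (P : Matrix (Fin n) (Fin n) F) = (g : Matrix (Fin n) (Fin n) F) * Matrix.scalar (Fin n) r := by
      rw [hr, ← Matrix.SpecialLinearGroup.coe_mul, mul_inv_cancel_left]
    have hr0 : r ≠ 0 := by
      intro h; rw [h, zero_pow (by simp; omega)] at hr1; exact zero_ne_one hr1
    refine hv0 (hg r⁻¹ v ?_)
    have h' : (P : Matrix (Fin n) (Fin n) F) *ᵥ v = v := hv
    rw [hgP, ← Matrix.mulVec_mulVec] at h'
    have hs : Matrix.scalar (Fin n) r *ᵥ v = r • v := by
      ext i; simp [Matrix.scalar, Matrix.mulVec_diagonal]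
    rw [hs, Matrix.mulVec_smul] at h'
    conv_rhs => rw [← h']
    rw [inv_smul_smul₀ hr0]

end H89.CN
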