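import Cfsg.Agent.H89.CN.Cover0
import Cfsg.Agent.H89.CN.Lower

/-!
From covered classes to the projective special linear group.
-/

set_option autoImplicit false

namespace H89.CN

open Matrix Polynomial

variable {F : Type*} [Field F]

lemma shape_dim' {n t : ℕ} {A : Matrix (Fin n) (Fin n) F} {lam : F} {l : List F[X]} (h : Shape A t lam l) :
    n = (List.replicate t (X - C lam) ++ l |>.map Polynomial.natDegree).sum := Dec.dim _ h.1

lemma cancel_right {n : ℕ} {M N R : Matrix (Fin n) (Fin n) F} (hR : IsUnit R.det) (h : M * R = N * R) : M = N := by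
  have := congrArg (fun X => X * R⁻¹) h
  simpa [Matrix.mul_assoc, Matrix.mul_nonsing_inv _ hR] using this

lemma shape_cyc_three {n : ℕ} {A : Matrix (Fin n) (Fin n) F} {lam : F} {l : List F[X]} (hn : n = 3)
    (hsh : Shape A 0 lam l) : Cyc A := by
  have hdim := shape_dim' hsh
  have hdec : Dec A l := by simpa using hsh.1
  match l, hsh, hdec, hdim with
  | [], hsh, _, _ => exact absurd rfl hsh.2.2.2.2
  | [f], _, ⟨hf, _, N, e, A₂, hs, hN⟩, hdim =>
    obtain rfl : N = 0 := hN
    have hfn : f.natDegree = n := by simpa using hdim.symm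
    refine Cyc.of_sim hs.symm ?_
    generalize hm : f.natDegree = m at e hs hfn
    subst hfn
    obtain ⟨σ, rfl⟩ : ∃ σ : Equiv.Perm (Fin m), e = (Equiv.sumEmpty _ _).trans σ :=
      ⟨(Equiv.sumEmpty _ _).symm.trans e, by ext x; simp⟩
    have hb : Matrix.reindex ((Equiv.sumEmpty (Fin m) (Fin 0)).trans σ) ((Equiv.sumEmpty (Fin m) (Fin 0)).trans σ)
        (Matrix.fromBlocks (rComp m f) 0 0 A₂) = Matrix.reindex σ σ (rComp m f) := by
      ext i j
      simp [Equiv.sumEmpty]
    rw [hb]
    exact Cyc.of_sim (sim_perm σ _) (cyc_rComp hf hm).1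
  | a :: b :: l₂, hsh, _, hdim =>
    exfalso
    have h1 := (hsh.2.1 a (by simp)).2.1
    have h2 := (hsh.2.1 b (by simp)).2.1
    simp only [List.replicate_zero, List.nil_append, List.map_cons, List.sum_cons] at hdim
    omega

theorem covering_number [Fintype F] (h4 : 4 ≤ Fintype.card F)
    (h3 : ∀ {A : Matrix (Fin 3) (Fin 3) F}, Cyc A → A.det = 1 → Covered A) (n : ℕ) (hn : 3 ≤ n) :
    (∀ x : Matrix.ProjectiveSpecialLinearGroup (Fin n) F, x ≠ 1 →
      ∀ g : Matrix.ProjectiveSpecialLinearGroup (Fin n) F, ∃ f : Fin n → Matrix.ProjectiveSpecialLinearGroup (Fin n) F,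
        g = (List.ofFn fun i => f i * x * (f i)⁻¹).prod) ∧
    (∃ x : Matrix.ProjectiveSpecialLinearGroup (Fin n) F, x ≠ 1 ∧ ∃ g : Matrix.ProjectiveSpecialLinearGroup (Fin n) F,
      ∀ f : Fin (n - 1) → Matrix.ProjectiveSpecialLinearGroup (Fin n) F,
        g ≠ (List.ofFn fun i => f i * x * (f i)⁻¹).prod) := by
  classical
  refine ⟨fun x hx g => ?_, exists_not_prod n hn⟩
  obtain ⟨a, rfl⟩ := QuotientGroup.mk_surjective x
  obtain ⟨b, rfl⟩ := QuotientGroup.mk_surjective g
  set A : Matrix (Fin n) (Fin n) F := (a : Matrix (Fin n) (Fin n) F) with hA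
  have hdA : A.det = 1 := a.2
  have hns : NS A := by
    intro σ hσ
    refine hx ((QuotientGroup.eq_one_iff a).2 (Matrix.SpecialLinearGroup.mem_center_iff.2 ⟨σ, ?_, ?_⟩))
    · have h := congrArg Matrix.det hσ
      rw [hdA, Matrix.det_smul, Matrix.det_one, mul_one] at h
      simpa using h.symm
    · rw [← hA, hσ]
      ext i j
      simp [Matrix.scalar, Matrix.diagonal_apply, Matrix.one_apply]
  obtain ⟨t, lam, l, hsh⟩ := exists_shape A hns (by rw [hdA]; exact one_ne_zero)
  have hcov : Covered A := by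
    rcases Nat.eq_zero_or_pos t with rfl | ht
    · rcases (show n = 3 ∨ 4 ≤ n by omega) with rfl | hn4
      · exact h3 (shape_cyc_three rfl hsh) hdA
      · exact covered_zero h4 hn4 hsh hdA
    · exact covered_pos h4 hsh hdA ht
  obtain ⟨ζ, hζ, hmem⟩ := hcov (b : Matrix (Fin n) (Fin n) F) b.2
  obtain ⟨f, hf, hfg⟩ := prods_exists hmem
  choose R hR hRe using hf
  let r : Fin n → Matrix.SpecialLinearGroup (Fin n) F := fun i => ⟨R i, hR i⟩
  set P := (List.ofFn fun i => r i * a * (r i)⁻¹).prod with hP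
  have hcoe : ∀ i, ((r i * a * (r i)⁻¹ : Matrix.SpecialLinearGroup (Fin n) F) : Matrix (Fin n) (Fin n) F) = f i := by
    intro i
    have h1 : (r i * a * (r i)⁻¹) * r i = r i * a := by rw [inv_mul_cancel_right]
    have h2 := congrArg (fun M : Matrix.SpecialLinearGroup (Fin n) F => (M : Matrix (Fin n) (Fin n) F)) h1
    simp only [Matrix.SpecialLinearGroup.coe_mul] at h2
    refine cancel_right (R := R i) (isUnit_iff_ne_zero.2 (by rw [hR i]; exact one_ne_zero)) ?_
    calc ((r i * a * (r i)⁻¹ : Matrix.SpecialLinearGroup (Fin n) F) : Matrix (Fin n) (Fin n) F) * R i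
        = R i * A := by rw [Matrix.SpecialLinearGroup.coe_mul, Matrix.SpecialLinearGroup.coe_mul]; exact h2
      _ = f i * R i := hRe i
  have hPb : (P : Matrix (Fin n) (Fin n) F) = ζ • (b : Matrix (Fin n) (Fin n) F) := by
    rw [hfg, hP]
    have hmap : ∀ L : List (Matrix.SpecialLinearGroup (Fin n) F),
        ((L.prod : Matrix.SpecialLinearGroup (Fin n) F) : Matrix (Fin n) (Fin n) F) =
          (L.map fun M : Matrix.SpecialLinearGroup (Fin n) F => (M : Matrix (Fin n) (Fin n) F)).prod := by
      intro L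
      induction L with
      | nil => simp
      | cons M L ih => simp [ih]
    rw [hmap, List.map_ofFn]
    congr 2
    funext i
    exact hcoe i
  refine ⟨fun i => QuotientGroup.mk (r i), ?_⟩
  calc (QuotientGroup.mk b : Matrix.ProjectiveSpecialLinearGroup (Fin n) F) = QuotientGroup.mk P := by
        rw [QuotientGroup.eq, Matrix.SpecialLinearGroup.mem_center_iff]
        refine ⟨ζ, by simpa using hζ, ?_⟩
        rw [Matrix.SpecialLinearGroup.coe_mul, hPb, Matrix.mul_smul, ← Matrix.SpecialLinearGroup.coe_mul,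
          inv_mul_cancel, Matrix.SpecialLinearGroup.coe_one]
        ext i j
        simp [Matrix.scalar, Matrix.diagonal_apply, Matrix.one_apply]
    _ = _ := by
        rw [hP]
        show (QuotientGroup.mk' (Subgroup.center (Matrix.SpecialLinearGroup (Fin n) F)))
          (List.ofFn fun i => r i * a * (r i)⁻¹).prod = _
        rw [map_list_prod, List.map_ofFn]
        congr 2

end H89.CN
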