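import Cfsg.Agent.H89.CN.LU

/-!
Triangular factorisation with regular factors and a free first position.
-/

set_option autoImplicit false
set_option linter.style.haveILetI false

namespace H89.CN

open Matrix Module

variable {F : Type*} [Field F]

section Choice

variable {V : Type*} [AddCommGroup V] [Module F V] [FiniteDimensional F V]

/-- `g - a`. -/
def shiftMap (g : V →ₗ[F] V) (a : F) : V →ₗ[F] V := g - a • LinearMap.id

@[simp] lemma shiftMap_apply (g : V →ₗ[F] V) (a : F) (x : V) : shiftMap g a x = g x - a • x := rfl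

lemma finrank_ker_shift (g : V →ₗ[F] V) (a : F) :
    finrank F (LinearMap.range (shiftMap g a)) + finrank F (LinearMap.ker (shiftMap g a)) = finrank F V :=
  LinearMap.finrank_range_add_finrank_ker _

lemma mem_ker_shift {g : V →ₗ[F] V} {a : F} {x : V} (h : x ∈ LinearMap.ker (shiftMap g a)) : g x = a • x := by
  simpa [sub_eq_zero] using h

lemma two_kernels (g : V →ₗ[F] V) {a b : F} (h : a ≠ b) :
    finrank F (LinearMap.ker (shiftMap g a)) + finrank F (LinearMap.ker (shiftMap g b)) ≤ finrank F V := by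
  rw [← Submodule.finrank_sup_add_finrank_inf_eq]
  have h0 : LinearMap.ker (shiftMap g a) ⊓ LinearMap.ker (shiftMap g b) = ⊥ := by
    rw [eq_bot_iff]
    rintro x ⟨hx, hx'⟩
    have h1 : (a - b) • x = 0 := by rw [sub_smul, ← mem_ker_shift hx, ← mem_ker_shift hx', sub_self]
    exact (Submodule.mem_bot F).2 ((smul_eq_zero.1 h1).resolve_left (sub_ne_zero.2 h))
  rw [h0, finrank_bot, add_zero]
  exact Submodule.finrank_le _

lemma three_kernels (g : V →ₗ[F] V) {a b c : F} (hab : a ≠ b) (hac : a ≠ c) (hbc : b ≠ c) :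
    finrank F (LinearMap.ker (shiftMap g a)) + finrank F (LinearMap.ker (shiftMap g b)) +
      finrank F (LinearMap.ker (shiftMap g c)) ≤ finrank F V := by
  have h2 : finrank F (LinearMap.ker (shiftMap g a)) + finrank F (LinearMap.ker (shiftMap g b)) =
      finrank F ↥(LinearMap.ker (shiftMap g a) ⊔ LinearMap.ker (shiftMap g b)) := by
    rw [← Submodule.finrank_sup_add_finrank_inf_eq]
    have h0 : LinearMap.ker (shiftMap g a) ⊓ LinearMap.ker (shiftMap g b) = ⊥ := by
      rw [eq_bot_iff]
      rintro x ⟨hx, hx'⟩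
      have h1 : (a - b) • x = 0 := by rw [sub_smul, ← mem_ker_shift hx, ← mem_ker_shift hx', sub_self]
      exact (Submodule.mem_bot F).2 ((smul_eq_zero.1 h1).resolve_left (sub_ne_zero.2 hab))
    rw [h0, finrank_bot, add_zero]
  rw [h2, ← Submodule.finrank_sup_add_finrank_inf_eq]
  have h0 : (LinearMap.ker (shiftMap g a) ⊔ LinearMap.ker (shiftMap g b)) ⊓ LinearMap.ker (shiftMap g c) = ⊥ := by
    rw [eq_bot_iff]
    rintro x ⟨hx, hx'⟩
    obtain ⟨y, hy, z, hz, rfl⟩ := Submodule.mem_sup.1 hx
    have hc := mem_ker_shift hx'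
    rw [map_add, mem_ker_shift hy, mem_ker_shift hz, smul_add] at hc
    have h1 : (a - c) • y + (b - c) • z = 0 := by
      rw [← sub_eq_zero] at hc
      rw [← hc, sub_smul, sub_smul]; abel
    -- apply `g` once more
    have h3 := congrArg (shiftMap g b) h1
    rw [map_add, map_smul, map_smul, shiftMap_apply, shiftMap_apply, mem_ker_shift hy, mem_ker_shift hz, sub_self,
      smul_zero, add_zero, map_zero, ← sub_smul, smul_smul] at h3
    have hy0 : y = 0 := (smul_eq_zero.1 h3).resolve_left (mul_ne_zero (sub_ne_zero.2 hac) (sub_ne_zero.2 hab))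
    rw [hy0, smul_zero, zero_add] at h1
    have hz0 : z = 0 := (smul_eq_zero.1 h1).resolve_left (sub_ne_zero.2 hbc)
    rw [hy0, hz0, add_zero]; exact Submodule.zero_mem _
  rw [h0, finrank_bot, add_zero]
  exact Submodule.finrank_le _

lemma exists_dual_two {x : V} {s : Set V} (h : x ∉ Submodule.span F s) :
    ∃ φ : Dual F V, φ x = 1 ∧ ∀ y ∈ s, φ y = 0 := by
  obtain ⟨φ, hφ, hm⟩ := Submodule.exists_dual_map_eq_bot_of_notMem h inferInstance
  refine ⟨(φ x)⁻¹ • φ, by simp [hφ], fun y hy => ?_⟩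
  have : φ y ∈ (Submodule.span F s).map φ := Submodule.mem_map_of_mem (Submodule.subset_span hy)
  rw [hm, Submodule.mem_bot] at this
  simp [this]

/-- The choice of a vector and a functional. -/
theorem exists_choice_one [Fintype F] (hq : 4 ≤ Fintype.card F) (g : V →ₗ[F] V) (hg : Function.Injective g)
    (hN : 4 ≤ finrank F V) {μ b : F} (hns : ∀ σ : F, ∃ x, g x ≠ σ • x)
    (hμ : 2 ≤ finrank F (LinearMap.range (shiftMap g μ)))
    (hb : 2 ≤ finrank F (LinearMap.range (shiftMap g b))) :
    ∃ (v : V) (p : Dual F V), p v = 1 ∧ p (g v) = b ∧ g v ≠ b • v ∧ p ∘ₗ g ≠ b • p ∧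
      (∀ ν : F, ∃ x, p x = 0 ∧ g x - ν • x ∉ F ∙ g v) ∧
      ¬ ∃ a : V, ∀ x, p x = 0 → g x - μ • x ∈ Submodule.span F {g v, a} := by
  classical
  obtain ⟨e⟩ : Nonempty (Fin 4 ↪ F) := Function.Embedding.nonempty_of_card_le (by simpa using hq)
  set rk : F → ℕ := fun a => finrank F (LinearMap.range (shiftMap g a)) with hrk
  have hdim : ∀ a, rk a + finrank F (LinearMap.ker (shiftMap g a)) = finrank F V := finrank_ker_shift g
  have hpos : ∀ a, 1 ≤ rk a := by
    intro a
    rcases Nat.eq_zero_or_pos (rk a) with h | h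
    · obtain ⟨x, hx⟩ := hns a
      have h0 := Submodule.finrank_eq_zero.1 h
      have : shiftMap g a x = 0 := by
        have := LinearMap.mem_range_self (shiftMap g a) x
        rwa [h0, Submodule.mem_bot] at this
      exact absurd (sub_eq_zero.1 (by simpa using this)) hx
    · exact h
  -- the small eigenvalues
  let S : Finset F := Finset.univ.filter fun a => rk a ≤ 2 ∨ (a = μ ∧ rk a ≤ 3)
  have hS : ∀ a ∈ S, rk a ≤ 3 := by
    intro a ha
    simp only [S, Finset.mem_filter, Finset.mem_univ, true_and] at ha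
    omega
  have hScard : S.card ≤ 2 := by
    by_contra hlt
    obtain ⟨a, b', c, ha, hb', hc, hab, hac, hbc⟩ := Finset.two_lt_card_iff.1 (by omega : 2 < S.card)
    have h3 := three_kernels g hab hac hbc
    simp only [S, Finset.mem_filter, Finset.mem_univ, true_and] at ha hb' hc
    have hne : ∀ x y : F, x = μ ∧ y = μ → x = y := fun x y h => h.1.trans h.2.symm
    have := hdim a; have := hdim b'; have := hdim c
    rcases ha with ha | ha <;> rcases hb' with hb' | hb' <;> rcases hc with hc | hc <;>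
      first
        | omega
        | exact hab (hne _ _ ⟨ha.1, hb'.1⟩)
        | exact hac (hne _ _ ⟨ha.1, hc.1⟩)
        | exact hbc (hne _ _ ⟨hb'.1, hc.1⟩)
  have hproper : ∀ a ∈ S, LinearMap.range (shiftMap g a) ≠ ⊤ := by
    intro a ha h
    have h1 := hS a ha
    have h2 : rk a = finrank F V := by
      show finrank F ↥(LinearMap.range (shiftMap g a)) = _
      rw [h, finrank_top]
    omega
  obtain ⟨A₁, A₂, hA₁, hA₂, hcov⟩ : ∃ A₁ A₂ : Submodule F V, A₁ ≠ ⊤ ∧ A₂ ≠ ⊤ ∧
      ∀ a ∈ S, LinearMap.range (shiftMap g a) ≤ A₁ ∨ LinearMap.range (shiftMap g a) ≤ A₂ := by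
    have hbt : (⊥ : Submodule F V) ≠ ⊤ := by
      intro h
      have := congrArg (fun W : Submodule F V => finrank F W) h
      simp at this; omega
    rcases S.eq_empty_or_nonempty with h | ⟨a, ha⟩
    · exact ⟨⊥, ⊥, hbt, hbt, by simp [h]⟩
    · rcases (S.erase a).eq_empty_or_nonempty with h | ⟨a', ha'⟩
      · refine ⟨_, ⊥, hproper a ha, hbt, fun x hx => Or.inl ?_⟩
        by_cases hxa : x = a
        · rw [hxa]
        · exact absurd (Finset.mem_erase.2 ⟨hxa, hx⟩) (by rw [h]; simp)
      · refine ⟨_, _, hproper a ha, hproper a' (Finset.mem_of_mem_erase ha'), fun x hx => ?_⟩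
        by_cases hxa : x = a
        · left; rw [hxa]
        · right
          have hone : (S.erase a).card ≤ 1 := by rw [Finset.card_erase_of_mem ha]; omega
          rw [Finset.card_le_one.1 hone x (Finset.mem_erase.2 ⟨hxa, hx⟩) a' ha']
  obtain ⟨v, hvA, hvB, hv⟩ := H41.Reg.exists_not_eigen e g hns A₁ A₂ hA₁ hA₂
  have hout : ∀ a ∈ S, v ∉ LinearMap.range (shiftMap g a) := fun a ha hm => by
    rcases hcov a ha with h | h
    exacts [hvA (h hm), hvB (h hm)]
  have hgout : ∀ a ∈ S, g v ∉ LinearMap.range (shiftMap g a) := by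
    rintro a ha ⟨y, hy⟩
    obtain ⟨y', rfl⟩ := (LinearMap.injective_iff_surjective.1 hg) y
    refine hout a ha ⟨y', hg ?_⟩
    rw [← hy]; simp [map_sub, map_smul]
  -- the special kernel
  let T : Finset F := Finset.univ.filter fun a => rk a = 1 ∨ (a = μ ∧ rk a = 2)
  have hT1 : T.card ≤ 1 := by
    rw [Finset.card_le_one]
    intro a ha b' hb'
    by_contra hne
    simp only [T, Finset.mem_filter, Finset.mem_univ, true_and] at ha hb'
    have := two_kernels g hne
    have := hdim a; have := hdim b'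
    rcases ha with ha | ha <;> rcases hb' with hb' | hb' <;>
      first
        | omega
        | exact hne (ha.1.trans hb'.1.symm)
  have hli : LinearIndependent F ![v, g v] := by
    rw [LinearIndependent.pair_iff' (fun h => hv 0 (by rw [h, map_zero, smul_zero]))]
    exact fun a h => hv a h.symm
  have hv0 : v ≠ 0 := fun h => hv 0 (by rw [h, map_zero, smul_zero])
  obtain ⟨φ₀, hφ₀, hφ₀'⟩ := exists_dual_two (F := F) (x := v) (s := {g v}) (by
    intro hm
    obtain ⟨a, ha⟩ := Submodule.mem_span_singleton.1 hm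
    by_cases ha0 : a = 0
    · exact hv0 (by rw [← ha, ha0, zero_smul])
    · exact hv a⁻¹ (by conv_rhs => rw [← ha, inv_smul_smul₀ ha0]))
  obtain ⟨φ₁, hφ₁, hφ₁'⟩ := exists_dual_two (F := F) (x := g v) (s := {v}) (by
    intro hm
    obtain ⟨a, ha⟩ := Submodule.mem_span_singleton.1 hm
    exact hv a ha.symm)
  have hz : ∃ z : V, (∀ a ∈ T, z ∈ LinearMap.ker (shiftMap g a)) ∧ (T.Nonempty → z ∉ Submodule.span F {v, g v}) := by
    rcases T.eq_empty_or_nonempty with h | ⟨a, ha⟩
    · exact ⟨0, by simp [h], fun h' => absurd h' (by simp [h])⟩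
    · have hall : ∀ x ∈ T, x = a := fun x hx => Finset.card_le_one.1 hT1 x hx a ha
      by_contra hcon
      push Not at hcon
      have hle : LinearMap.ker (shiftMap g a) ≤ Submodule.span F {v, g v} := fun z hzk =>
        (hcon z fun x hx => (hall x hx) ▸ hzk).2
      have hrk2 : rk a ≤ 2 := by
        simp only [T, Finset.mem_filter, Finset.mem_univ, true_and] at ha
        omega
      have hspan : finrank F (Submodule.span F ({v, g v} : Set V)) ≤ 2 := H41.Reg.span_two_le _ _
      have := hdim a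
      have heq := Submodule.eq_of_le_of_finrank_le hle (by omega)
      have hvk : v ∈ LinearMap.ker (shiftMap g a) := heq ▸ Submodule.subset_span (by simp)
      exact hv a (mem_ker_shift hvk)
  obtain ⟨z, hzk, hzspan⟩ := hz
  let Ok : Dual F V → Prop := fun p => p v = 1 ∧ p (g v) = b ∧ (T.Nonempty → p z ≠ 0)
  obtain ⟨p₀, hp₀⟩ : ∃ p, Ok p := by
    by_cases hTn : T.Nonempty
    · obtain ⟨φz, hφz, hφz'⟩ := exists_dual_two (F := F) (hzspan hTn)
      refine ⟨φ₀ + b • φ₁ + (1 - φ₀ z - b * φ₁ z) • φz, ?_, ?_, fun _ => ?_⟩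
      · simp [hφ₀, hφ₁' v rfl, hφz' v (by simp)]
      · simp [hφ₁, hφ₀' (g v) rfl, hφz' (g v) (by simp)]
      · simp [hφz]
    · exact ⟨φ₀ + b • φ₁, by simp [hφ₀, hφ₁' v rfl], by simp [hφ₁, hφ₀' (g v) rfl], fun h => absurd h hTn⟩
  obtain ⟨p, hpok, hpg⟩ : ∃ p, Ok p ∧ p ∘ₗ g ≠ b • p := by
    by_contra hcon
    push Not at hcon
    have hδ : ∀ δ : Dual F V, δ v = 0 → δ (g v) = 0 → δ ∘ₗ g = b • δ := by
      intro δ h1 h2
      obtain ⟨t, ht0, ht⟩ : ∃ t : F, t ≠ 0 ∧ (T.Nonempty → p₀ z + t * δ z ≠ 0) := by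
        by_cases hTn : T.Nonempty
        · by_cases hδz : δ z = 0
          · exact ⟨1, one_ne_zero, fun _ => by simpa [hδz] using hp₀.2.2 hTn⟩
          · obtain ⟨t, ht⟩ := Finset.exists_mem_notMem_of_card_lt_card
              (s := ({0, -p₀ z / δ z} : Finset F)) (t := Finset.univ)
              (by rw [Finset.card_univ]; exact lt_of_le_of_lt Finset.card_le_two (by omega))
            simp only [Finset.mem_insert, Finset.mem_singleton, not_or, Finset.mem_univ, true_and] at ht
            refine ⟨t, ht.1, fun _ h => ht.2 ?_⟩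
            field_simp
            linear_combination h
        · exact ⟨1, one_ne_zero, fun h => absurd h hTn⟩
      have e1 := hcon (p₀ + t • δ) ⟨by simp [hp₀.1, h1], by simp [hp₀.2.1, h2], fun hn => by simpa using ht hn⟩
      rw [LinearMap.add_comp, LinearMap.smul_comp, hcon p₀ hp₀, smul_add, smul_comm b] at e1
      exact smul_right_injective (Dual F V) ht0 (add_left_cancel e1)
    have hline : LinearMap.range (shiftMap g b) ≤ F ∙ (g v - b • v) := by
      rintro _ ⟨x, rfl⟩
      have hmem : shiftMap g b x ∈ Submodule.span F {v, g v} := by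
        by_contra hn
        obtain ⟨δ, hδ1, hδ0⟩ := exists_dual_two (F := F) hn
        have e := LinearMap.congr_fun (hδ δ (hδ0 v (by simp)) (hδ0 (g v) (by simp))) x
        simp only [LinearMap.comp_apply, LinearMap.smul_apply, smul_eq_mul] at e
        simp only [shiftMap_apply, map_sub, map_smul, smul_eq_mul, e, sub_self] at hδ1
        exact zero_ne_one hδ1
      obtain ⟨α, β, hab⟩ := Submodule.mem_span_pair.1 hmem
      have e := LinearMap.congr_fun (hcon p₀ hp₀) x
      simp only [LinearMap.comp_apply, LinearMap.smul_apply, smul_eq_mul] at e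
      have e2 := congrArg p₀ hab
      simp only [map_add, map_smul, hp₀.1, hp₀.2.1, smul_eq_mul, mul_one, shiftMap_apply, map_sub, e, sub_self] at e2
      refine Submodule.mem_span_singleton.2 ⟨β, ?_⟩
      rw [← hab, smul_sub, smul_smul, show β * b = -α by linear_combination e2, neg_smul, sub_neg_eq_add, add_comm]
    have := (hb.trans (Submodule.finrank_mono hline)).trans (finrank_span_le_card _)
    simp at this
  obtain ⟨hpv, hpgv, hpz⟩ := hpok
  refine ⟨v, p, hpv, hpgv, hv b, hpg, fun ν => ?_, ?_⟩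
  · -- no scalar complement
    by_contra hcon
    push Not at hcon
    have hsmall : LinearMap.range (shiftMap g ν) ≤ Submodule.span F {g v, shiftMap g ν v} := by
      rintro _ ⟨x, rfl⟩
      have h1 := hcon (x - p x • v) (by simp [hpv])
      have h2 : shiftMap g ν x = (g (x - p x • v) - ν • (x - p x • v)) + p x • shiftMap g ν v := by
        simp [smul_sub, smul_smul, mul_comm]; abel
      rw [h2]
      exact Submodule.add_mem _ (Submodule.span_mono (by simp) h1)
        (Submodule.smul_mem _ _ (Submodule.subset_span (by simp)))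
    have h2 : rk ν ≤ 2 := (Submodule.finrank_mono hsmall).trans (H41.Reg.span_two_le _ _)
    have hνS : ν ∈ S := by simp [S, h2]
    have hker : ∀ x, p x = 0 → x ∈ LinearMap.ker (shiftMap g ν) := by
      intro x hx
      obtain ⟨a, ha⟩ := Submodule.mem_span_singleton.1 (hcon x hx)
      rw [LinearMap.mem_ker, shiftMap_apply, ← ha]
      by_cases ha0 : a = 0
      · rw [ha0, zero_smul]
      · exact absurd ⟨a⁻¹ • x, by rw [map_smul, shiftMap_apply, ← ha, inv_smul_smul₀ ha0]⟩ (hgout ν hνS)
    have hle1 : LinearMap.range (shiftMap g ν) ≤ F ∙ shiftMap g ν v := by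
      rintro _ ⟨x, rfl⟩
      have h1 : shiftMap g ν (x - p x • v) = 0 := hker _ (by simp [hpv])
      rw [map_sub, map_smul, sub_eq_zero] at h1
      exact Submodule.mem_span_singleton.2 ⟨p x, h1.symm⟩
    have h1' : rk ν ≤ 1 := (Submodule.finrank_mono hle1).trans ((finrank_span_le_card _).trans (by rw [Set.toFinset_singleton, Finset.card_singleton]))
    have hνT : ν ∈ T := by
      simp only [T, Finset.mem_filter, Finset.mem_univ, true_and]
      have := hpos ν; omega
    have hzz := mem_ker_shift (hzk ν hνT)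
    have hpz' := hpz ⟨ν, hνT⟩
    have hvk : v ∈ LinearMap.ker (shiftMap g ν) := by
      have h1 : z - p z • v ∈ LinearMap.ker (shiftMap g ν) := hker _ (by simp [hpv])
      have h3 := Submodule.sub_mem _ (hzk ν hνT) h1
      rw [sub_sub_cancel] at h3
      exact (Submodule.smul_mem_iff _ hpz').1 h3
    exact hv ν (mem_ker_shift hvk)
  · rintro ⟨a, ha⟩
    by_cases h2 : rk μ = 2
    · have hμT : μ ∈ T := by simp [T, h2]
      have hpz' := hpz ⟨μ, hμT⟩
      have hμS : μ ∈ S := by simp [S, h2]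
      have hle : LinearMap.range (shiftMap g μ) ≤ Submodule.span F {g v, a} := by
        rintro _ ⟨x, rfl⟩
        have h1 := ha (x - (p x / p z) • z) (by simp [div_mul_cancel₀ _ hpz'])
        rw [map_sub, map_smul, mem_ker_shift (hzk μ hμT), smul_sub, smul_comm μ, sub_sub_sub_cancel_right] at h1
        exact h1
      have hlt : LinearMap.range (shiftMap g μ) < Submodule.span F {g v, a} :=
        lt_of_le_of_ne hle fun e => hgout μ hμS (e ▸ Submodule.subset_span (by simp))
      have := Submodule.finrank_lt_finrank_of_lt hlt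
      have hspan : finrank F (Submodule.span F ({g v, a} : Set V)) ≤ 2 := H41.Reg.span_two_le _ _
      simp only [hrk] at h2
      omega
    · have hle : LinearMap.range (shiftMap g μ) ≤ Submodule.span F {g v, a, shiftMap g μ v} := by
        rintro _ ⟨x, rfl⟩
        have h1 := ha (x - p x • v) (by simp [hpv])
        have e : shiftMap g μ x = (g (x - p x • v) - μ • (x - p x • v)) + p x • shiftMap g μ v := by
          simp [smul_sub, smul_smul, mul_comm]; abel
        rw [e]
        exact Submodule.add_mem _ (Submodule.span_mono (by simp [Set.insert_subset_iff]) h1)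
          (Submodule.smul_mem _ _ (Submodule.subset_span (by simp)))
      have hspan : finrank F (Submodule.span F ({g v, a, shiftMap g μ v} : Set V)) ≤ 3 :=
        H41.Reg.span_three_le _ _ _
      have hfr := Submodule.finrank_mono hle
      have hr3 : rk μ = 3 := by simp only [hrk] at h2 ⊢; omega
      have hμS : μ ∈ S := by simp [S, hr3]
      have heq := Submodule.eq_of_le_of_finrank_le hle (by simp only [hrk] at hr3; omega)
      exact hgout μ hμS (heq ▸ Submodule.subset_span (by simp))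

end Choice

/-- Lower triangular with given diagonal and no zero on the subdiagonal. -/
def FullL {n : ℕ} (β : Fin n → F) (L : Matrix (Fin n) (Fin n) F) : Prop :=
  H41.IsLowerWith β L ∧ ∀ i j : Fin n, i.val = j.val + 1 → L i j ≠ 0

/-- Upper triangular with given diagonal and no zero on the superdiagonal. -/
def FullU {n : ℕ} (β : Fin n → F) (U : Matrix (Fin n) (Fin n) F) : Prop :=
  H41.IsUpperWith β U ∧ ∀ i j : Fin n, j.val = i.val + 1 → U i j ≠ 0

/-- **Regular triangular factorisation**: the products of corresponding diagonal entries are equal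
from the second position on. -/
theorem exists_LU [Fintype F] (hq : 4 ≤ Fintype.card F) {k : ℕ} (hk : 2 ≤ k)
    (g : Matrix (Fin (k + 2)) (Fin (k + 2)) F) (hns : ∀ σ : F, g ≠ σ • 1)
    (β γ : Fin (k + 2) → F) (μ : F) (hβ : ∀ i, β i ≠ 0) (hγ : ∀ i, γ i ≠ 0) (hμ : μ ≠ 0)
    (hprod : ∀ i : Fin (k + 1), β i.succ * γ i.succ = μ)
    (hdet : g.det = (∏ i, β i) * ∏ i, γ i)
    (hrμ : 2 ≤ finrank F (LinearMap.range (shiftMap (Matrix.toLin' g) μ)))
    (hrb : 2 ≤ finrank F (LinearMap.range (shiftMap (Matrix.toLin' g) (β 0 * γ 0)))) :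
    ∃ P : Matrix (Fin (k + 2)) (Fin (k + 2)) F, IsUnit P.det ∧
      ∃ L U, FullL β L ∧ FullU γ U ∧ g * P = P * (L * U) := by
  classical
  obtain ⟨e⟩ : Nonempty (Fin 4 ↪ F) := Function.Embedding.nonempty_of_card_le (by simpa using hq)
  have hbig : Nonempty (Fin 5 ↪ F) ∨ ∀ ν : F, ν ^ 2 = 1 → ν = 1 := by
    by_cases h5 : 5 ≤ Fintype.card F
    · exact Or.inl (Function.Embedding.nonempty_of_card_le (by simpa using h5))
    · refine Or.inr fun ν hν => ?_
      have hν0 : ν ≠ 0 := fun h => by simp [h] at hν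
      have h3 := FiniteField.pow_card_sub_one_eq_one ν hν0
      rw [show Fintype.card F - 1 = 2 + 1 by omega, pow_succ, hν, one_mul] at h3
      exact h3
  set b := β 0 * γ 0 with hbdef
  have hb : b ≠ 0 := mul_ne_zero (hβ 0) (hγ 0)
  have hg0 : g.det ≠ 0 := by
    rw [hdet]
    exact mul_ne_zero (Finset.prod_ne_zero_iff.2 fun i _ => hβ i) (Finset.prod_ne_zero_iff.2 fun i _ => hγ i)
  set gl := Matrix.toLin' g with hgl
  have hinj : Function.Injective gl :=
    Matrix.mulVec_injective_of_isUnit ((Matrix.isUnit_iff_isUnit_det _).2 (isUnit_iff_ne_zero.2 hg0))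
  have hns' : ∀ σ : F, ∃ x, gl x ≠ σ • x := by
    intro σ
    by_contra h
    push Not at h
    exact hns σ (Matrix.ext_iff_mulVec.2 fun x => by rw [Matrix.smul_mulVec, Matrix.one_mulVec]; exact h x)
  obtain ⟨v, p, hpv, hpgv, hgv, hpg, hsc, hsm⟩ :=
    exists_choice_one hq gl hinj (by simp; omega) hns' hrμ hrb
  -- the basis
  let f : Fin (k + 2) → F := fun j => p (Pi.single j 1)
  have hf : ∀ x, p x = f ⬝ᵥ x := fun x => by
    conv_lhs => rw [show x = ∑ i, x i • (Pi.single i 1 : Fin (k + 2) → F) from pi_eq_sum_univ' x]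
    rw [map_sum]
    exact Finset.sum_congr rfl fun i _ => by rw [map_smul, smul_eq_mul, mul_comm]
  obtain ⟨P₁, hP₁, hcol⟩ := H41.Reg.exists_col v (fun h => by rw [h, map_zero] at hpv; exact zero_ne_one hpv) 0
  let s : Fin (k + 1) → F := fun j => (f ᵥ* P₁) j.succ
  set P := P₁ * H41.border 1 (-s) 0 1 with hP'
  have hP : IsUnit P.det := by
    rw [hP', Matrix.det_mul, H41.det_border_zero_col]; simpa using hP₁
  have hP0 : ∀ x, P x 0 = v x := fun x => by
    rw [hP', Matrix.mul_apply, Fin.sum_univ_succ]; simp [hcol]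
  have hfP : f ᵥ* P = Pi.single 0 1 := by
    rw [hP', ← Matrix.vecMul_vecMul]
    have h0 : (f ᵥ* P₁) 0 = 1 := by
      have h1 : (f ᵥ* P₁) 0 = f ⬝ᵥ v := by simp [Matrix.vecMul, dotProduct, hcol]
      rw [h1, ← hf, hpv]
    funext j
    cases j using Fin.cases with
    | zero => simp [Matrix.vecMul, dotProduct, Fin.sum_univ_succ] at h0 ⊢; exact h0
    | succ j =>
      have e1 : (f ᵥ* P₁ ᵥ* H41.border 1 (-s) 0 1) j.succ = (f ᵥ* P₁) 0 * (-s j) + (f ᵥ* P₁) j.succ := by
        simp [Matrix.vecMul, dotProduct, Fin.sum_univ_succ, Matrix.one_apply]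
      rw [e1, h0, one_mul, Pi.single_eq_of_ne (Fin.succ_ne_zero j)]
      exact neg_add_cancel _
  clear_value P
  set h := P⁻¹ * g * P with hh
  have hgP : g * P = P * h := by
    rw [hh, Matrix.mul_assoc P⁻¹, ← Matrix.mul_assoc P, Matrix.mul_nonsing_inv _ hP, Matrix.one_mul]
  have hh0 : ∀ i, h i 0 = (P⁻¹ *ᵥ (g *ᵥ v)) i := fun i => by
    rw [hh, Matrix.mulVec_mulVec]
    simp [Matrix.mul_apply, Matrix.mulVec, dotProduct, hP0]
  have h00 : h 0 0 = b := by
    rw [hh0, H41.Reg.inv_mulVec_apply hP hfP, ← hf]; exact hpgv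
  have hform : h = H41.border b (fun j => h 0 j.succ) (fun i => h i.succ 0) (h.submatrix Fin.succ Fin.succ) := by
    conv_lhs => rw [H41.eq_border h, h00]
  set r := fun j : Fin (k + 1) => h 0 j.succ with hrdef
  set c := fun i : Fin (k + 1) => h i.succ 0 with hcdef
  set M := h.submatrix Fin.succ Fin.succ
  have hgv' : g *ᵥ v = P *ᵥ Fin.cons b c := by
    have e1 : P⁻¹ *ᵥ (g *ᵥ v) = Fin.cons b c := by
      funext i
      rw [← hh0]
      cases i using Fin.cases with
      | zero => simp [h00]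
      | succ i => simp [hcdef]
    rw [← e1, Matrix.mulVec_mulVec (M := P), Matrix.mul_nonsing_inv _ hP, Matrix.one_mulVec]
  have hPe : P *ᵥ Pi.single 0 1 = v := by funext x; simp [hP0]
  have hc : c ≠ 0 := by
    intro h0
    apply hgv
    show g *ᵥ v = b • v
    rw [hgv', h0, ← hPe, ← Matrix.mulVec_smul]
    congr 1
    funext i
    cases i using Fin.cases <;> simp
  have hr : r ≠ 0 := by
    intro h0
    apply hpg
    have h1 : f ᵥ* g ᵥ* P = (b • f) ᵥ* P := by
      rw [Matrix.vecMul_vecMul, hgP, ← Matrix.vecMul_vecMul, hfP, Matrix.smul_vecMul, hfP]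
      funext j
      rw [Matrix.single_vecMul, one_smul]
      show h 0 j = _
      cases j using Fin.cases with
      | zero => simp [h00]
      | succ j => simp only [Pi.smul_apply, Pi.single_eq_of_ne (Fin.succ_ne_zero j), smul_zero]; exact congrFun h0 j
    have h2 : f ᵥ* g = b • f := by
      have := congrArg (· ᵥ* P⁻¹) h1
      simpa [Matrix.vecMul_vecMul, Matrix.mul_assoc, Matrix.mul_nonsing_inv _ hP, Matrix.smul_vecMul] using this
    refine LinearMap.ext fun x => ?_
    rw [LinearMap.comp_apply, LinearMap.smul_apply, hgl, Matrix.toLin'_apply, hf, hf, Matrix.dotProduct_mulVec, h2,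
      smul_dotProduct]
  set N := M - b⁻¹ • vecMulVec c r with hN
  have hfac : H41.border b r c M = H41.border 1 0 (b⁻¹ • c) 1 * H41.border b r 0 N := by
    rw [H41.border_mul]
    congr 1
    · simp
    · simp
    · simp [smul_smul, hb]
    · rw [Matrix.one_mul, Matrix.smul_vecMulVec, hN, add_sub_cancel]
  have hdN : N.det = μ ^ (k + 1) := by
    have hd : (g * P).det = (P * h).det := congrArg Matrix.det hgP
    rw [Matrix.det_mul, Matrix.det_mul, hform, hfac, Matrix.det_mul, H41.det_border_zero_row,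
      H41.det_border_zero_col, Matrix.det_one, mul_one, one_mul, hdet, mul_comm P.det] at hd
    have h1 := mul_right_cancel₀ hP.ne_zero hd
    rw [Fin.prod_univ_succ, Fin.prod_univ_succ (f := γ)] at h1
    have hp : (∏ i : Fin (k + 1), β i.succ) * ∏ i : Fin (k + 1), γ i.succ = μ ^ (k + 1) := by
      rw [← Finset.prod_mul_distrib, Finset.prod_congr rfl fun i _ => hprod i, Finset.prod_const,
        Finset.card_univ, Fintype.card_fin]
    refine mul_left_cancel₀ hb ?_
    rw [← hp, ← h1, hbdef]; ring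
  have key : ∀ x, p x = 0 → ∃ y : Fin (k + 1) → F, x = P *ᵥ Fin.cons 0 y ∧
      g *ᵥ x = (b⁻¹ * (r ⬝ᵥ y)) • (g *ᵥ v) + P *ᵥ Fin.cons 0 (N *ᵥ y) := by
    intro x hx
    have hy0 : (P⁻¹ *ᵥ x) 0 = 0 := by rw [H41.Reg.inv_mulVec_apply hP hfP, ← hf, hx]
    obtain ⟨y, hy⟩ : ∃ y : Fin (k + 1) → F, P⁻¹ *ᵥ x = Fin.cons 0 y :=
      ⟨fun i => (P⁻¹ *ᵥ x) i.succ, funext fun i => by cases i using Fin.cases <;> simp [hy0]⟩
    have hx' : x = P *ᵥ Fin.cons 0 y := by
      rw [← hy, Matrix.mulVec_mulVec, Matrix.mul_nonsing_inv _ hP, Matrix.one_mulVec]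
    refine ⟨y, hx', ?_⟩
    rw [hx', Matrix.mulVec_mulVec, hgP, ← Matrix.mulVec_mulVec, hform, H41.Reg.border_mulVec_cons, hgv',
      ← Matrix.mulVec_smul, ← Matrix.mulVec_add]
    congr 1
    funext i
    cases i using Fin.cases with
    | zero => simp; field_simp
    | succ i =>
      simp [hN, Matrix.sub_mulVec, Matrix.smul_mulVec, Matrix.vecMulVec_mulVec]
      ring
  -- the normalised complement
  set N' := μ⁻¹ • N with hN'
  have hdN' : N'.det = 1 := by
    rw [hN', Matrix.det_smul, hdN, Fintype.card_fin, ← mul_pow, inv_mul_cancel₀ hμ, one_pow]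
  have hcons : ∀ (a : F) (y : Fin (k + 1) → F),
      (Fin.cons 0 (a • y) : Fin (k + 2) → F) = a • Fin.cons 0 y := by
    intro a y; funext i; cases i using Fin.cases <;> simp
  have hN'prop : k = 0 ∨ ((∀ σ : F, N' ≠ σ • 1) ∧
      2 ≤ finrank F (LinearMap.range (Matrix.toLin' N' - LinearMap.id : (Fin (k + 1) → F) →ₗ[F] _))) := by
    right
    refine ⟨fun σ hσ => ?_, ?_⟩
    · obtain ⟨x, hx, hx'⟩ := hsc (μ * σ)
      obtain ⟨y, hxy, hgx⟩ := key x hx
      apply hx'
      refine Submodule.mem_span_singleton.2 ⟨b⁻¹ * (r ⬝ᵥ y), ?_⟩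
      have hNy : N *ᵥ y = (μ * σ) • y := by
        have : N = μ • N' := by rw [hN', smul_smul, mul_inv_cancel₀ hμ, one_smul]
        rw [this, hσ, smul_smul, Matrix.smul_mulVec, Matrix.one_mulVec]
      rw [hgl, Matrix.toLin'_apply, Matrix.toLin'_apply, hgx, hNy, hcons, Matrix.mulVec_smul, ← hxy,
        add_sub_cancel_right]
    · by_contra hlt
      obtain ⟨⟨a, ha⟩, hspan⟩ := finrank_le_one_iff.1 (show finrank F _ ≤ 1 by
        exact Nat.le_of_lt_succ (not_le.1 hlt))
      refine hsm ⟨P *ᵥ Fin.cons 0 a, fun x hx => ?_⟩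
      obtain ⟨y, hxy, hgx⟩ := key x hx
      obtain ⟨t, ht⟩ := hspan ⟨_, LinearMap.mem_range_self _ y⟩
      have ht' : t • a = N' *ᵥ y - y := by simpa using congrArg Subtype.val ht
      refine Submodule.mem_span_pair.2 ⟨b⁻¹ * (r ⬝ᵥ y), μ * t, ?_⟩
      have hc2 : (Fin.cons 0 (N *ᵥ y) : Fin (k + 2) → F) = μ • (Fin.cons 0 y : Fin (k + 2) → F) + (μ * t) • (Fin.cons 0 a : Fin (k + 2) → F) := by
        have h3 : (μ * t) • a = N *ᵥ y - μ • y := by
          rw [mul_smul, ht', smul_sub, hN', Matrix.smul_mulVec, smul_inv_smul₀ hμ]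
        funext i
        cases i using Fin.cases with
        | zero => simp
        | succ i =>
          have h4 := congrFun h3 i
          simp only [Pi.smul_apply, Pi.sub_apply, smul_eq_mul] at h4
          simp only [Fin.cons_succ, Pi.add_apply, Pi.smul_apply, smul_eq_mul]
          linear_combination -h4
      rw [hgl, Matrix.toLin'_apply, Matrix.toLin'_apply, hgx, hc2, Matrix.mulVec_add, Matrix.mulVec_smul, ← hxy,
        Matrix.mulVec_smul]
      abel
  obtain ⟨Q, hQ, L', U', hL, hU, hNQ, hcQ, hrQ⟩ := H41.Reg.exists_reg e hbig k N' hdN' hN'prop c r hc hr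
  set β' := fun i : Fin (k + 1) => β i.succ with hβ'
  set L₁ := L' * Matrix.diagonal β' with hL₁
  set U₁ := μ • (Matrix.diagonal (fun i => (β' i)⁻¹) * U') with hU₁
  have hLw : H41.IsLowerWith β' L₁ :=
    ⟨fun i j hij => by simp [hL₁, hL.1.1 i j hij], fun i => by simp [hL₁, hL.1.2 i]⟩
  have hUw : H41.IsUpperWith (fun i => γ i.succ) U₁ := by
    refine ⟨fun i j hij => by simp [hU₁, hU.1.1 i j hij], fun i => ?_⟩
    rw [hU₁, Matrix.smul_apply, Matrix.diagonal_mul, hU.1.2 i, smul_eq_mul, mul_one, ← hprod i]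
    have := hβ i.succ
    simp only [hβ']
    field_simp
  have hNQ' : N * Q = Q * (L₁ * U₁) := by
    have h1 : L₁ * U₁ = μ • (L' * U') := by
      rw [hL₁, hU₁, Matrix.mul_smul, Matrix.mul_assoc L', ← Matrix.mul_assoc (Matrix.diagonal β'),
        Matrix.diagonal_mul_diagonal]
      congr 2
      rw [show (fun i => β' i * (β' i)⁻¹) = fun _ => (1 : F) from funext fun i => mul_inv_cancel₀ (hβ i.succ),
        Matrix.diagonal_one, Matrix.one_mul]
    rw [h1, Matrix.mul_smul, ← hNQ, hN', Matrix.smul_mul, smul_smul, mul_inv_cancel₀ hμ, one_smul]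
  refine ⟨P * H41.border 1 0 0 Q, ?_, H41.border (β 0) 0 ((γ 0)⁻¹ • (Q⁻¹ *ᵥ c)) L₁,
    H41.border (γ 0) ((β 0)⁻¹ • (r ᵥ* Q)) 0 U₁, ⟨H41.isLowerWith_border hLw, ?_⟩,
    ⟨H41.isUpperWith_border hUw, ?_⟩, ?_⟩
  · rw [Matrix.det_mul, H41.det_border_zero_col, one_mul]
    exact hP.mul hQ
  · intro i j hij
    cases i using Fin.cases with
    | zero => simp at hij
    | succ i =>
      cases j using Fin.cases with
      | zero =>
        simp at hij
        rw [show i = 0 from Fin.ext (by simpa using hij), H41.border_succ_zero]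
        exact mul_ne_zero (inv_ne_zero (hγ 0)) hcQ
      | succ j =>
        rw [H41.border_succ_succ, hL₁, Matrix.mul_diagonal]
        exact mul_ne_zero (hL.2 i j (by simpa using hij)) (hβ _)
  · intro i j hij
    cases j using Fin.cases with
    | zero => simp at hij
    | succ j =>
      cases i using Fin.cases with
      | zero =>
        simp at hij
        rw [show j = 0 from Fin.ext (by simpa using hij), H41.border_zero_succ]
        exact mul_ne_zero (inv_ne_zero (hβ 0)) hrQ
      | succ i =>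
        rw [H41.border_succ_succ, hU₁, Matrix.smul_apply, Matrix.diagonal_mul]
        exact mul_ne_zero hμ (mul_ne_zero (inv_ne_zero (hβ _)) (hU.2 i j (by simpa using hij)))
  · rw [← Matrix.mul_assoc g, hgP, Matrix.mul_assoc P, Matrix.mul_assoc P]
    congr 1
    conv_lhs => rw [hform]
    rw [H41.border_mul, H41.border_mul, H41.border_mul]
    congr 1
    · simp [hbdef]
    · simp [smul_smul, hβ 0]
    · simp [smul_smul, hγ 0, Matrix.mulVec_smul, Matrix.mulVec_mulVec, Matrix.mul_nonsing_inv _ hQ]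
    · have hMQ : M * Q = N * Q + b⁻¹ • vecMulVec c r * Q := by
        rw [← Matrix.add_mul, hN, sub_add_cancel]
      have hcQ' : Q *ᵥ (Q⁻¹ *ᵥ c) = c := by
        rw [Matrix.mulVec_mulVec, Matrix.mul_nonsing_inv _ hQ, Matrix.one_mulVec]
      simp only [Matrix.vecMulVec_zero, Matrix.zero_vecMulVec, zero_add, Matrix.mul_add, hMQ, hNQ',
        Matrix.smul_vecMulVec, Matrix.vecMulVec_smul, Matrix.mul_smul, Matrix.mul_vecMulVec, hcQ',
        Matrix.smul_mul, Matrix.vecMulVec_mul, smul_smul, hbdef, mul_inv]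
      exact add_comm _ _

end H89.CN
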