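import Cfsg.Agent.H89.CN.Decomp
import Cfsg.Agent.H89.CN.Reg1

/-!
Products of members of a set of matrices; covering by products of cyclic classes.
-/

set_option autoImplicit false

namespace H89.CN

open Matrix Polynomial Module

variable {F : Type*} [Field F] {n : ℕ}

/-- The products of `k` members. -/
def Prods (S : Set (Matrix (Fin n) (Fin n) F)) : ℕ → Set (Matrix (Fin n) (Fin n) F)
  | 0 => {1}
  | k + 1 => {g | ∃ X ∈ S, ∃ h ∈ Prods S k, g = X * h}

lemma prods_mul {S : Set (Matrix (Fin n) (Fin n) F)} {a b : ℕ} {x y : Matrix (Fin n) (Fin n) F}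
    (hx : x ∈ Prods S a) (hy : y ∈ Prods S b) : x * y ∈ Prods S (a + b) := by
  induction a generalizing x with
  | zero =>
    rw [Set.mem_singleton_iff.1 hx, Matrix.one_mul, Nat.zero_add]; exact hy
  | succ a ih =>
    obtain ⟨X, hX, h, hh, rfl⟩ := hx
    rw [Nat.succ_add]
    exact ⟨X, hX, h * y, ih hh, Matrix.mul_assoc _ _ _⟩

lemma prods_one {S : Set (Matrix (Fin n) (Fin n) F)} {X : Matrix (Fin n) (Fin n) F} (hX : X ∈ S) : X ∈ Prods S 1 :=
  ⟨X, hX, 1, rfl, (Matrix.mul_one X).symm⟩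

lemma prods_exists {S : Set (Matrix (Fin n) (Fin n) F)} : ∀ {k : ℕ} {g : Matrix (Fin n) (Fin n) F},
    g ∈ Prods S k → ∃ f : Fin k → Matrix (Fin n) (Fin n) F, (∀ i, f i ∈ S) ∧ g = (List.ofFn f).prod
  | 0, g, h => ⟨Fin.elim0, fun i => i.elim0, by simpa using Set.mem_singleton_iff.1 h⟩
  | k + 1, g, ⟨X, hX, h, hh, he⟩ => by
    obtain ⟨f, hf, rfl⟩ := prods_exists hh
    refine ⟨Fin.cons X f, fun i => by cases i using Fin.cases <;> simp [hX, hf], ?_⟩
    rw [he, List.ofFn_succ]; simp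

lemma prods_det {S : Set (Matrix (Fin n) (Fin n) F)} {d : F} (hd : ∀ X ∈ S, X.det = d) :
    ∀ {k : ℕ} {g : Matrix (Fin n) (Fin n) F}, g ∈ Prods S k → g.det = d ^ k
  | 0, g, h => by rw [Set.mem_singleton_iff.1 h]; simp
  | k + 1, g, ⟨X, hX, h, hh, he⟩ => by rw [he, Matrix.det_mul, hd X hX, prods_det hd hh, pow_succ']

/-- A set contains the whole similarity class. -/
def Full (C : Set (Matrix (Fin n) (Fin n) F)) (T : Matrix (Fin n) (Fin n) F) : Prop :=
  ∀ X, Sim T X → X ∈ C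

/-- A set contains all cyclic matrices of the given determinant. -/
def AllCyc (C : Set (Matrix (Fin n) (Fin n) F)) (d : F) : Prop :=
  ∀ M : Matrix (Fin n) (Fin n) F, Cyc M → M.det = d → M ∈ C

lemma sim_conj {A B : Matrix (Fin n) (Fin n) F} {P : Matrix (Fin n) (Fin n) F} (hP : IsUnit P.det)
    (h : B = P * A * P⁻¹) : Sim A B :=
  ⟨P, hP, by rw [h, Matrix.mul_assoc, Matrix.nonsing_inv_mul _ hP, Matrix.mul_one]⟩

lemma eq_conj {A B P : Matrix (Fin n) (Fin n) F} (hP : IsUnit P.det) (h : P * A = B * P) : B = P * A * P⁻¹ := by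
  rw [h, Matrix.mul_assoc, Matrix.mul_nonsing_inv _ hP, Matrix.mul_one]

lemma mem_of_mul {S : Set (Matrix (Fin n) (Fin n) F)} {a b : ℕ} {T T' X Y g : Matrix (Fin n) (Fin n) F}
    (hT : Full (Prods S a) T) (hT' : Full (Prods S b) T') (hX : Sim T X) (hY : Sim T' Y) (hg : Sim (X * Y) g) :
    g ∈ Prods S (a + b) := by
  obtain ⟨R, hR, he⟩ := hg
  have : g = (R * X * R⁻¹) * (R * Y * R⁻¹) := by
    rw [eq_conj hR he, Matrix.mul_assoc (R * X) R⁻¹, Matrix.mul_assoc R Y,
      Matrix.nonsing_inv_mul_cancel_left _ _ hR]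
    simp only [Matrix.mul_assoc]
  rw [this]
  exact prods_mul (hT _ (hX.trans (sim_conj hR rfl))) (hT' _ (hY.trans (sim_conj hR rfl)))

lemma coeff_zero_eq (M : Matrix (Fin n) (Fin n) F) : M.charpoly.coeff 0 = (-1) ^ n * M.det := by
  rw [Matrix.det_eq_sign_charpoly_coeff, Fintype.card_fin, ← mul_assoc, ← mul_pow]
  simp

lemma cyc_similar' {M M' : Matrix (Fin n) (Fin n) F} (h : Cyc M) (h' : Cyc M') (hc : M.charpoly = M'.charpoly) :
    Sim M M' := cyc_similar h h' hc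

/-- **Two cyclic classes cover all cyclic matrices.** -/
theorem allCyc_mul [Fintype F] (hq : 3 ≤ Fintype.card F) (hn : 3 ≤ n) {S : Set (Matrix (Fin n) (Fin n) F)}
    {a b : ℕ} {T T' : Matrix (Fin n) (Fin n) F} {β : Fin n → F} (hT : Cyc T) (hs : SplitBy T β)
    (hβ : ∀ i, β i ≠ 0) (hT' : Cyc T') (hT'0 : T'.det ≠ 0) (hFT : Full (Prods S a) T)
    (hFT' : Full (Prods S b) T') : AllCyc (Prods S (a + b)) (T.det * T'.det) := by
  intro M hM hdet
  obtain ⟨σ, hσ⟩ := exists_grouped β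
  have hdetT : (∏ i, (β ∘ σ) i) = T.det := by rw [hs.det]; exact Equiv.prod_comp σ β
  obtain ⟨L, hL, hLc, hLp⟩ := exists_lower_mul hq hn (β ∘ σ) (fun i => hβ _) (Matrix.charpoly_monic T')
    (charpoly_natDegree_fin T') (by rw [coeff_zero_eq]; exact mul_ne_zero (pow_ne_zero _ (by simp)) hT'0)
    (Matrix.charpoly_monic M) (charpoly_natDegree_fin M)
    (by rw [coeff_zero_eq, coeff_zero_eq, hdetT, hdet]; ring)
  have hY := cyc_rComp (Matrix.charpoly_monic T') (charpoly_natDegree_fin T')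
  exact mem_of_mul hFT hFT'
    (cyc_similar' hT (cyc_lower hL.1 (fun i => hβ _) hσ hL.2) (by rw [splitBy_perm hs σ, splitBy_lower hL.1]))
    (cyc_similar' hT' hY.1 hY.2.symm) (cyc_similar' hLc hM hLp)

lemma AllCyc.full {C : Set (Matrix (Fin n) (Fin n) F)} {d : F} (h : AllCyc C d)
    {T : Matrix (Fin n) (Fin n) F} (hT : Cyc T) (hd : T.det = d) : Full C T :=
  fun _ hX => h _ (Cyc.of_sim hX hT) (hX.det_eq.symm.trans hd)

lemma exists_cyc_det (hn : 1 ≤ n) {d : F} : ∃ M : Matrix (Fin n) (Fin n) F, Cyc M ∧ M.det = d := by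
  set χ : F[X] := X ^ n + C ((-1) ^ n * d) with hχ
  have hm : χ.Monic := monic_X_pow_add_C _ (by omega)
  have hd : χ.natDegree = n := natDegree_X_pow_add_C
  obtain ⟨h1, h2⟩ := cyc_rComp hm hd
  refine ⟨_, h1, ?_⟩
  rw [Matrix.det_eq_sign_charpoly_coeff, h2, Fintype.card_fin, hχ, coeff_add, coeff_X_pow, coeff_C_zero,
    if_neg (by omega), zero_add, ← mul_assoc, ← mul_pow]
  simp

lemma inv_lower {β : Fin n → F} {L : Matrix (Fin n) (Fin n) F} (hL : H41.IsLowerWith β L)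
    (hu : IsUnit L.det) (μ : F) : H41.IsLowerWith (fun i => μ * (β i)⁻¹) (μ • L⁻¹) := by
  haveI : Invertible L := Matrix.invertibleOfIsUnitDet L hu
  have hLt : Matrix.BlockTriangular L OrderDual.toDual := fun i j h => hL.1 i j h
  have hinv := Matrix.blockTriangular_inv_of_blockTriangular hLt
  refine ⟨fun i j hij => ?_, fun i => ?_⟩
  · simp [hinv (show OrderDual.toDual j < OrderDual.toDual i from hij)]
  · have h1 := congrFun (congrFun (Matrix.mul_nonsing_inv L hu) i) i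
    rw [Matrix.mul_apply, Finset.sum_eq_single i] at h1
    · rw [hL.2 i, Matrix.one_apply_eq] at h1
      rw [Matrix.smul_apply, smul_eq_mul, eq_inv_of_mul_eq_one_right h1]
    · intro b _ hb
      rcases lt_or_gt_of_ne hb with hb' | hb'
      · rw [hinv (show OrderDual.toDual i < OrderDual.toDual b from hb'), mul_zero]
      · rw [hL.1 i b hb', zero_mul]
    · simp

lemma exists_rankOne_of_rank {g : Matrix (Fin n) (Fin n) F} {μ : F}
    (h : ¬ 2 ≤ finrank F (LinearMap.range (shiftMap (Matrix.toLin' g) μ))) :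
    ∃ u ψ : Fin n → F, g = μ • (1 : Matrix (Fin n) (Fin n) F) + vecMulVec u ψ := by
  obtain ⟨⟨u, hu⟩, hspan⟩ := finrank_le_one_iff.1 (show finrank F _ ≤ 1 by exact Nat.le_of_lt_succ (not_le.1 h))
  choose c hc using fun j => hspan ⟨_, LinearMap.mem_range_self (shiftMap (Matrix.toLin' g) μ) (Pi.single j 1)⟩
  refine ⟨u, c, ?_⟩
  ext i j
  have h1 := congrFun (congrArg Subtype.val (hc j)) i
  simp [Matrix.mulVec_single, Pi.single_apply] at h1
  simp only [Matrix.add_apply, Matrix.smul_apply, Matrix.one_apply, smul_eq_mul, mul_ite, mul_one, mul_zero,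
    Matrix.vecMulVec_apply]
  rw [mul_comm, h1]
  ring

/-- **Paired diagonals**: two cyclic classes whose eigenvalue products are constant from the second position on
cover every non-scalar matrix, and the scalar matrix of the constant. -/
theorem mem_paired [Fintype F] (hq : 4 ≤ Fintype.card F) {k : ℕ} (hk : 2 ≤ k)
    {S : Set (Matrix (Fin (k + 2)) (Fin (k + 2)) F)} {a b : ℕ} {T T' : Matrix (Fin (k + 2)) (Fin (k + 2)) F}
    {β γ : Fin (k + 2) → F} (hT : Cyc T) (hsT : SplitBy T β) (hgβ : Grouped β) (hβ : ∀ i, β i ≠ 0)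
    (hT' : Cyc T') (hsT' : SplitBy T' γ) (hgγ : Grouped γ) (hγ : ∀ i, γ i ≠ 0)
    (hFT : Full (Prods S a) T) (hFT' : Full (Prods S b) T') {μ : F} (hμ : μ ≠ 0)
    (hprod : ∀ i : Fin (k + 1), β i.succ * γ i.succ = μ) {g : Matrix (Fin (k + 2)) (Fin (k + 2)) F}
    (hdet : g.det = T.det * T'.det) (hg : g = μ • 1 ∨ ∀ σ : F, g ≠ σ • 1) : g ∈ Prods S (a + b) := by
  classical
  have hsim : ∀ {L}, FullL β L → Sim T L := fun {L} hL =>
    cyc_similar' hT (cyc_lower hL.1 hβ hgβ (fun i j hij _ => hL.2 i j hij)) (by rw [hsT, splitBy_lower hL.1])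
  have hsim' : ∀ {U}, FullU γ U → Sim T' U := fun {U} hU =>
    cyc_similar' hT' (cyc_upper hU.1 hγ hgγ (fun i j hij _ => hU.2 i j hij)) (by rw [hsT', splitBy_upper hU.1])
  rcases hg with hg | hns
  · subst hg
    have hb0 : β 0 * γ 0 = μ := by
      rw [Matrix.det_smul, Matrix.det_one, mul_one, Fintype.card_fin, hsT.det, hsT'.det, Fin.prod_univ_succ,
        Fin.prod_univ_succ (f := γ)] at hdet
      have hp : (∏ i : Fin (k + 1), β i.succ) * ∏ i : Fin (k + 1), γ i.succ = μ ^ (k + 1) := by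
        rw [← Finset.prod_mul_distrib, Finset.prod_congr rfl fun i _ => hprod i, Finset.prod_const,
          Finset.card_univ, Fintype.card_fin]
      refine mul_right_cancel₀ (pow_ne_zero (k + 1) hμ) ?_
      rw [← pow_succ', hdet, ← hp]; ring
    have hall : ∀ i, μ * (β i)⁻¹ = γ i := by
      intro i
      have : β i * γ i = μ := by cases i using Fin.cases <;> [exact hb0; exact hprod _]
      rw [← this]; field_simp [hβ i]
    set L := bidiag β with hL
    have hsL : SplitBy L β := splitBy_lower (bidiag_regL β).1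
    have hu : IsUnit L.det := by
      rw [hsL.det, isUnit_iff_ne_zero]; exact Finset.prod_ne_zero_iff.2 fun i _ => hβ i
    have hLc : Cyc L := cyc_lower (bidiag_regL β).1 hβ hgβ (bidiag_regL β).2
    have hc : Sim T' (μ • L⁻¹) := cyc_similar' hT' (cyc_inv hLc hu hμ) (by
      rw [hsT', splitBy_lower (inv_lower (bidiag_regL β).1 hu μ)]
      exact Finset.prod_congr rfl fun i _ => by rw [show (fun i => μ * (β i)⁻¹) i = μ * (β i)⁻¹ from rfl, hall i])
    refine mem_of_mul hFT hFT' (cyc_similar' hT hLc (by rw [hsT, hsL])) hc ?_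
    rw [Matrix.mul_smul, Matrix.mul_nonsing_inv _ hu]
    exact Sim.refl _
  by_cases hrμ : 2 ≤ finrank F (LinearMap.range (shiftMap (Matrix.toLin' g) μ))
  · by_cases hrb : 2 ≤ finrank F (LinearMap.range (shiftMap (Matrix.toLin' g) (β 0 * γ 0)))
    · obtain ⟨P, hP, L, U, hL, hU, he⟩ := exists_LU hq hk g hns β γ μ hβ hγ hμ hprod
        (by rw [hdet, hsT.det, hsT'.det]) hrμ hrb
      exact mem_of_mul hFT hFT' (hsim hL) (hsim' hU) ⟨P, hP, he.symm⟩
    · obtain ⟨u, ψ, he⟩ := exists_rankOne_of_rank hrb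
      have hu : u ≠ 0 := fun h => hns (β 0 * γ 0) (by rw [he, h, Matrix.zero_vecMulVec, add_zero])
      have hψ : ψ ≠ 0 := fun h => hns (β 0 * γ 0) (by rw [he, h, Matrix.vecMulVec_zero, add_zero])
      obtain ⟨A, B, P, R, Q, hP, hR, hQ, e1, e2, e3⟩ := exists_prod_rankOne (by omega) hT hsT hβ hT'
        (mul_ne_zero (hβ 0) (hγ 0)) hu hψ (by rw [← he, hdet])
      rw [← he] at e3
      exact mem_of_mul hFT hFT' ⟨P, hP, e1⟩ ⟨R, hR, e2⟩ (Sim.symm ⟨Q, hQ, e3⟩)
  · obtain ⟨u, ψ, he⟩ := exists_rankOne_of_rank hrμ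
    have hu : u ≠ 0 := fun h => hns μ (by rw [he, h, Matrix.zero_vecMulVec, add_zero])
    have hψ : ψ ≠ 0 := fun h => hns μ (by rw [he, h, Matrix.vecMulVec_zero, add_zero])
    obtain ⟨A, B, P, R, Q, hP, hR, hQ, e1, e2, e3⟩ := exists_prod_rankOne (by omega) hT hsT hβ hT'
      hμ hu hψ (by rw [← he, hdet])
    rw [← he] at e3
    exact mem_of_mul hFT hFT' ⟨P, hP, e1⟩ ⟨R, hR, e2⟩ (Sim.symm ⟨Q, hQ, e3⟩)

end H89.CN
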