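import Cfsg.Agent.H89.CN.GLMain

/-!
Products of pseudo-reflections and transvections with a common determinant.
-/

set_option autoImplicit false

namespace H89.CN

open Matrix Module

variable {F : Type*} [Field F] {n : ℕ}

/-- The rank one modifications of the identity of determinant `δ`. -/
def RankOne (n : ℕ) (δ : F) : Set (Matrix (Fin n) (Fin n) F) :=
  {X | ∃ u ψ : Fin n → F, u ≠ 0 ∧ ψ ≠ 0 ∧ ψ ⬝ᵥ u = δ - 1 ∧ X = 1 + vecMulVec u ψ}

lemma oneAdd_mul (u v ψ : Fin n → F) :
    (1 + vecMulVec u ψ) * (1 + vecMulVec v ψ) = 1 + vecMulVec (u + v + (ψ ⬝ᵥ v) • u) ψ := by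
  rw [Matrix.add_mul, Matrix.mul_add, Matrix.mul_add, Matrix.one_mul, Matrix.one_mul, Matrix.mul_one,
    Matrix.vecMulVec_mul_vecMulVec]
  ext i j
  simp [Matrix.vecMulVec_apply]
  ring

lemma oneAdd_det (u ψ : Fin n → F) : (1 + vecMulVec u ψ).det = 1 + ψ ⬝ᵥ u := by
  rw [Matrix.vecMulVec_eq Unit, Matrix.det_one_add_replicateCol_mul_replicateRow]

lemma rankOne_det {δ : F} {X : Matrix (Fin n) (Fin n) F} (h : X ∈ RankOne n δ) : X.det = δ := by
  obtain ⟨u, ψ, -, -, he, rfl⟩ := h
  rw [oneAdd_det, he, add_sub_cancel]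

lemma oneAdd_inv {δ : F} (hδ : δ ≠ 0) {u ψ : Fin n → F} (h : ψ ⬝ᵥ u = δ - 1) :
    (1 + vecMulVec u ψ) * (1 + vecMulVec (-δ⁻¹ • u) ψ) = 1 := by
  rw [oneAdd_mul, dotProduct_smul, h, smul_eq_mul]
  have : u + -δ⁻¹ • u + (-δ⁻¹ * (δ - 1)) • u = 0 := by
    conv_lhs => arg 1; arg 1; rw [← one_smul F u]
    rw [← add_smul, ← add_smul]
    have : (1 : F) + -δ⁻¹ + -δ⁻¹ * (δ - 1) = 0 := by field_simp; ring
    rw [this, zero_smul]
  rw [this, Matrix.zero_vecMulVec, add_zero]

lemma dual_vec (φ : Dual F (Fin n → F)) : ∃ w : Fin n → F, ∀ x, w ⬝ᵥ x = φ x := by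
  refine ⟨fun i => φ (Pi.single i 1), fun x => ?_⟩
  conv_rhs => rw [pi_eq_sum_univ' x, map_sum]
  exact Finset.sum_congr rfl fun i _ => by rw [map_smul, smul_eq_mul, mul_comm]

/-- Several rank one factors with one functional. -/
lemma rankOne_split [Fintype F] (hq : 3 ≤ Fintype.card F) (hn : 2 ≤ n) {δ : F} (hδ : δ ≠ 0) :
    ∀ (i : ℕ) {u ψ : Fin n → F}, u ≠ 0 → ψ ≠ 0 → ψ ⬝ᵥ u = δ ^ (i + 1) - 1 →
      1 + vecMulVec u ψ ∈ Prods (RankOne n δ) (i + 1)
  | 0, u, ψ, hu, hψ, h => prods_one ⟨u, ψ, hu, hψ, by rwa [pow_one] at h, rfl⟩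
  | i + 1, u, ψ, hu, hψ, h => by
    classical
    obtain ⟨j, hj⟩ := Function.ne_iff.1 hψ
    simp only [Pi.zero_apply] at hj
    set c : Fin n → F := Pi.single j ((δ - 1) / ψ j) with hc
    have hcψ : ψ ⬝ᵥ c = δ - 1 := by rw [hc, dotProduct_single]; field_simp
    obtain ⟨j', hj'⟩ : ∃ j' : Fin n, j' ≠ j := by
      haveI : Nontrivial (Fin n) := Fin.nontrivial_iff_two_le.2 hn
      exact exists_ne j
    set k : Fin n → F := ψ j' • Pi.single j 1 - ψ j • Pi.single j' 1 with hk
    have hkψ : ψ ⬝ᵥ k = 0 := by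
      rw [hk, dotProduct_sub, dotProduct_smul, dotProduct_smul, dotProduct_single, dotProduct_single]
      simp [mul_comm]
    have hk0 : k ≠ 0 := fun h0 => hj (by
      have := congrFun h0 j'
      simpa [hk, hj'] using this)
    set z : Fin n → F := (δ ^ (i + 1))⁻¹ • u
    obtain ⟨x, hx⟩ : ∃ x : F, c + x • k ≠ 0 ∧ c + x • k ≠ z := by
      by_contra hcon
      push Not at hcon
      have hsub : (Finset.univ : Finset F).image (fun x => c + x • k) ⊆ {0, z} := by
        intro y hy
        obtain ⟨x, -, rfl⟩ := Finset.mem_image.1 hy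
        simp only [Finset.mem_insert, Finset.mem_singleton]
        by_cases h0 : c + x • k = 0
        · exact Or.inl h0
        · exact Or.inr (hcon x h0)
      have := (Finset.card_le_card hsub).trans Finset.card_le_two
      rw [Finset.card_image_of_injective _ (fun a b h => smul_left_injective F hk0 (add_left_cancel h)),
        Finset.card_univ] at this
      omega
    set u₁ := c + x • k with hu₁
    have h₁ : ψ ⬝ᵥ u₁ = δ - 1 := by rw [hu₁, dotProduct_add, dotProduct_smul, hkψ, smul_zero, add_zero, hcψ]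
    set u₂ := u - δ ^ (i + 1) • u₁ with hu₂
    have h₂ : ψ ⬝ᵥ u₂ = δ ^ (i + 1) - 1 := by
      rw [hu₂, dotProduct_sub, dotProduct_smul, h, h₁, smul_eq_mul, pow_succ]; ring
    have hu₂0 : u₂ ≠ 0 := fun h0 => hx.2 (by
      rw [hu₂, sub_eq_zero] at h0
      show u₁ = (δ ^ (i + 1))⁻¹ • u
      rw [h0, inv_smul_smul₀ (pow_ne_zero _ hδ)])
    refine ⟨_, ⟨u₁, ψ, hx.1, hψ, h₁, rfl⟩, _, rankOne_split hq hn hδ i hu₂0 hψ h₂, ?_⟩
    rw [oneAdd_mul, h₂]
    congr 2
    rw [hu₂, sub_smul, one_smul]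
    abel

/-- A linear map with every vector an eigenvector modulo a subspace is scalar modulo it. -/
lemma scalar_of_lines {V Q : Type*} [AddCommGroup V] [Module F V] [AddCommGroup Q] [Module F Q] (S T : V →ₗ[F] Q)
    (hker : ∀ x, T x = 0 → S x = 0) (h : ∀ x, T x ≠ 0 → ∃ c : F, S x = c • T x) :
    ∃ c : F, ∀ x, S x = c • T x := by
  by_cases hT : ∀ x, T x = 0
  · exact ⟨0, fun x => by rw [hker x (hT x), zero_smul]⟩
  push Not at hT
  obtain ⟨x₀, hx₀⟩ := hT
  obtain ⟨c, hc⟩ := h x₀ hx₀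
  refine ⟨c, fun x => ?_⟩
  by_cases hr : ∃ r : F, T x = r • T x₀
  · obtain ⟨r, hr⟩ := hr
    have := hker (x - r • x₀) (by rw [map_sub, map_smul, hr, sub_self])
    rw [map_sub, map_smul, sub_eq_zero] at this
    rw [this, hc, hr, smul_comm]
  · push Not at hr
    have hx : T x ≠ 0 := fun h0 => hr 0 (by rw [h0, zero_smul])
    obtain ⟨d, hd⟩ := h x hx
    have hs : T (x + x₀) ≠ 0 := fun h0 => hr (-1) (by rw [map_add] at h0; rw [neg_one_smul]; exact eq_neg_of_add_eq_zero_left h0)
    obtain ⟨e, he⟩ := h _ hs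
    rw [map_add, map_add, hd, hc, smul_add] at he
    have h1 : (d - e) • T x = (e - c) • T x₀ := by
      rw [sub_smul, sub_smul, sub_eq_sub_iff_add_eq_add]; exact he.trans (add_comm _ _)
    have h2 : d = e := by
      by_contra hne
      exact hr ((d - e)⁻¹ * (e - c)) (by rw [mul_smul, ← h1, inv_smul_smul₀ (sub_ne_zero.2 hne)])
    rw [h2, sub_self, zero_smul] at h1
    rw [hd, h2, sub_eq_zero.1 ((smul_eq_zero.1 h1.symm).resolve_right hx₀)]

/-- The fixed space. -/
def fixK (g : Matrix (Fin n) (Fin n) F) : Submodule F (Fin n → F) :=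
  LinearMap.ker (shiftMap (Matrix.toLin' g) 1)

lemma mem_fixK {g : Matrix (Fin n) (Fin n) F} {x : Fin n → F} : x ∈ fixK g ↔ g *ᵥ x = x := by
  simp [fixK, sub_eq_zero]

/-- Not scalar modulo the fixed space. -/
def NonExc (g : Matrix (Fin n) (Fin n) F) : Prop := ∀ c : F, ∃ x, g *ᵥ x - c • x ∉ fixK g

lemma exists_fun {K : Submodule F (Fin n → F)} {v : Fin n → F} {s : Set (Fin n → F)}
    (h : v ∉ K ⊔ Submodule.span F s) :
    ∃ φ : Dual F (Fin n → F), φ v = 1 ∧ (∀ y ∈ K, φ y = 0) ∧ ∀ y ∈ s, φ y = 0 := by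
  obtain ⟨φ, hφ, hφ'⟩ := exists_dual_two (F := F) (x := v) (s := (K : Set (Fin n → F)) ∪ s) (by
    rwa [Submodule.span_union, Submodule.span_eq])
  exact ⟨φ, hφ, fun y hy => hφ' y (Or.inl hy), fun y hy => hφ' y (Or.inr hy)⟩

/-- **The residual induction.** -/
theorem rankOne_cover [Fintype F] (hq : 3 ≤ Fintype.card F) (hn : 2 ≤ n) {δ : F} (hδ : δ ≠ 0) :
    ∀ (r : ℕ) (g : Matrix (Fin n) (Fin n) F), 1 ≤ r → finrank F (fixK g) + r = n → (r = 1 ∨ NonExc g) →
      ∀ j, r ≤ j → g.det = δ ^ j → g ∈ Prods (RankOne n δ) j := by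
  intro r
  induction r with
  | zero => intro g h; omega
  | succ r ih =>
    intro g _ hrank hexc j hj hdet
    classical
    rcases Nat.eq_zero_or_pos r with rfl | hr
    · obtain ⟨u, ψ, he⟩ := exists_rankOne_of_rank (g := g) (μ := 1) (by
        have := finrank_ker_shift (Matrix.toLin' g) 1
        rw [Module.finrank_fin_fun] at this
        have h' : finrank F (fixK g) = finrank F (LinearMap.ker (shiftMap (Matrix.toLin' g) 1)) := rfl
        omega)
      rw [one_smul] at he
      subst he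
      have hne : ∀ {a b : Fin n → F}, a = 0 ∨ b = 0 → False → False := fun _ h => h
      have hz : vecMulVec u ψ ≠ 0 := fun h0 => by
        have : fixK (1 + vecMulVec u ψ) = ⊤ := by
          ext x; simp [mem_fixK, h0]
        rw [this, finrank_top, Module.finrank_fin_fun] at hrank
        omega
      obtain ⟨j, rfl⟩ : ∃ j', j = j' + 1 := ⟨j - 1, by omega⟩
      refine rankOne_split hq hn hδ j (fun h0 => hz (by rw [h0, Matrix.zero_vecMulVec]))
        (fun h0 => hz (by rw [h0, Matrix.vecMulVec_zero])) ?_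
      rw [oneAdd_det] at hdet
      linear_combination hdet
    have hnx : NonExc g := hexc.resolve_left (by omega)
    set K := fixK g with hK
    have hKg : ∀ x ∈ K, g *ᵥ x = x := fun x hx => mem_fixK.1 hx
    -- a vector whose image is independent of it modulo the fixed space
    obtain ⟨v, hv, hgv⟩ : ∃ v, v ∉ K ∧ g *ᵥ v ∉ K ⊔ Submodule.span F {v} := by
      by_contra hcon
      push Not at hcon
      obtain ⟨c, hc⟩ := scalar_of_lines (K.mkQ ∘ₗ Matrix.toLin' g) K.mkQ
        (fun x hx => by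
          rw [Submodule.mkQ_apply, Submodule.Quotient.mk_eq_zero] at hx
          show K.mkQ (g *ᵥ x) = 0
          rw [hKg x hx, Submodule.mkQ_apply, Submodule.Quotient.mk_eq_zero]; exact hx)
        (fun x hx => by
          rw [Ne, Submodule.mkQ_apply, Submodule.Quotient.mk_eq_zero] at hx
          obtain ⟨y, hy, z, hz, hyz⟩ := Submodule.mem_sup.1 (hcon x hx)
          obtain ⟨c, rfl⟩ := Submodule.mem_span_singleton.1 hz
          refine ⟨c, ?_⟩
          show K.mkQ (g *ᵥ x) = c • K.mkQ x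
          rw [← hyz, map_add, map_smul, show K.mkQ y = 0 from (Submodule.Quotient.mk_eq_zero K).2 hy, zero_add])
      obtain ⟨x, hx⟩ := hnx c
      apply hx
      rw [← Submodule.Quotient.mk_eq_zero (p := K), ← Submodule.mkQ_apply, map_sub, map_smul, sub_eq_zero]
      exact hc x
    set u₀ := g *ᵥ v - v with hu₀
    have hvK : v ∉ K ⊔ Submodule.span F {u₀} := by
      intro hm
      obtain ⟨y, hy, z, hz, hyz⟩ := Submodule.mem_sup.1 hm
      obtain ⟨c, rfl⟩ := Submodule.mem_span_singleton.1 hz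
      by_cases hc : c = 0
      · rw [hc, zero_smul, add_zero] at hyz
        exact hv (hyz ▸ hy)
      · apply hgv
        have : g *ᵥ v = (-c⁻¹) • y + (c⁻¹ + 1) • v := by
          have h1 : c • u₀ = v - y := by rw [← hyz]; abel
          have h2 : u₀ = c⁻¹ • (v - y) := by rw [← h1, inv_smul_smul₀ hc]
          rw [show g *ᵥ v = u₀ + v by rw [hu₀, sub_add_cancel], h2, smul_sub, neg_smul, add_smul, one_smul]
          abel
        rw [this]
        exact Submodule.add_mem_sup (Submodule.smul_mem _ _ hy)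
          (Submodule.mem_span_singleton.2 ⟨_, rfl⟩)
    have huK : u₀ ∉ K ⊔ Submodule.span F {v} := by
      intro hm
      apply hgv
      have : g *ᵥ v = u₀ + v := by rw [hu₀, sub_add_cancel]
      rw [this]
      exact Submodule.add_mem _ hm (Submodule.mem_sup_right (Submodule.subset_span rfl))
    obtain ⟨φ₁, hφ₁, hφ₁K, hφ₁s⟩ := exists_fun hvK
    obtain ⟨φ₂, hφ₂, hφ₂K, hφ₂s⟩ := exists_fun huK
    -- every admissible functional
    have step : ∀ φ : Dual F (Fin n → F), φ v = 1 → φ u₀ = δ - 1 → (∀ y ∈ K, φ y = 0) →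
        ∃ X ∈ RankOne n δ, (∀ x, X *ᵥ x = x + φ x • u₀) ∧ IsUnit X.det ∧
          finrank F (fixK (X⁻¹ * g)) + r = n ∧ fixK (X⁻¹ * g) = K ⊔ Submodule.span F {v} ∧
          (X⁻¹ * g).det * δ = g.det := by
      intro φ hφv hφu hφK
      obtain ⟨ψ, hψ⟩ := dual_vec φ
      have hXmem : 1 + vecMulVec u₀ ψ ∈ RankOne n δ := by
        refine ⟨u₀, ψ, fun h0 => huK (by rw [h0]; exact zero_mem _), fun h0 => ?_, by rw [hψ, hφu], rfl⟩
        have := hψ v
        rw [h0, zero_dotProduct, hφv] at this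
        exact zero_ne_one this
      set X := 1 + vecMulVec u₀ ψ with hX
      have hXx : ∀ x, X *ᵥ x = x + φ x • u₀ := fun x => by
        rw [hX, Matrix.add_mulVec, Matrix.one_mulVec, Matrix.vecMulVec_mulVec, hψ]
        simp
      have hXu : IsUnit X.det := by rw [rankOne_det hXmem]; exact isUnit_iff_ne_zero.2 hδ
      set g' := X⁻¹ * g with hg'
      have hgX : g = X * g' := by rw [hg', Matrix.mul_nonsing_inv_cancel_left _ _ hXu]
      have hinj := Matrix.mulVec_injective_of_isUnit ((Matrix.isUnit_iff_isUnit_det X).2 hXu)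
      have hle : K ⊔ Submodule.span F {v} ≤ fixK g' := by
        refine sup_le (fun x hx => ?_) ?_
        · rw [mem_fixK]
          apply hinj
          show X *ᵥ (g' *ᵥ x) = X *ᵥ x
          rw [Matrix.mulVec_mulVec, ← hgX, hKg x hx, hXx, hφK x hx, zero_smul, add_zero]
        · rw [Submodule.span_le, Set.singleton_subset_iff, SetLike.mem_coe, mem_fixK]
          apply hinj
          show X *ᵥ (g' *ᵥ v) = X *ᵥ v
          rw [Matrix.mulVec_mulVec, ← hgX, hXx, hφv, one_smul, hu₀]
          abel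
      have hdim : finrank F ↥(K ⊔ Submodule.span F {v}) + r = n := by
        have h1 := Submodule.finrank_sup_add_finrank_inf_eq K (Submodule.span F {v})
        have h2 : K ⊓ Submodule.span F {v} = ⊥ := by
          rw [eq_bot_iff]
          rintro x ⟨hx, hx'⟩
          obtain ⟨c, rfl⟩ := Submodule.mem_span_singleton.1 hx'
          rw [Submodule.mem_bot]
          by_contra h0
          exact hv ((Submodule.smul_mem_iff _ (fun hc => h0 (by rw [hc, zero_smul]))).1 hx)
        rw [h2, finrank_bot, finrank_span_singleton (fun h0 => hv (by rw [h0]; exact zero_mem _))] at h1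
        omega
      have hge : finrank F (fixK g') ≤ finrank F ↥(K ⊔ Submodule.span F {v}) := by
        have h3 : fixK g' ⊓ LinearMap.ker φ ≤ K := by
          rintro x ⟨hx, hx'⟩
          show x ∈ fixK g
          rw [mem_fixK, hgX, ← Matrix.mulVec_mulVec, mem_fixK.1 hx, hXx, show φ x = 0 from hx', zero_smul, add_zero]
        have h4 := Submodule.finrank_sup_add_finrank_inf_eq (fixK g') (LinearMap.ker φ)
        have h5 := Submodule.finrank_le (fixK g' ⊔ LinearMap.ker φ)
        have h6 := LinearMap.finrank_range_add_finrank_ker φ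
        rw [LinearMap.range_eq_top.2 (fun c => ⟨c • v, by rw [map_smul, hφv, smul_eq_mul, mul_one]⟩), finrank_top,
          finrank_self, Module.finrank_fin_fun] at h6
        rw [Module.finrank_fin_fun] at h5
        have h7 := Submodule.finrank_mono h3
        omega
      have heq := Submodule.eq_of_le_of_finrank_le hle hge
      refine ⟨X, hXmem, hXx, hXu, by rw [← hg', ← heq]; exact hdim, heq.symm, ?_⟩
      conv_rhs => rw [hgX, Matrix.det_mul, rankOne_det hXmem, mul_comm]
    obtain ⟨j, rfl⟩ : ∃ j', j = j' + 1 := ⟨j - 1, by omega⟩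
    have fin : ∀ φ : Dual F (Fin n → F), φ v = 1 → φ u₀ = δ - 1 → (∀ y ∈ K, φ y = 0) →
        (∀ X : Matrix (Fin n) (Fin n) F, (∀ x, X *ᵥ x = x + φ x • u₀) → IsUnit X.det →
          fixK (X⁻¹ * g) = K ⊔ Submodule.span F {v} → r = 1 ∨ NonExc (X⁻¹ * g)) →
        g ∈ Prods (RankOne n δ) (j + 1) := by
      intro φ h1 h2 h3 h4
      obtain ⟨X, hXm, hXx, hXu, hdim, hfix, hd⟩ := step φ h1 h2 h3
      refine ⟨X, hXm, _, ih _ (by omega) hdim (h4 X hXx hXu hfix) j (by omega) ?_,
        (Matrix.mul_nonsing_inv_cancel_left _ _ hXu).symm⟩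
      rw [hdet, pow_succ] at hd
      exact mul_right_cancel₀ hδ hd
    set φ := φ₁ + (δ - 1) • φ₂ with hφ
    have hφv : φ v = 1 := by simp [hφ, hφ₁, hφ₂s v rfl]
    have hφu : φ u₀ = δ - 1 := by simp [hφ, hφ₂, hφ₁s u₀ rfl]
    have hφK : ∀ y ∈ K, φ y = 0 := fun y hy => by simp [hφ, hφ₁K y hy, hφ₂K y hy]
    by_cases hr1 : r = 1
    · exact fin φ hφv hφu hφK fun _ _ _ _ => Or.inl hr1
    obtain ⟨x₀, hx₀⟩ : ∃ x₀, x₀ ∉ K ⊔ Submodule.span F {v, u₀} := by
      by_contra hcon
      push Not at hcon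
      have htop : K ⊔ Submodule.span F ({v, u₀} : Set (Fin n → F)) = ⊤ := eq_top_iff.2 fun x _ => hcon x
      have h1 := Submodule.finrank_add_le_finrank_add_finrank K (Submodule.span F ({v, u₀} : Set (Fin n → F)))
      rw [htop, finrank_top, Module.finrank_fin_fun] at h1
      have h2 : finrank F (Submodule.span F ({v, u₀} : Set (Fin n → F))) ≤ 2 := H41.Reg.span_two_le _ _
      omega
    obtain ⟨φ₃, hφ₃, hφ₃K, hφ₃s⟩ := exists_fun hx₀
    by_contra hgoal
    have bad : ∀ φ : Dual F (Fin n → F), φ v = 1 → φ u₀ = δ - 1 → (∀ y ∈ K, φ y = 0) →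
        ∃ c : F, c ≠ 0 ∧ ∀ x, g *ᵥ x - c • (x + φ x • u₀) ∈ K ⊔ Submodule.span F {g *ᵥ v} := by
      intro φ h1 h2 h3
      by_contra hb
      refine hgoal (fin φ h1 h2 h3 fun X hXx hXu hfix => Or.inr fun c => ?_)
      by_contra hc
      push Not at hc
      set g' := X⁻¹ * g
      have hgX : g = X * g' := (Matrix.mul_nonsing_inv_cancel_left _ _ hXu).symm
      refine hb ⟨c, fun hc0 => ?_, fun x => ?_⟩
      · -- otherwise the fixed space would be everything
        have htop : fixK g' = ⊤ := by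
          rw [eq_top_iff]
          intro x _
          have hg'u : IsUnit g'.det := by
            rw [Matrix.det_mul, Matrix.det_nonsing_inv, Ring.inverse_eq_inv', hdet]
            exact (isUnit_iff_ne_zero.2 (inv_ne_zero hXu.ne_zero)).mul (isUnit_iff_ne_zero.2 (pow_ne_zero _ hδ))
          have := hc (g'⁻¹ *ᵥ x)
          rwa [hc0, zero_smul, sub_zero, Matrix.mulVec_mulVec, Matrix.mul_nonsing_inv _ hg'u,
            Matrix.one_mulVec] at this
        rw [hfix] at htop
        exact huK (htop ▸ Submodule.mem_top)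
      · have h5 := hc x
        rw [hfix] at h5
        obtain ⟨y, hy, z, hz, hyz⟩ := Submodule.mem_sup.1 h5
        obtain ⟨s, rfl⟩ := Submodule.mem_span_singleton.1 hz
        have h6 : X *ᵥ (g' *ᵥ x - c • x) = y + s • (g *ᵥ v) := by
          rw [← hyz, Matrix.mulVec_add, Matrix.mulVec_smul, hXx y, h3 y hy, zero_smul, add_zero, hXx v, h1,
            one_smul, hu₀]
          congr 2
          abel
        rw [Matrix.mulVec_sub, Matrix.mulVec_smul, Matrix.mulVec_mulVec, ← hgX, hXx x] at h6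
        rw [h6]
        exact Submodule.add_mem_sup hy (Submodule.mem_span_singleton.2 ⟨s, rfl⟩)
    obtain ⟨c, hc0, hc⟩ := bad φ hφv hφu hφK
    obtain ⟨c', hc'0, hc'⟩ := bad (φ + φ₃) (by simp [hφv, hφ₃s v (by simp)]) (by simp [hφu, hφ₃s u₀ (by simp)])
      (fun y hy => by simp [hφK y hy, hφ₃K y hy])
    set W := K ⊔ Submodule.span F {g *ᵥ v} with hW
    have hWle : W ≤ K ⊔ Submodule.span F {v, u₀} := by
      refine sup_le le_sup_left ?_
      rw [Submodule.span_le, Set.singleton_subset_iff, SetLike.mem_coe,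
        show g *ᵥ v = v + u₀ by rw [hu₀]; abel]
      exact Submodule.mem_sup_right (Submodule.add_mem _ (Submodule.subset_span (by simp))
        (Submodule.subset_span (by simp)))
    have hd := Submodule.sub_mem _ (hc' x₀) (hc x₀)
    have hdiff : (g *ᵥ x₀ - c' • (x₀ + (φ + φ₃) x₀ • u₀)) - (g *ᵥ x₀ - c • (x₀ + φ x₀ • u₀)) =
        (c - c') • x₀ + (c * φ x₀ - c' * (φ x₀ + 1)) • u₀ := by
      rw [LinearMap.add_apply, hφ₃, sub_smul, sub_smul, mul_smul, mul_smul, smul_add, smul_add]
      abel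
    rw [hdiff] at hd
    have hu₀mem : u₀ ∈ K ⊔ Submodule.span F {v, u₀} := Submodule.mem_sup_right (Submodule.subset_span (by simp))
    have hcc : c = c' := by
      by_contra hne
      apply hx₀
      have h1 := Submodule.sub_mem _ (hWle hd)
        (Submodule.smul_mem _ (c * φ x₀ - c' * (φ x₀ + 1)) hu₀mem)
      rw [add_sub_cancel_right] at h1
      exact (Submodule.smul_mem_iff _ (sub_ne_zero.2 hne)).1 h1
    rw [← hcc, sub_self, zero_smul, zero_add, show c * φ x₀ - c * (φ x₀ + 1) = -c by ring] at hd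
    have hu₀W : u₀ ∈ W := (Submodule.smul_mem_iff _ (neg_ne_zero.2 hc0)).1 hd
    -- which contradicts the independence of `v` and its image
    obtain ⟨y, hy, z, hz, hyz⟩ := Submodule.mem_sup.1 hu₀W
    obtain ⟨s, rfl⟩ := Submodule.mem_span_singleton.1 hz
    by_cases hs : s = 1
    · apply hv
      have hyv : y = -v := by
        rw [hs, one_smul, hu₀] at hyz
        have : y = g *ᵥ v - v - g *ᵥ v := eq_sub_of_add_eq hyz
        rw [this]; abel
      exact (Submodule.neg_mem_iff _).1 (hyv ▸ hy)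
    · apply hgv
      have h8 : (1 - s) • (g *ᵥ v) = y + v := by
        rw [sub_smul, one_smul, sub_eq_iff_eq_add]
        rw [hu₀, eq_sub_iff_add_eq] at hyz
        conv_lhs => rw [← hyz]
        abel
      have : g *ᵥ v = (1 - s)⁻¹ • (y + v) := by
        rw [← h8, inv_smul_smul₀ (sub_ne_zero.2 (Ne.symm hs))]
      rw [this]
      exact Submodule.smul_mem _ _ (Submodule.add_mem_sup hy (Submodule.subset_span rfl))

/-- A non-scalar matrix can be prepared by one factor. -/
theorem rankOne_all [Fintype F] (hq : 3 ≤ Fintype.card F) (hn : 2 ≤ n) {δ : F} (hδ : δ ≠ 0)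
    {g : Matrix (Fin n) (Fin n) F} (hdet : g.det = δ ^ n) (hns : NS g) : g ∈ Prods (RankOne n δ) n := by
  classical
  set K := fixK g with hK
  obtain ⟨r, hr⟩ : ∃ r, finrank F K + r = n := ⟨n - finrank F K, by
    have := Submodule.finrank_le K
    rw [Module.finrank_fin_fun] at this
    omega⟩
  have hKtop : K ≠ ⊤ := fun h => hns 1 (Matrix.toLin'.injective (LinearMap.ext fun x => by
    have : g *ᵥ x = x := mem_fixK.1 (show x ∈ fixK g by rw [← hK, h]; trivial)
    simpa using this))
  have hr0 : 1 ≤ r := by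
    by_contra h0
    refine hKtop (Submodule.eq_top_of_finrank_eq ?_)
    rw [Module.finrank_fin_fun]; omega
  by_cases hexc : r = 1 ∨ NonExc g
  · exact rankOne_cover hq hn hδ r g hr0 hr hexc n (by omega) hdet
  push Not at hexc
  obtain ⟨hr1, hexc⟩ := hexc
  simp only [NonExc, not_forall, not_exists, not_not] at hexc
  obtain ⟨c₀, hc₀⟩ := hexc
  -- the fixed space is not zero
  obtain ⟨k₀, hk₀, hk₀0⟩ : ∃ k ∈ K, k ≠ 0 := by
    by_contra hcon
    push Not at hcon
    refine hns c₀ (Matrix.toLin'.injective (LinearMap.ext fun x => ?_))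
    have := hcon _ (hc₀ x)
    rw [sub_eq_zero] at this
    simpa [Matrix.smul_mulVec] using this
  have hrn : r < n := by
    by_contra h0
    have : finrank F K = 0 := by omega
    rw [Submodule.finrank_eq_zero] at this
    rw [this] at hk₀
    exact hk₀0 ((Submodule.mem_bot F).1 hk₀)
  set R := LinearMap.range (shiftMap (Matrix.toLin' g) 1) with hR
  have hRtop : R ≠ ⊤ := fun h => by
    have := finrank_ker_shift (Matrix.toLin' g) 1
    rw [← hR, h, finrank_top, Module.finrank_fin_fun] at this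
    have h2 : finrank F (LinearMap.ker (shiftMap (Matrix.toLin' g) 1)) = finrank F K := rfl
    omega
  obtain ⟨u, huR, huK⟩ : ∃ u, u ∉ R ∧ u ∉ K := by
    obtain ⟨a, -, ha⟩ := SetLike.exists_of_lt (lt_top_iff_ne_top.2 hRtop)
    obtain ⟨b, -, hb⟩ := SetLike.exists_of_lt (lt_top_iff_ne_top.2 hKtop)
    by_cases haK : a ∈ K
    · by_cases hbR : b ∈ R
      · exact ⟨a + b, fun h => ha ((Submodule.add_mem_iff_left _ hbR).1 h),
          fun h => hb ((Submodule.add_mem_iff_right _ haK).1 h)⟩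
      · exact ⟨b, hbR, hb⟩
    · exact ⟨a, ha, haK⟩
  obtain ⟨x₀, hx₀⟩ : ∃ x₀, x₀ ∉ K ⊔ Submodule.span F {u} := by
    by_contra hcon
    push Not at hcon
    have htop : K ⊔ Submodule.span F ({u} : Set (Fin n → F)) = ⊤ := eq_top_iff.2 fun x _ => hcon x
    have h1 := Submodule.finrank_add_le_finrank_add_finrank K (Submodule.span F ({u} : Set (Fin n → F)))
    rw [htop, finrank_top, Module.finrank_fin_fun,
      finrank_span_singleton (fun h0 => huK (by rw [h0]; exact zero_mem _))] at h1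
    omega
  obtain ⟨φ₁, hφ₁, hφ₁K, -⟩ := exists_fun (K := K) (v := u) (s := ∅) (by simpa using huK)
  obtain ⟨φ₂, hφ₂, hφ₂K, hφ₂s⟩ := exists_fun hx₀
  obtain ⟨φ, hφu, hφK, x₁, hx₁, hφx₁⟩ : ∃ φ : Dual F (Fin n → F), φ u = δ - 1 ∧ (∀ y ∈ K, φ y = 0) ∧
      ∃ x, x ∉ K ∧ φ x ≠ 0 := by
    refine ⟨(δ - 1) • φ₁ + (1 - (δ - 1) * φ₁ x₀) • φ₂, by simp [hφ₁, hφ₂s u rfl],
      fun y hy => by simp [hφ₁K y hy, hφ₂K y hy], x₀, fun h => hx₀ (Submodule.mem_sup_left h), ?_⟩
    simp [hφ₂]
  obtain ⟨ψ, hψ⟩ := dual_vec φ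
  set X := 1 + vecMulVec u ψ with hX
  have hXm : X ∈ RankOne n δ := ⟨u, ψ, fun h0 => huK (by rw [h0]; exact zero_mem _),
    fun h0 => hφx₁ (by rw [← hψ, h0, zero_dotProduct]), by rw [hψ, hφu], rfl⟩
  have hXx : ∀ x, X *ᵥ x = x + φ x • u := fun x => by
    rw [hX, Matrix.add_mulVec, Matrix.one_mulVec, Matrix.vecMulVec_mulVec, hψ]; simp
  have hXu : IsUnit X.det := by rw [rankOne_det hXm]; exact isUnit_iff_ne_zero.2 hδ
  set g' := X⁻¹ * g with hg'
  have hgX : g = X * g' := by rw [hg', Matrix.mul_nonsing_inv_cancel_left _ _ hXu]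
  have hinj := Matrix.mulVec_injective_of_isUnit ((Matrix.isUnit_iff_isUnit_det X).2 hXu)
  have hfix : fixK g' = K := by
    ext x
    constructor
    · intro hx
      have h1 : g *ᵥ x = x + φ x • u := by rw [hgX, ← Matrix.mulVec_mulVec, mem_fixK.1 hx, hXx]
      by_cases hφx : φ x = 0
      · rw [hφx, zero_smul, add_zero] at h1
        exact mem_fixK.2 h1
      · exfalso
        apply huR
        refine ⟨(φ x)⁻¹ • x, ?_⟩
        rw [map_smul, shiftMap_apply, Matrix.toLin'_apply, h1, one_smul, add_sub_cancel_left, inv_smul_smul₀ hφx]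
    · intro hx
      rw [mem_fixK]
      apply hinj
      show X *ᵥ (g' *ᵥ x) = X *ᵥ x
      rw [Matrix.mulVec_mulVec, ← hgX, mem_fixK.1 hx, hXx, hφK x hx, zero_smul, add_zero]
  obtain ⟨j, rfl⟩ : ∃ j, n = j + 1 := ⟨n - 1, by omega⟩
  refine ⟨X, hXm, g', rankOne_cover hq hn hδ r g' hr0 (by rw [hfix]; exact hr) (Or.inr fun c => ?_) j (by omega) ?_,
    hgX⟩
  · by_contra hc
    push Not at hc
    simp only [hfix] at hc
    have hrel : ∀ x, (c₀ - c) • x - (c * φ x) • u ∈ K := by
      intro x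
      have h1 := hc x
      have h2 : X *ᵥ (g' *ᵥ x - c • x) ∈ K := by rw [hXx, hφK _ h1, zero_smul, add_zero]; exact h1
      rw [Matrix.mulVec_sub, Matrix.mulVec_smul, Matrix.mulVec_mulVec, ← hgX, hXx] at h2
      have h3 := Submodule.sub_mem _ h2 (hc₀ x)
      convert h3 using 1
      rw [sub_smul, smul_add, mul_smul]; abel
    have hcc : c₀ = c := by
      by_contra hne
      apply hx₀
      have h1 := Submodule.add_mem_sup (hrel x₀) (Submodule.smul_mem (Submodule.span F {u}) (c * φ x₀)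
        (Submodule.subset_span rfl))
      rw [sub_add_cancel] at h1
      exact (Submodule.smul_mem_iff _ (sub_ne_zero.2 hne)).1 h1
    have hc0 : c ≠ 0 := fun h0 => hKtop (by
      rw [eq_top_iff]
      intro x _
      have hgu : IsUnit g.det := by rw [hdet]; exact isUnit_iff_ne_zero.2 (pow_ne_zero _ hδ)
      have := hc₀ (g⁻¹ *ᵥ x)
      rwa [hcc, h0, zero_smul, sub_zero, Matrix.mulVec_mulVec, Matrix.mul_nonsing_inv _ hgu,
        Matrix.one_mulVec] at this)
    have := hrel x₁
    rw [hcc, sub_self, zero_smul, zero_sub, Submodule.neg_mem_iff,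
      Submodule.smul_mem_iff _ (mul_ne_zero hc0 hφx₁)] at this
    exact huK this
  · have := congrArg Matrix.det hgX
    rw [Matrix.det_mul, rankOne_det hXm, hdet, pow_succ', mul_right_inj' hδ] at this
    exact this.symm

/-- The scalar `δ`. -/
theorem rankOne_scalar [Fintype F] (hq : 3 ≤ Fintype.card F) (hn : 2 ≤ n) {δ : F} (hδ : δ ≠ 0) :
    (δ • (1 : Matrix (Fin n) (Fin n) F)) ∈ Prods (RankOne n δ) n := by
  classical
  by_cases hd : δ = 1
  · subst hd
    rw [one_smul]
    obtain ⟨j, rfl⟩ : ∃ j, n = j + 2 := ⟨n - 2, by omega⟩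
    set u : Fin (j + 2) → F := Pi.single 0 1 with hu
    set ψ : Fin (j + 2) → F := Pi.single 1 1 with hψ
    have hψu : ψ ⬝ᵥ u = 0 := by simp [hu, hψ]
    have hu0 : u ≠ 0 := fun h => by simpa [hu] using congrFun h 0
    have hψ0 : ψ ≠ 0 := fun h => by simpa [hψ] using congrFun h 1
    refine ⟨1 + vecMulVec u ψ, ⟨u, ψ, hu0, hψ0, by rw [hψu, sub_self], rfl⟩, _,
      rankOne_split hq hn one_ne_zero j (neg_ne_zero.2 hu0) hψ0 (by rw [dotProduct_neg, hψu]; simp), ?_⟩
    rw [oneAdd_mul, dotProduct_neg, hψu]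
    simp
  · have key : ∀ k ≤ n, Matrix.diagonal (fun i : Fin n => if i.val < k then δ else 1) ∈ Prods (RankOne n δ) k := by
      intro k
      induction k with
      | zero => intro _; refine Set.mem_singleton_iff.2 ?_; simp
      | succ k ih =>
        intro hk
        let i₀ : Fin n := ⟨k, by omega⟩
        have hmem : Matrix.diagonal (fun i : Fin n => if i = i₀ then δ else 1) ∈ RankOne n δ := by
          refine ⟨Pi.single i₀ (δ - 1), Pi.single i₀ 1, fun h => ?_, fun h => ?_, by simp, ?_⟩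
          · exact hd (sub_eq_zero.1 (by simpa using congrFun h i₀))
          · simpa using congrFun h i₀
          · ext a b
            by_cases hab : a = b
            · subst hab
              by_cases ha : a = i₀
              · subst ha; simp [Matrix.vecMulVec_apply]
              · simp [Matrix.vecMulVec_apply, ha]
            · rw [Matrix.diagonal_apply_ne _ hab]
              by_cases ha : a = i₀
              · subst ha; simp [Matrix.vecMulVec_apply, Ne.symm hab, hab]
              · simp [Matrix.vecMulVec_apply, ha, hab]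
        refine ⟨_, hmem, _, ih (by omega), ?_⟩
        rw [Matrix.diagonal_mul_diagonal]
        congr 1
        funext i
        by_cases hi : i = i₀
        · subst hi; simp [i₀]
        · have : i.val ≠ k := fun h => hi (Fin.ext h)
          by_cases hik : i.val < k
          · simp [hi, hik, show i.val < k + 1 by omega]
          · simp [hi, hik, show ¬ i.val < k + 1 by omega]
    have := key n le_rfl
    simpa [← Matrix.smul_one_eq_diagonal] using this

end H89.CN
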