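import Cfsg.Agent.H89.CN.Windows
import Cfsg.Agent.H89.CN.Residual

/-!
Classes with a scalar block.
-/

set_option autoImplicit false

namespace H89.CN

open Matrix Polynomial

variable {F : Type*} [Field F]

lemma prods_smul {n : ℕ} {S S' : Set (Matrix (Fin n) (Fin n) F)} {lam : F} (h : ∀ X ∈ S, lam • X ∈ S') :
    ∀ {k : ℕ} {g : Matrix (Fin n) (Fin n) F}, g ∈ Prods S k → lam ^ k • g ∈ Prods S' k
  | 0, g, hg => by rw [Set.mem_singleton_iff.1 hg, pow_zero, one_smul]; rfl
  | k + 1, g, ⟨X, hX, h', hh, he⟩ => ⟨_, h X hX, _, prods_smul h hh, by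
      rw [he, Matrix.smul_mul, Matrix.mul_smul, smul_smul, pow_succ']⟩

/-- All blocks of size two coincide. -/
lemma chain_deg_two {n t : ℕ} {A : Matrix (Fin n) (Fin n) F} {lam : F} {l : List F[X]} (h : Shape A t lam l)
    (hbig : ¬ ∃ f ∈ l, 3 ≤ f.natDegree) : ∃ (f : F[X]) (u : ℕ), 1 ≤ u ∧ l = List.replicate u f ∧ f.natDegree = 2 := by
  obtain ⟨-, hl, hp, -, hne⟩ := h
  push Not at hbig
  cases l with
  | nil => exact absurd rfl hne
  | cons f l =>
    have hd : ∀ g ∈ f :: l, g.natDegree = 2 := fun g hg => by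
      have := (hl g hg).2.1; have := hbig g hg; omega
    refine ⟨f, (f :: l).length, by simp, List.eq_replicate_iff.2 ⟨rfl, fun g hg => ?_⟩, hd f List.mem_cons_self⟩
    rcases List.mem_cons.1 hg with rfl | hg'
    · rfl
    · exact eq_of_monic_of_dvd_of_natDegree_le (hl f List.mem_cons_self).1 (hl g hg).1
        ((List.pairwise_cons.1 hp).1 g hg') (by rw [hd f List.mem_cons_self, hd g hg])

variable [Fintype F]

/-- **Classes with a scalar block.** -/
theorem covered_pos (hq : 4 ≤ Fintype.card F) {n t : ℕ} {A : Matrix (Fin n) (Fin n) F} {lam : F} {l : List F[X]}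
    (hsh : Shape A t lam l) (hdA : A.det = 1) (ht : 1 ≤ t) : Covered A := by
  classical
  have hD : Sc A = Cls A := sc_eq_cls fun a _ => cdet_of_shape hsh ht a
  by_cases hbig : ∃ f ∈ l, 3 ≤ f.natDegree
  · exact covered_gl_big hq hsh hdA hD ht hbig
  obtain ⟨f, u, hu, rfl, hd⟩ := chain_deg_two hsh hbig
  have hmem : f ∈ List.replicate u f := List.mem_replicate.2 ⟨by omega, rfl⟩
  obtain ⟨hfm, -, hf0⟩ := hsh.2.1 f hmem
  obtain ⟨hlam, hdvd⟩ := hsh.2.2.2.1 (by omega)
  obtain ⟨g₁, hg₁⟩ := hdvd f hmem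
  have hg₁m : g₁.Monic := (monic_X_sub_C lam).of_mul_monic_left (hg₁ ▸ hfm)
  have hg₁d : g₁.natDegree = 1 := by
    have := congrArg Polynomial.natDegree hg₁
    rw [(monic_X_sub_C lam).natDegree_mul hg₁m, natDegree_X_sub_C, hd] at this
    omega
  obtain ⟨nu, hfac⟩ : ∃ nu, f = (X - C lam) * (X - C nu) :=
    ⟨-g₁.coeff 0, by rw [hg₁, map_neg, sub_neg_eq_add, ← hg₁m.eq_X_add_C hg₁d]⟩
  have hnu : nu ≠ 0 := fun h => hf0 (by rw [hfac, h]; simp)
  have hdim := shape_dim hsh
  simp [hd] at hdim
  have hA0 : A.det ≠ 0 := by rw [hdA]; exact one_ne_zero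
  rcases (show u = 1 ∨ 2 ≤ u by omega) with rfl | hu2
  · -- one block: pseudo-reflections and transvections
    have hn : 2 ≤ n := by omega
    let i₁ : Fin n := ⟨1, by omega⟩
    let i₀ : Fin n := ⟨0, by omega⟩
    set M := qmat lam nu {i₁} {i₁} (fun _ => i₀) (fun _ => (1 : F)) with hM
    have hMA : M ∈ Sc A := qmat_mem hfm hd hfac (t := t) (u := 1) hsh.1 _ _ _ _ (Finset.card_singleton _)
      subset_rfl (fun i _ => by simp [i₀, i₁]) (by simp) (fun _ _ => Or.inl one_ne_zero) (Or.inl rfl)
    set δ := nu / lam with hδ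
    have hδ0 : δ ≠ 0 := div_ne_zero hnu hlam
    set ψ : Fin n → F := Pi.single i₀ (1 / lam) + Pi.single i₁ (δ - 1) with hψ
    have hrep : M = lam • (1 + vecMulVec (Pi.single i₁ 1) ψ) := by
      ext i j
      by_cases hi : i = i₁
      · subst hi
        by_cases hj : j = i₁
        · subst hj
          simp [hM, qmat, hψ, Matrix.vecMulVec_apply, i₀, i₁, hδ]
          field_simp
        · by_cases hj0 : j = i₀
          · subst hj0
            simp [hM, qmat, hψ, Matrix.vecMulVec_apply, i₀, i₁]
            field_simp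
          · simp [hM, qmat, hψ, Matrix.vecMulVec_apply, hj, hj0, Ne.symm hj]
      · by_cases hij : i = j
        · subst hij; simp [hM, qmat, Matrix.vecMulVec_apply, hi]
        · simp [hM, qmat, Matrix.vecMulVec_apply, hi, hij]
    have hu0 : (Pi.single i₁ 1 : Fin n → F) ≠ 0 := fun h => by simpa using congrFun h i₁
    have hψu : ψ ⬝ᵥ (Pi.single i₁ 1 : Fin n → F) = δ - 1 := by simp [hψ, i₀, i₁]
    have hψ0 : ψ ≠ 0 := fun h => by
      have := congrFun h i₀
      simp [hψ, i₀, i₁, hlam] at this
    have hclass : ∀ X ∈ RankOne n δ, lam • X ∈ Sc A := by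
      rintro X ⟨x, φ, hx, hφ, he, rfl⟩
      obtain ⟨P, hP, hPe⟩ := rankOne_similar hn hu0 hψ0 hx hφ (hψu.trans he.symm)
      refine Sim.trans hMA ⟨P, hP, ?_⟩
      rw [hrep, Matrix.mul_smul, Matrix.smul_mul, Matrix.mul_add, Matrix.add_mul, Matrix.mul_one, Matrix.one_mul, hPe]
    have hlamn : lam ^ n * δ = 1 := by
      have h1 := sc_det hMA
      rw [hrep, Matrix.det_smul, Fintype.card_fin, oneAdd_det, hψu, add_sub_cancel, hdA] at h1
      exact h1
    refine covered_of_ns (fun g hg hns => ?_) (one_pow n) ?_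
    · rw [← hD]
      have := prods_smul hclass (rankOne_all (by omega) hn hδ0 (g := (lam ^ n)⁻¹ • g) (by
        rw [Matrix.det_smul, Fintype.card_fin, hg, mul_one, inv_pow, eq_comm]
        exact eq_inv_of_mul_eq_one_right (by rw [← mul_pow, hlamn, one_pow])) fun σ hσ => hns (lam ^ n * σ) (by
          rw [mul_smul, ← hσ, smul_inv_smul₀ (pow_ne_zero n hlam)]))
      rwa [smul_inv_smul₀ (pow_ne_zero n hlam)] at this
    · rw [← hD]
      have := prods_smul hclass (rankOne_scalar (show 3 ≤ Fintype.card F by omega) hn hδ0)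
      rwa [smul_smul, hlamn] at this
  -- several blocks
  have hsplit : QuadElem A := by
    by_cases hne : lam = nu
    · subst hne; exact unipotent_elem (by omega) hfm hd hfac hsh.1 hlam hu2 ht (by omega)
    · exact semisimple_elem hfm hd hfac hsh.1 hlam hnu hne hu2 ht (by omega)
  obtain ⟨j, T, β, hT, hs, hβ, hTm, hcase⟩ := hsplit
  have hTd : T.det = A.det ^ j := prods_det (fun X hX => sc_det hX) hTm
  have hA : NS A := by
    let e₁ : Fin n := ⟨1, by omega⟩
    have h2 : ((Finset.univ : Finset (Fin n)).filter fun v => v.val % 2 = 1 ∧ v.val < 2 * u).card = u := by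
      have : ((Finset.univ : Finset (Fin n)).filter fun v => v.val % 2 = 1 ∧ v.val < 2 * u).image Fin.val =
          (Finset.range u).image fun i => 2 * i + 1 := by
        ext x
        simp only [Finset.mem_image, Finset.mem_filter, Finset.mem_univ, true_and, Finset.mem_range]
        constructor
        · rintro ⟨v, ⟨h1, h2⟩, rfl⟩; exact ⟨v.val / 2, by omega, by omega⟩
        · rintro ⟨i, hi, rfl⟩; exact ⟨⟨2 * i + 1, by omega⟩, ⟨by simp only; omega, by simp only; omega⟩, rfl⟩
      rw [← Finset.card_image_of_injective _ Fin.val_injective, this,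
        Finset.card_image_of_injective _ (fun a b h => by simpa using h), Finset.card_range]
    have hM : qmat lam nu _ _ pred' (fun _ => (1 : F)) ∈ Sc A :=
      qmat_mem hfm hd hfac hsh.1 (Finset.univ.filter fun v : Fin n => v.val % 2 = 1 ∧ v.val < 2 * u) _ pred' _ h2
        subset_rfl (fun v hv => by
          simp only [Finset.mem_filter, Finset.mem_univ, true_and, pred'] at hv ⊢; omega)
        (fun v hv w hw h => by
          simp only [Finset.mem_coe, Finset.mem_filter, Finset.mem_univ, true_and] at hv hw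
          have := congrArg Fin.val h
          simp only [pred'] at this
          exact Fin.ext (by omega))
        (fun _ _ => Or.inl one_ne_zero) (Or.inl rfl)
    refine ns_of_sim (Sim.symm hM) fun σ hσ => ?_
    have h01 := congrFun (congrFun hσ e₁) ⟨0, by omega⟩
    rw [qmat_sub (by simp [e₁]), if_pos (by simp [e₁]; omega), Matrix.smul_apply,
      Matrix.one_apply_ne (by simp [e₁]), smul_zero] at h01
    exact one_ne_zero h01
  rcases hcase with ⟨h2j, c, hc, hall⟩ | h3j
  · obtain ⟨m, rfl⟩ : ∃ m, n = m + 2 := ⟨n - 2, by omega⟩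
    have hgr : Grouped β := fun a b d hab hbd h => by
      have h1 : a.val < b.val := hab
      have h2 : b.val < d.val := hbd
      rw [hc b (by omega), h, hc d (by omega)]
    have hmain : ∀ g, g.det = 1 → (NS g ∨ 2 * j < m + 2 ∨ g = (c * c) • 1) → g ∈ Prods (Cls A) (m + 2) := by
      intro g hg h
      rw [← hD]
      exact cover_four hq (by omega) (cls_subset_sc A) (fun X hX => sc_det hX) hA hA0 hT hs hgr hgr rfl hβ
        (fun i => by rw [hc i.succ (by simp)]) hTd (full_sc hTm) h2j (by rw [hg, hdA, one_pow]) h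
    rcases (show 2 * j < m + 2 ∨ 2 * j = m + 2 by omega) with hlt | heq
    · exact covered_of_all fun g hg => hmain g hg (Or.inr (Or.inl hlt))
    · have hcn : c ^ (m + 2) = 1 := by
        have h1 := hTd
        rw [hs.det, Finset.prod_congr rfl (fun v _ => hall heq v), Finset.prod_const, Finset.card_univ,
          Fintype.card_fin, hdA, one_pow] at h1
        exact h1
      refine covered_of_ns (fun g hg hns => hmain g hg (Or.inl hns)) (ζ₀ := c * c)
        (by rw [mul_pow, hcn, mul_one]) ?_
      exact hmain _ (by rw [Matrix.det_smul, Matrix.det_one, mul_one, Fintype.card_fin, mul_pow, hcn, mul_one])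
        (Or.inr (Or.inr rfl))
  · refine covered_of_all fun g hg => ?_
    rw [← hD]
    exact cover_six hq (by omega) (cls_subset_sc A) (fun X hX => sc_det hX) hA hA0 hT hs hβ hTd (full_sc hTm) h3j
      (by rw [hg, hdA, one_pow])

end H89.CN
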