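import Cfsg.Agent.H89.CN.Zero
import Cfsg.Agent.H89.CN.Pos

/-!
Coverage for the classes without scalar block, in dimension at least four.
-/

set_option autoImplicit false

namespace H89.CN

open Matrix Polynomial

variable {F : Type*} [Field F] [Fintype F] [DecidableEq F]

omit [Fintype F] [DecidableEq F] in
lemma grouped_two_two {b w : F} (h : b ≠ w) : Grouped (![b, b, w, w] : Fin 4 → F) := by
  intro i j l hij hjl he
  fin_cases i <;> fin_cases j <;> simp at hij ⊢ <;> fin_cases l <;> simp_all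

omit [Fintype F] [DecidableEq F] in
lemma grouped_two_one {d b w : F} (h₁ : d ≠ b) (h₂ : d ≠ w) : Grouped (![d, d, b, w] : Fin 4 → F) := by
  intro i j l hij hjl he
  fin_cases i <;> fin_cases j <;> simp at hij ⊢ <;> fin_cases l <;> simp_all

omit [Fintype F] [DecidableEq F] in
lemma grouped_three_one {x y : F} (h₁ : x ≠ 1) (h₂ : y ≠ 1) : Grouped (![1, 1, 1, x, y] : Fin 5 → F) := by
  intro i j l hij hjl he
  fin_cases i <;> fin_cases j <;> simp at hij ⊢ <;> fin_cases l <;> simp_all

/-- Coverage from a paired diagonal. -/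
theorem covered_paired (hq : 4 ≤ Fintype.card F) {m : ℕ} (hm : 2 ≤ m) {A : Matrix (Fin (m + 2)) (Fin (m + 2)) F}
    (hA : NS A) (hdA : A.det = 1) {β γ : Fin (m + 2) → F} (hE : Elem A (msOf β)) (hgβ : Grouped β) (hgγ : Grouped γ)
    (hms : msOf γ = msOf β) {μ : F} (hprod : ∀ i : Fin (m + 1), β i.succ * γ i.succ = μ)
    (hμ : μ ^ (m + 2) = 1 ∨ 4 < m + 2) : Covered A := by
  obtain ⟨T, β₀, hT, hs, hβ₀, hd, hF, hmsβ⟩ := hE
  have hβ : ∀ i, β i ≠ 0 := fun i => by
    obtain ⟨j, hj⟩ := (msOf_mem β₀ _).1 (hmsβ ▸ (msOf_mem β _).2 ⟨i, rfl⟩)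
    rw [← hj]; exact hβ₀ j
  have hA0 : A.det ≠ 0 := by rw [hdA]; exact one_ne_zero
  have main : ∀ g : Matrix (Fin (m + 2)) (Fin (m + 2)) F, g.det = 1 → (NS g ∨ 2 * 2 < m + 2 ∨ g = μ • 1) →
      g ∈ Prods (Cls A) (m + 2) := fun g hg h =>
    cover_four hq hm subset_rfl (fun X hX => cls_det hX) hA hA0 hT (eq_of_msOf hs hmsβ.symm) hgβ hgγ hms hβ hprod
      hd hF (show 2 * 2 ≤ m + 2 by omega) (by rw [hg, hdA, one_pow]) h
  rcases hμ with hμ | h5
  · exact covered_of_ns (fun g hg hns => main g hg (Or.inl hns)) hμ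
      (main _ (by rw [Matrix.det_smul, Matrix.det_one, mul_one, Fintype.card_fin, hμ]) (Or.inr (Or.inr rfl)))
  · exact covered_of_all fun g hg => main g hg (Or.inr (Or.inl h5))

/-- Coverage from any element, in large dimension. -/
theorem covered_elem (hq : 4 ≤ Fintype.card F) {n : ℕ} (hn : 6 ≤ n) {A : Matrix (Fin n) (Fin n) F} (hA : NS A)
    (hdA : A.det = 1) {ms : Multiset F} (hE : Elem A ms) : Covered A := by
  obtain ⟨T, β, hT, hs, hβ, hd, hF, -⟩ := hE
  exact covered_of_all fun g hg => cover_six hq (by omega) subset_rfl (fun X hX => cls_det hX) hA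
    (by rw [hdA]; exact one_ne_zero) hT hs hβ hd hF (by omega) (by rw [hg, hdA, one_pow])

/-- **Classes without scalar block.** -/
theorem covered_zero (hq : 4 ≤ Fintype.card F) {n : ℕ} (hn : 4 ≤ n) {A : Matrix (Fin n) (Fin n) F} {lam : F}
    {l : List F[X]} (hsh : Shape A 0 lam l) (hdA : A.det = 1) : Covered A := by
  have hdim := shape_dim hsh
  have hl := hsh.2.1
  have hp := hsh.2.2.1
  have hne := hsh.2.2.2.2
  have hdec : Dec A l := by simpa using hsh.1
  have hA : NS A := by
    cases l with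
    | nil => exact absurd rfl hne
    | cons f l => exact ns_of_dec hdec (hl f List.mem_cons_self).2.1
  obtain ⟨l', g, rfl⟩ : ∃ l' g, l = l' ++ [g] :=
    ⟨l.dropLast, l.getLast hne, (List.dropLast_append_getLast hne).symm⟩
  have hgm : g ∈ l' ++ [g] := List.mem_append_right _ List.mem_cons_self
  obtain ⟨hg, hg2, hg0⟩ := hl g hgm
  simp only [List.map_append, List.map_cons, List.map_nil, List.sum_append, List.sum_singleton, zero_add] at hdim
  by_cases hr : l' = []
  · -- one block
    subst hr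
    simp only [List.map_nil, List.sum_nil, zero_add] at hdim
    have hE := full_special (ps := []) (c := (-1 : F)) hq (by simpa using hdec) (by simp) List.Pairwise.nil hg hg0
      (by omega) (by simp) (by simpa using cdet_one A) (by simpa using cdet_bd_neg_sq hdec hgm 1)
      (by simp [listVals]) (Or.inr (by omega))
    simp only [List.nil_append, listVals_single, blockVals] at hE
    by_cases h6 : 6 ≤ n
    · exact covered_elem hq h6 hA hdA hE
    obtain ⟨m, rfl⟩ : ∃ m, n = m + 2 := ⟨n - 2, by omega⟩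
    set b := bv (g, (-1 : F)) with hb
    have hms : msOf (Fin.cons b (fun _ => -1) : Fin (m + 2) → F) =
        b ::ₘ Multiset.replicate (g.natDegree - 1) (-1) := by
      rw [msOf_head]
      congr 1
      simp [msOf, Fin.univ_val_map, List.ofFn_const, ← hdim]
    refine covered_paired hq (by omega) hA hdA (β := Fin.cons b fun _ => -1) (γ := Fin.cons b fun _ => -1)
      (by rw [hms]; exact hE) (grouped_head _ _) (grouped_head _ _) rfl (μ := 1) (fun i => by simp) (Or.inl (one_pow _))
  by_cases hfull : ∀ a : F, a ≠ 0 → CDet A a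
  · -- every determinant
    have hD : Sc A = Cls A := sc_eq_cls hfull
    by_cases h6 : 6 ≤ n
    · obtain ⟨T, β, hT, hs, hβ, hd, hF, -⟩ := exists_elem hq hsh one_ne_zero (Or.inl (Nat.zero_le _))
      exact covered_elem hq h6 hA hdA ⟨T, β, hT, hs, hβ, hd, hD ▸ hF, rfl⟩
    obtain ⟨f, rfl⟩ : ∃ f, l' = [f] := by
      match l', hr with
      | [f], _ => exact ⟨f, rfl⟩
      | a :: b :: l₂, _ =>
        exfalso
        have h1 := (hl a (by simp)).2.1
        have h2 := (hl b (by simp)).2.1
        simp only [List.map_cons, List.sum_cons] at hdim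
        omega
    simp only [List.map_singleton, List.sum_singleton] at hdim
    obtain ⟨hf, hf2, hf0⟩ := hl f (by simp)
    have hfg : f ∣ g := (List.pairwise_cons.1 hp).1 g (by simp)
    have hdeg := natDegree_le_of_dvd hfg hg.ne_zero
    have hfd : f.natDegree = 2 := by omega
    have hdet := dec_det _ hdec
    simp only [List.cons_append, List.nil_append, List.map_cons, List.map_nil, List.prod_cons, List.prod_nil,
      mul_one, hdA, hfd, neg_one_sq, one_mul] at hdet
    rcases (show g.natDegree = 2 ∨ g.natDegree = 3 by omega) with hgd | hgd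
    · -- two quadratic blocks
      obtain rfl : n = 2 + 2 := by omega
      obtain rfl : g = f := eq_of_monic_of_dvd_of_natDegree_le hf hg hfg (by omega)
      rw [hgd, neg_one_sq, one_mul, ← sq] at hdet
      obtain ⟨w, -, hw⟩ := Finset.exists_mem_notMem_of_card_lt_card (s := ({0, 1, -1} : Finset F))
        (t := Finset.univ) (lt_of_le_of_lt Finset.card_le_three (by rw [Finset.card_univ]; omega))
      simp only [Finset.mem_insert, Finset.mem_singleton, not_or] at hw
      obtain ⟨hw0, hw1, hw1'⟩ := hw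
      have hw2 : w ^ 2 ≠ 1 := fun h => (sq_eq_one_iff.1 h).elim hw1 hw1'
      have hb : bv (g, w) = w⁻¹ := by simp [bv, hgd, ← hdet]
      have hbw : w⁻¹ ≠ w := fun h => hw2 (by rw [sq]; nth_rw 1 [← h]; exact inv_mul_cancel₀ hw0)
      have hv : Valid (g, w) := ⟨hg, hg2, hg0, hw0, fun _ => Or.inl (by simp only; rw [← hdet]; exact hw2)⟩
      have hE := elem_of_list (by omega) [(g, w), (g, w)] (by simpa using hdec) (by simp [hv])
        (List.pairwise_pair.2 fun _ => ⟨hgd, Or.inr (Or.inr (by rw [hb]; exact hbw))⟩)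
        (hfull _ (prod_bd_ne (by simp [hv]))) w (flex_all hfull _)
      refine covered_paired hq le_rfl hA hdA (β := ![w⁻¹, w⁻¹, w, w]) (γ := ![w, w, w⁻¹, w⁻¹]) ?_
        (grouped_two_two hbw) (grouped_two_two (Ne.symm hbw)) ?_ (μ := 1)
        (fun i => by fin_cases i <;> simp [hw0]) (Or.inl (one_pow _))
      · convert hE using 1
        simp [listVals, blockVals, hb, hgd, msOf, Fin.univ_val_map, List.ofFn_succ]
        rfl
      · simp [msOf, Fin.univ_val_map, List.ofFn_succ]
        exact List.perm_append_comm (l₁ := [w, w]) (l₂ := [w⁻¹, w⁻¹])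
    · -- a quadratic and a cubic block
      obtain rfl : n = 3 + 2 := by omega
      rw [hgd] at hdet
      set d := f.coeff 0 with hdd
      have hd0 : d ≠ 0 := hf0
      have hg' : ((-1) ^ 3 * g.coeff 0) ^ 2 = (d ^ 2)⁻¹ := by
        rw [eq_inv_of_mul_eq_one_right hdet.symm, inv_pow]
      obtain ⟨w, p, hw0, hwv, hp1, hvals⟩ : ∃ w p : F, w ≠ 0 ∧ w ^ 2 ≠ d ^ 2 ∧ p ≠ 1 ∧
          ((d ^ 2 / w = p ∧ w = 1 ∧ (d ^ 2)⁻¹ = p⁻¹) ∨ (d ^ 2 / w = p⁻¹ ∧ w = p ∧ (d ^ 2)⁻¹ = 1)) := by
        by_cases hd2 : d ^ 2 = 1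
        · obtain ⟨w, -, hw⟩ := Finset.exists_mem_notMem_of_card_lt_card (s := ({0, 1, -1} : Finset F))
            (t := Finset.univ) (lt_of_le_of_lt Finset.card_le_three (by rw [Finset.card_univ]; omega))
          simp only [Finset.mem_insert, Finset.mem_singleton, not_or] at hw
          exact ⟨w, w, hw.1, by rw [hd2]; exact fun h => (sq_eq_one_iff.1 h).elim hw.2.1 hw.2.2, hw.2.1,
            Or.inr ⟨by rw [hd2, one_div], rfl, by rw [hd2, inv_one]⟩⟩
        · exact ⟨1, d ^ 2, one_ne_zero, by rw [one_pow]; exact Ne.symm hd2, hd2,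
            Or.inl ⟨div_one _, rfl, rfl⟩⟩
      have hv : ∀ q ∈ [(f, w), (g, (1 : F))], Valid q := by
        simp only [List.mem_cons, List.not_mem_nil, or_false, forall_eq_or_imp, forall_eq]
        exact ⟨⟨hf, hf2, hf0, hw0, fun _ => Or.inl hwv⟩, ⟨hg, hg2, hg0, one_ne_zero, fun h => by simp only at h; omega⟩⟩
      have hE := elem_of_list (by omega) [(f, w), (g, (1 : F))] (by simpa using hdec) hv
        (List.pairwise_pair.2 fun h => by simp only at h; omega)
        (hfull _ (prod_bd_ne hv)) w (flex_all hfull _)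
      have hbf : bv (f, w) = d ^ 2 / w := by simp [bv, hfd, ← hdd]
      have hbg : bv (g, (1 : F)) = (d ^ 2)⁻¹ := by
        rw [bv]; simp only [hgd, one_pow, div_one]; exact hg'
      have hms : listVals [(f, w), (g, (1 : F))] = msOf (![1, 1, 1, p, p⁻¹] : Fin 5 → F) := by
        simp [listVals, blockVals, hfd, hgd, hbf, hbg, msOf, Fin.univ_val_map, List.ofFn_succ]
        rcases hvals with ⟨h1, h2, h3⟩ | ⟨h1, h2, h3⟩ <;> rw [h1, h2, h3]
        · exact Multiset.coe_eq_coe.2 ((List.perm_iff_count).2 fun a => by simp [List.count_cons]; ring)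
        · exact Multiset.coe_eq_coe.2 ((List.perm_iff_count).2 fun a => by simp [List.count_cons]; ring)
      have hp0 : p ≠ 0 := by
        rintro rfl
        rcases hvals with ⟨h1, -, h3⟩ | ⟨-, h2, -⟩
        · rw [_root_.inv_zero] at h3; exact inv_ne_zero (pow_ne_zero 2 hd0) h3
        · exact hw0 h2
      have hp1' : p⁻¹ ≠ 1 := fun h => hp1 (inv_eq_one.1 h)
      refine covered_paired hq (by omega) hA hdA (β := ![1, 1, 1, p, p⁻¹]) (γ := ![1, 1, 1, p⁻¹, p]) (hms ▸ hE)
        (grouped_three_one hp1 hp1') (grouped_three_one hp1' hp1) ?_ (μ := 1)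
        (fun i => by fin_cases i <;> simp [hp0]) (Or.inr (by omega))
      simp [msOf, Fin.univ_val_map, List.ofFn_succ]
      exact List.Perm.swap _ _ _
  -- some determinant is missing
  by_cases hg3 : 3 ≤ g.natDegree
  · by_cases h6 : 6 ≤ n
    · by_cases hsq : ∀ a : F, a ≠ 0 → CDet A (a ^ 2)
      · obtain ⟨ms, hE⟩ := elem_big_squares hq hdec hl hp hfull hsq hg3
        exact covered_elem hq h6 hA hdA hE
      · push Not at hsq
        obtain ⟨s, hs0, hs⟩ := hsq
        obtain ⟨ms, hE⟩ := elem_big_cubes hq hdec hl hp hdA hr ⟨s, hs0, hs⟩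
        exact covered_elem hq h6 hA hdA hE
    · exfalso
      obtain ⟨f, l₂, rfl⟩ := List.exists_cons_of_ne_nil hr
      have h1 := (hl f (by simp)).2.1
      simp only [List.map_cons, List.sum_cons] at hdim
      refine hfull fun a ha => ?_
      have h2 := cdet_scalar hdec (f := f) (by simp) a
      have h3 := cdet_scalar hdec hgm a
      rw [show f.natDegree = 2 by omega] at h2
      rw [show g.natDegree = 3 by omega] at h3
      have := h3.mul (h2.inv (pow_ne_zero _ ha))
      rwa [show a ^ 3 * (a ^ 2)⁻¹ = a by field_simp] at this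
  -- only quadratic blocks
  obtain ⟨f, u, hu, hrep, hd⟩ := chain_deg_two hsh (fun ⟨f, hf, hf3⟩ => hg3 (by
    rcases List.mem_append.1 hf with h | h
    · have := natDegree_le_of_dvd ((List.pairwise_append.1 hp).2.2 f h g List.mem_cons_self) hg.ne_zero
      omega
    · rw [← List.mem_singleton.1 h]; exact hf3))
  rw [hrep] at hdec
  have hn2 : n = 2 * u := by
    have := shape_dim hsh
    rw [hrep] at this
    simpa [hd, mul_comm] using this
  have hfm : f ∈ l' ++ [g] := hrep ▸ List.mem_replicate.2 ⟨by omega, rfl⟩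
  obtain ⟨hf, -, hf0⟩ := hl f hfm
  obtain ⟨d, w, hdd, hd0, hw0, hwsq, hE⟩ := elem_quad hq (by omega) hdec hf hd hfull hf0
  by_cases h6 : 6 ≤ n
  · exact covered_elem hq h6 hA hdA hE
  obtain rfl : u = 2 := by omega
  obtain rfl : n = 2 + 2 := by omega
  have hd2 : d ^ 2 = 1 := by
    have := dec_det _ hdec
    simpa [hdA, hd, ← hdd, sq] using this.symm
  have hwd : d ≠ w := fun h => hwsq (by rw [h])
  have hbd : d ≠ d ^ 2 / w := fun h => hwd (by
    rw [eq_div_iff hw0] at h
    exact (mul_left_cancel₀ hd0 (h.trans (sq d))).symm)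
  refine covered_paired hq le_rfl hA hdA (β := ![d, d, d ^ 2 / w, w]) (γ := ![d, d, w, d ^ 2 / w]) ?_
    (grouped_two_one hbd hwd) (grouped_two_one hwd hbd) ?_ (μ := 1)
    (fun i => by fin_cases i <;> simp [← hd2] <;> field_simp) (Or.inl (one_pow _))
  · convert hE using 1
    simp [msOf, Fin.univ_val_map, List.ofFn_succ, Multiset.replicate_succ]
    rw [Multiset.cons_swap (d ^ 2 / w) d, Multiset.cons_swap (d ^ 2 / w) d]
    rfl
  · simp [msOf, Fin.univ_val_map, List.ofFn_succ]
    exact List.Perm.swap _ _ _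

end H89.CN
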