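import Mathlib

/-!
Cyclic matrices (row version): Krylov matrices, similarity, prescribed characteristic polynomial.
-/

set_option autoImplicit false

namespace H89.CN

open Matrix Polynomial

variable {F : Type*} [Field F] {n : ℕ}

/-- The Krylov matrix: its rows are `φ`, `φ M`, `φ M ^ 2`, ... -/
def kry (M : Matrix (Fin n) (Fin n) F) (φ : Fin n → F) : Matrix (Fin n) (Fin n) F :=
  Matrix.of fun i j => (φ ᵥ* M ^ (i : ℕ)) j

lemma kry_row (M : Matrix (Fin n) (Fin n) F) (φ : Fin n → F) (i : Fin n) :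
    kry M φ i = φ ᵥ* M ^ (i : ℕ) := rfl

/-- A cyclic matrix. -/
def Cyc (M : Matrix (Fin n) (Fin n) F) : Prop := ∃ φ, (kry M φ).det ≠ 0

/-- The row companion matrix. -/
def rComp (n : ℕ) (χ : F[X]) : Matrix (Fin n) (Fin n) F :=
  Matrix.of fun i j => if i.val + 1 < n then (if j.val = i.val + 1 then 1 else 0) else -χ.coeff j

lemma vecMul_pow_succ (M : Matrix (Fin n) (Fin n) F) (φ : Fin n → F) (i : ℕ) :
    φ ᵥ* M ^ (i + 1) = (φ ᵥ* M ^ i) ᵥ* M := by
  rw [pow_succ, Matrix.vecMul_vecMul]

lemma vecMul_aeval (M : Matrix (Fin n) (Fin n) F) (φ : Fin n → F) (p : F[X]) {d : ℕ} (hd : p.natDegree < d) :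
    φ ᵥ* aeval M p = ∑ i ∈ Finset.range d, p.coeff i • (φ ᵥ* M ^ i) := by
  rw [aeval_eq_sum_range' hd]
  induction d with
  | zero => omega
  | succ d ih =>
    clear ih hd
    induction d + 1 with
    | zero => simp
    | succ e ih => rw [Finset.sum_range_succ, Finset.sum_range_succ, Matrix.vecMul_add, ih, Matrix.vecMul_smul]

lemma kry_mul {M : Matrix (Fin n) (Fin n) F} {φ : Fin n → F} {χ : F[X]} (hm : χ.Monic) (hd : χ.natDegree = n)
    (hz : φ ᵥ* aeval M χ = 0) : kry M φ * M = rComp n χ * kry M φ := by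
  ext i j
  rw [Matrix.mul_apply_eq_vecMul, Matrix.mul_apply_eq_vecMul, kry_row, ← vecMul_pow_succ]
  by_cases hi : i.val + 1 < n
  · have : rComp n χ i = Pi.single (⟨i.val + 1, hi⟩ : Fin n) 1 := by
      funext k
      simp [rComp, hi, Pi.single_apply, Fin.ext_iff]
    rw [this, Matrix.single_one_vecMul]
    rfl
  · have hin : i.val + 1 = n := by omega
    rw [hin]
    rw [vecMul_aeval M φ χ (show χ.natDegree < n + 1 by omega), Finset.sum_range_succ] at hz
    have hc : χ.coeff n = 1 := hd ▸ hm.coeff_natDegree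
    rw [hc, one_smul, add_eq_zero_iff_eq_neg'] at hz
    rw [hz, Pi.neg_apply, Finset.sum_apply]
    simp only [Matrix.vecMul, dotProduct, rComp, Matrix.of_apply, if_neg hi, kry, neg_mul,
      Finset.sum_neg_distrib, neg_inj, Pi.smul_apply, smul_eq_mul]
    rw [Finset.sum_range]

lemma vecMul_aeval_charpoly (M : Matrix (Fin n) (Fin n) F) (φ : Fin n → F) :
    φ ᵥ* aeval M M.charpoly = 0 := by
  rw [Matrix.aeval_self_charpoly, Matrix.vecMul_zero]

lemma charpoly_natDegree_fin (M : Matrix (Fin n) (Fin n) F) : M.charpoly.natDegree = n := by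
  rw [Matrix.charpoly_natDegree_eq_dim, Fintype.card_fin]

/-- An annihilating monic polynomial of full degree of a cyclic vector is the characteristic polynomial. -/
lemma charpoly_eq {M : Matrix (Fin n) (Fin n) F} {φ : Fin n → F} (hk : (kry M φ).det ≠ 0) {χ : F[X]}
    (hm : χ.Monic) (hd : χ.natDegree = n) (hz : φ ᵥ* aeval M χ = 0) : M.charpoly = χ := by
  ext k
  rcases Nat.lt_trichotomy k n with hk' | hk' | hk'
  · have h1 := kry_mul (Matrix.charpoly_monic M) (charpoly_natDegree_fin M) (vecMul_aeval_charpoly M φ)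
    have h2 := kry_mul hm hd hz
    rw [h1] at h2
    have h3 := congrArg (· * (kry M φ)⁻¹) h2
    simp only [Matrix.mul_assoc, Matrix.mul_nonsing_inv _ (isUnit_iff_ne_zero.2 hk), Matrix.mul_one] at h3
    have h4 := congrFun (congrFun h3 ⟨n - 1, by omega⟩) ⟨k, hk'⟩
    simp [rComp, show ¬ (n - 1 + 1 < n) by omega] at h4
    exact h4
  · subst hk'
    have h1 := (Matrix.charpoly_monic M).coeff_natDegree
    have h2 := hm.coeff_natDegree
    rw [charpoly_natDegree_fin] at h1
    rw [hd] at h2
    rw [h1, h2]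
  · rw [coeff_eq_zero_of_natDegree_lt (by rw [charpoly_natDegree_fin]; exact hk'),
      coeff_eq_zero_of_natDegree_lt (by omega)]

/-- Cyclic matrices with the same characteristic polynomial are similar, with explicit conjugator. -/
lemma kry_conj {M M' : Matrix (Fin n) (Fin n) F} {φ φ' : Fin n → F} (h' : (kry M' φ').det ≠ 0)
    (hc : M.charpoly = M'.charpoly) :
    ((kry M' φ')⁻¹ * kry M φ) * M = M' * ((kry M' φ')⁻¹ * kry M φ) := by
  have h1 := kry_mul (Matrix.charpoly_monic M) (charpoly_natDegree_fin M) (vecMul_aeval_charpoly M φ)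
  have h2 := kry_mul (Matrix.charpoly_monic M') (charpoly_natDegree_fin M') (vecMul_aeval_charpoly M' φ')
  rw [← hc] at h2
  have hu := isUnit_iff_ne_zero.2 h'
  have h3 : M' = (kry M' φ')⁻¹ * rComp n M.charpoly * kry M' φ' := by
    rw [Matrix.mul_assoc, ← h2, Matrix.nonsing_inv_mul_cancel_left _ _ hu]
  generalize hK : kry M' φ' = K at h2 h3 hu ⊢
  rw [Matrix.mul_assoc, h1, h3]
  simp only [Matrix.mul_assoc]
  rw [Matrix.mul_nonsing_inv_cancel_left _ _ hu]

lemma cyc_similar {M M' : Matrix (Fin n) (Fin n) F} (h : Cyc M) (h' : Cyc M')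
    (hc : M.charpoly = M'.charpoly) :
    ∃ P : Matrix (Fin n) (Fin n) F, IsUnit P.det ∧ P * M = M' * P := by
  obtain ⟨φ, hφ⟩ := h
  obtain ⟨φ', hφ'⟩ := h'
  refine ⟨(kry M' φ')⁻¹ * kry M φ, ?_, kry_conj hφ' hc⟩
  rw [Matrix.det_mul]
  exact (Matrix.isUnit_nonsing_inv_det _ (isUnit_iff_ne_zero.2 hφ')).mul (isUnit_iff_ne_zero.2 hφ)

lemma kry_conj_right (M P : Matrix (Fin n) (Fin n) F) (hP : IsUnit P.det) (φ : Fin n → F) :
    kry (P⁻¹ * M * P) (φ ᵥ* P) = kry M φ * P := by
  have key : ∀ i : ℕ, P * (P⁻¹ * M * P) ^ i = M ^ i * P := by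
    intro i
    induction i with
    | zero => simp
    | succ i ih =>
      rw [pow_succ, ← Matrix.mul_assoc, ih, pow_succ]
      simp only [Matrix.mul_assoc]
      rw [Matrix.mul_nonsing_inv_cancel_left _ _ hP]
  ext i j
  rw [Matrix.mul_apply_eq_vecMul, kry_row, kry_row, Matrix.vecMul_vecMul, key, ← Matrix.vecMul_vecMul]

lemma Cyc.conj {M P : Matrix (Fin n) (Fin n) F} (h : Cyc M) (hP : IsUnit P.det) : Cyc (P⁻¹ * M * P) := by
  obtain ⟨φ, hφ⟩ := h
  refine ⟨φ ᵥ* P, ?_⟩
  rw [kry_conj_right M P hP, Matrix.det_mul]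
  exact mul_ne_zero hφ hP.ne_zero

/-- The shifted sequence of monic polynomials. -/
noncomputable def chainPoly (a : ℕ → F) : ℕ → F[X]
  | 0 => 1
  | i + 1 => X * chainPoly a i + C (a i)

lemma chainPoly_monic_natDegree (a : ℕ → F) : ∀ i, (chainPoly a i).Monic ∧ (chainPoly a i).natDegree = i
  | 0 => by simp [chainPoly]
  | i + 1 => by
    obtain ⟨h1, h2⟩ := chainPoly_monic_natDegree a i
    have hX : (X * chainPoly a i).Monic := monic_X.mul h1
    have hd : (X * chainPoly a i).natDegree = i + 1 := by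
      rw [natDegree_X_mul h1.ne_zero, h2]
    have hlt : (C (a i)).degree < (X * chainPoly a i).degree := by
      rw [degree_eq_natDegree hX.ne_zero, hd]
      exact lt_of_le_of_lt degree_C_le (by exact_mod_cast Nat.succ_pos i)
    refine ⟨hX.add_of_left hlt, ?_⟩
    simp only [chainPoly]
    rw [natDegree_add_C, hd]

lemma chainPoly_congr {a b : ℕ → F} : ∀ {i : ℕ}, (∀ k < i, a k = b k) → chainPoly a i = chainPoly b i
  | 0, _ => rfl
  | i + 1, h => by
    simp only [chainPoly]
    rw [chainPoly_congr (i := i) fun k hk => h k (by omega), h i (by omega)]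

/-- Every monic polynomial is reached by a chain. -/
lemma exists_chain : ∀ (n : ℕ) (c : ℕ → F) (h : F[X]), c n = 1 → h.Monic → h.natDegree = n →
    ∃ a : ℕ → F, ∑ j ∈ Finset.range (n + 1), C (c j) * chainPoly a j = h
  | 0, c, h, hc, hm, hd => ⟨0, by
      simp [chainPoly, hc, (Polynomial.Monic.natDegree_eq_zero hm).1 hd]⟩
  | n + 1, c, h, hc, hm, hd => by
    have hd1 : h.divX.natDegree = n := by rw [natDegree_divX_eq_natDegree_tsub_one, hd]; omega
    have hm1 : h.divX.Monic := by
      rw [Monic, leadingCoeff, hd1, coeff_divX, ← hd]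
      exact hm
    obtain ⟨a, ha⟩ := exists_chain n (fun j => c (j + 1)) h.divX hc hm1 hd1
    set t := h.coeff 0 - c 0 - ∑ j ∈ Finset.range n, c (j + 1) * a j
    refine ⟨Function.update a n t, ?_⟩
    rw [Finset.sum_range_succ']
    have hP : ∀ j, j ≤ n → chainPoly (Function.update a n t) j = chainPoly a j :=
      fun j hj => chainPoly_congr fun k hk => Function.update_of_ne (by omega) _ _
    have hsum : ∀ j ∈ Finset.range (n + 1), C (c (j + 1)) * chainPoly (Function.update a n t) (j + 1) =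
        X * (C (c (j + 1)) * chainPoly a j) + C (c (j + 1) * Function.update a n t j) := by
      intro j hj
      simp only [chainPoly, C_mul]
      rw [hP j (by simpa [Finset.mem_range] using Nat.lt_succ_iff.1 (Finset.mem_range.1 hj))]
      ring
    rw [Finset.sum_congr rfl hsum, Finset.sum_add_distrib, ← Finset.mul_sum, ha, chainPoly, mul_one, ← map_sum C]
    conv_rhs => rw [← X_mul_divX_add h]
    rw [add_assoc, ← C_add]
    congr 2
    rw [Finset.sum_range_succ, Function.update_self,
      Finset.sum_congr rfl fun j (hj : j ∈ Finset.range n) => by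
        rw [Function.update_of_ne (Finset.mem_range.1 hj).ne]]
    simp only [t, hc, one_mul]
    ring

/-- **Prescribed characteristic polynomial** by a rank one perturbation along a cyclic row vector. -/
theorem exists_assign {M : Matrix (Fin n) (Fin n) F} {φ : Fin n → F} (hk : (kry M φ).det ≠ 0) {χ : F[X]}
    (hm : χ.Monic) (hd : χ.natDegree = n) :
    ∃ x : Fin n → F, (M + vecMulVec x φ).charpoly = χ ∧ (kry (M + vecMulVec x φ) φ).det ≠ 0 := by
  obtain ⟨a, ha⟩ := exists_chain n (fun j => χ.coeff j) M.charpoly (hd ▸ hm.coeff_natDegree)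
    (Matrix.charpoly_monic M) (charpoly_natDegree_fin M)
  -- the new Krylov basis
  let K' : Matrix (Fin n) (Fin n) F := Matrix.of fun i j => (φ ᵥ* aeval M (chainPoly a i)) j
  have hKU : K' = (Matrix.of fun i j : Fin n => (chainPoly a i).coeff j) * kry M φ := by
    ext i j
    rw [Matrix.mul_apply]
    simp only [K', Matrix.of_apply]
    rw [vecMul_aeval M φ _ (show (chainPoly a i).natDegree < n by rw [(chainPoly_monic_natDegree a i).2]; exact i.2),
      Finset.sum_apply]
    rw [← Fin.sum_univ_eq_sum_range (fun k => ((chainPoly a i).coeff k • (φ ᵥ* M ^ k)) j) n]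
    rfl
  have hK' : K'.det ≠ 0 := by
    rw [hKU, Matrix.det_mul]
    refine mul_ne_zero ?_ hk
    rw [Matrix.det_of_lowerTriangular]
    · refine Finset.prod_ne_zero_iff.2 fun i _ => ?_
      obtain ⟨h1, h2⟩ := chainPoly_monic_natDegree a i
      have := h1.coeff_natDegree
      rw [h2] at this
      simp [this]
    · intro i j hij
      have h' : i.val < j.val := hij
      simp only [Matrix.of_apply]
      exact coeff_eq_zero_of_natDegree_lt (by rw [(chainPoly_monic_natDegree a i).2]; exact h')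
  let x : Fin n → F := K'⁻¹ *ᵥ fun i => a i
  have hx : ∀ i : Fin n, (φ ᵥ* aeval M (chainPoly a i)) ⬝ᵥ x = a i := by
    intro i
    have h := congrFun (Matrix.mulVec_mulVec (fun i : Fin n => a i) K' K'⁻¹) i
    rw [Matrix.mul_nonsing_inv _ (isUnit_iff_ne_zero.2 hK'), Matrix.one_mulVec] at h
    exact h
  set M' := M + vecMulVec x φ with hM'
  have hpow : ∀ i ≤ n, φ ᵥ* M' ^ i = φ ᵥ* aeval M (chainPoly a i) := by
    intro i
    induction i with
    | zero => intro _; simp [chainPoly]
    | succ i ih =>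
      intro hi
      rw [vecMul_pow_succ, ih (by omega), hM', Matrix.vecMul_add, Matrix.vecMul_vecMulVec, hx ⟨i, by omega⟩]
      simp only [chainPoly, map_add, map_mul, aeval_X, aeval_C, Algebra.algebraMap_eq_smul_one, Matrix.vecMul_add,
        Matrix.vecMul_smul, Matrix.vecMul_one]
      congr 1
      rw [Matrix.vecMul_vecMul]
      congr 1
      have hcm := ((Commute.all X (chainPoly a i)).map (aeval M)).eq
      rw [aeval_X] at hcm
      exact hcm.symm
  have hk' : (kry M' φ).det ≠ 0 := by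
    have : kry M' φ = K' := by
      ext i j
      exact congrFun (hpow i i.2.le) j
    rw [this]; exact hK'
  refine ⟨x, charpoly_eq hk' hm hd ?_, hk'⟩
  rw [vecMul_aeval M' φ χ (show χ.natDegree < n + 1 by omega),
    Finset.sum_congr rfl fun j hj => by rw [hpow j (Nat.lt_succ_iff.1 (Finset.mem_range.1 hj))]]
  have hall := congrArg (fun p => φ ᵥ* aeval M p) ha
  rw [vecMul_aeval_charpoly] at hall
  rw [← hall]
  simp only [map_sum, map_mul, aeval_C, ← Algebra.smul_def]
  generalize n + 1 = e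
  induction e with
  | zero => simp
  | succ e ih => rw [Finset.sum_range_succ, Finset.sum_range_succ, Matrix.vecMul_add, ih, Matrix.vecMul_smul]

end H89.CN
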