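import Cfsg.Agent.H89.CN.LU
import Cfsg.Agent.H41.ElemDiv

/-!
Every matrix is similar to a block diagonal matrix of row companion matrices.
-/

set_option autoImplicit false

namespace H89.CN

open Matrix Polynomial

variable {F : Type*} [Field F]

/-- Similarity. -/
def Sim {ι : Type*} [Fintype ι] [DecidableEq ι] (A B : Matrix ι ι F) : Prop :=
  ∃ P : Matrix ι ι F, IsUnit P.det ∧ P * A = B * P

namespace Sim

variable {ι κ : Type*} [Fintype ι] [DecidableEq ι] [Fintype κ] [DecidableEq κ] {A B C : Matrix ι ι F}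

lemma refl (A : Matrix ι ι F) : Sim A A := ⟨1, by simp, by simp⟩

lemma symm (h : Sim A B) : Sim B A := by
  obtain ⟨P, hP, he⟩ := h
  refine ⟨P⁻¹, Matrix.isUnit_nonsing_inv_det _ hP, ?_⟩
  calc P⁻¹ * B = P⁻¹ * (B * (P * P⁻¹)) := by rw [Matrix.mul_nonsing_inv _ hP, Matrix.mul_one]
    _ = P⁻¹ * (P * A * P⁻¹) := by rw [he, Matrix.mul_assoc B]
    _ = A * P⁻¹ := by rw [Matrix.mul_assoc P, Matrix.nonsing_inv_mul_cancel_left _ _ hP]

lemma trans (h : Sim A B) (h' : Sim B C) : Sim A C := by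
  obtain ⟨P, hP, he⟩ := h
  obtain ⟨Q, hQ, he'⟩ := h'
  refine ⟨Q * P, by rw [Matrix.det_mul]; exact hQ.mul hP, ?_⟩
  rw [Matrix.mul_assoc, he, ← Matrix.mul_assoc, he', Matrix.mul_assoc]

lemma reindex (h : Sim A B) (e : ι ≃ κ) : Sim (Matrix.reindex e e A) (Matrix.reindex e e B) := by
  obtain ⟨P, hP, he⟩ := h
  refine ⟨Matrix.reindex e e P, by rwa [Matrix.det_reindex_self], ?_⟩
  simp only [Matrix.reindex_apply, Matrix.submatrix_mul_equiv, he]

lemma det_eq (h : Sim A B) : A.det = B.det := by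
  obtain ⟨P, hP, he⟩ := h
  have := congrArg Matrix.det he
  rw [Matrix.det_mul, Matrix.det_mul, mul_comm B.det] at this
  exact mul_left_cancel₀ hP.ne_zero this

lemma charpoly_eq (h : Sim A B) : A.charpoly = B.charpoly := by
  obtain ⟨P, hP, he⟩ := h
  obtain ⟨u, rfl⟩ := (Matrix.isUnit_iff_isUnit_det P).2 hP
  have : B = (u : Matrix ι ι F) * A * ((u⁻¹ : (Matrix ι ι F)ˣ) : Matrix ι ι F) := by
    rw [he, Matrix.mul_assoc, Units.mul_inv, Matrix.mul_one]
  rw [this, Matrix.coe_units_inv]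
  exact (Matrix.charpoly_units_conj u A).symm

lemma blocks {A' : Matrix κ κ F} {B' : Matrix κ κ F} (h : Sim A B) (h' : Sim A' B') :
    Sim (Matrix.fromBlocks A 0 0 A') (Matrix.fromBlocks B 0 0 B') := by
  obtain ⟨P, hP, he⟩ := h
  obtain ⟨Q, hQ, he'⟩ := h'
  refine ⟨Matrix.fromBlocks P 0 0 Q, by rw [Matrix.det_fromBlocks_zero₁₂]; exact hP.mul hQ, ?_⟩
  simp [Matrix.fromBlocks_multiply, he, he']

lemma RU (h : Sim A B) (hA : H89.CN.RU A) : H89.CN.RU B := by
  obtain ⟨P, hP, he⟩ := h.symm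
  intro a v v' hv hBv hBv'
  have key : ∀ w : ι → F, B *ᵥ w = a • w → A *ᵥ (P *ᵥ w) = a • (P *ᵥ w) := by
    intro w hw
    rw [Matrix.mulVec_mulVec, ← he, ← Matrix.mulVec_mulVec, hw, Matrix.mulVec_smul]
  have hinj := Matrix.mulVec_injective_of_isUnit ((Matrix.isUnit_iff_isUnit_det P).2 hP)
  obtain ⟨c, hc⟩ := hA a _ _ (fun h0 => hv (hinj (by rw [h0, Matrix.mulVec_zero]))) (key v hBv) (key v' hBv')
  exact ⟨c, hinj (by rw [hc, Matrix.mulVec_smul])⟩

end Sim

lemma Cyc.toRU {n : ℕ} {M : Matrix (Fin n) (Fin n) F} (h : Cyc M) : RU M := by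
  obtain ⟨φ, hφ⟩ := h
  intro a v v' hv he he'
  have hu := Matrix.mulVec_injective_of_isUnit ((Matrix.isUnit_iff_isUnit_det _).2 (isUnit_iff_ne_zero.2 hφ))
  have key : ∀ w, M *ᵥ w = a • w → kry M φ *ᵥ w = fun i : Fin n => a ^ (i : ℕ) * (φ ⬝ᵥ w) := by
    intro w hw
    have hp : ∀ i : ℕ, M ^ i *ᵥ w = a ^ i • w := by
      intro i
      induction i with
      | zero => simp
      | succ i ih => rw [pow_succ', ← Matrix.mulVec_mulVec, ih, Matrix.mulVec_smul, hw, smul_smul, ← pow_succ]
    funext i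
    show (φ ᵥ* M ^ (i : ℕ)) ⬝ᵥ w = _
    rw [← Matrix.dotProduct_mulVec, hp, dotProduct_smul, smul_eq_mul]
  have hne : φ ⬝ᵥ v ≠ 0 := by
    intro h0
    refine hv (hu ?_)
    rw [key v he, h0, Matrix.mulVec_zero]
    funext i
    simp
  refine ⟨(φ ⬝ᵥ v') / (φ ⬝ᵥ v), hu ?_⟩
  rw [Matrix.mulVec_smul, key v he, key v' he']
  funext i
  simp only [Pi.smul_apply, smul_eq_mul]
  field_simp

lemma Cyc.of_sim {n : ℕ} {A B : Matrix (Fin n) (Fin n) F} (h : Sim A B) (hA : Cyc A) : Cyc B := by
  obtain ⟨P, hP, he⟩ := h.symm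
  have : B = P⁻¹ * A * P := by
    rw [Matrix.mul_assoc, ← he, Matrix.nonsing_inv_mul_cancel_left _ _ hP]
  rw [this]; exact hA.conj hP

/-- The row action of a matrix. -/
def rowEnd {ι : Type*} [Fintype ι] [DecidableEq ι] (A : Matrix ι ι F) : Module.End F (ι → F) :=
  Matrix.toLin' Aᵀ

lemma rowEnd_apply {ι : Type*} [Fintype ι] [DecidableEq ι] (A : Matrix ι ι F) (v : ι → F) :
    rowEnd A v = v ᵥ* A := by
  rw [rowEnd, Matrix.toLin'_apply, Matrix.mulVec_transpose]

lemma sim_of_rowEnd {ι : Type*} [Fintype ι] [DecidableEq ι] {A B : Matrix ι ι F}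
    (h : H41.Similar (rowEnd A) (rowEnd B)) : Sim A B := by
  obtain ⟨e, he⟩ := h.symm
  refine ⟨Matrix.transpose (LinearMap.toMatrix' e.toLinearMap), ?_, ?_⟩
  · rw [Matrix.det_transpose, LinearMap.det_toMatrix']
    exact LinearEquiv.isUnit_det' e
  · apply Matrix.transpose_injective
    rw [Matrix.transpose_mul, Matrix.transpose_mul, Matrix.transpose_transpose]
    apply Matrix.toLin'.injective
    rw [Matrix.toLin'_mul, Matrix.toLin'_mul, Matrix.toLin'_toMatrix']
    exact LinearMap.ext fun v => (he v).symm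

lemma rowEnd_rComp {f : F[X]} (hm : f.Monic) (hd : 0 < f.natDegree) :
    H41.Similar (LinearMap.mulLeft F (AdjoinRoot.root f) : Module.End F (AdjoinRoot f))
      (rowEnd (rComp f.natDegree f)) := by
  haveI : Module.Finite F (AdjoinRoot f) := (AdjoinRoot.powerBasis hm.ne_zero).finite
  set m := f.natDegree with hm'
  let z : Fin m := ⟨0, hd⟩
  have hann : Polynomial.aeval (rComp m f) f = 0 := by
    conv_lhs => arg 2; rw [← (cyc_rComp hm rfl).2]
    exact Matrix.aeval_self_charpoly _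
  have hmod : ∀ Q : F[X], Polynomial.aeval (rComp m f) (Q %ₘ f) = Polynomial.aeval (rComp m f) Q := by
    intro Q
    conv_rhs => rw [← Polynomial.modByMonic_add_div Q f]
    rw [map_add, map_mul, hann, zero_mul, add_zero]
  let L : AdjoinRoot f →ₗ[F] (Fin m → F) :=
    { toFun := fun x => Pi.single z 1 ᵥ* Polynomial.aeval (rComp m f) (AdjoinRoot.modByMonicHom hm x)
      map_add' := fun x y => by rw [map_add, map_add, Matrix.vecMul_add]
      map_smul' := fun c x => by rw [map_smul, map_smul, Matrix.vecMul_smul]; rfl }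
  have hL : ∀ Q : F[X], L (AdjoinRoot.mk f Q) = Pi.single z 1 ᵥ* Polynomial.aeval (rComp m f) Q := by
    intro Q
    show Pi.single z 1 ᵥ* _ = _
    rw [AdjoinRoot.modByMonicHom_mk, hmod]
  have hpow : ∀ i : Fin m, (Pi.single z 1 : Fin m → F) ᵥ* rComp m f ^ (i : ℕ) = Pi.single i 1 := by
    rintro ⟨i, hi⟩
    induction i with
    | zero => simp [z]
    | succ i ih =>
      rw [vecMul_pow_succ, ih (by omega)]
      funext k
      simp [rComp, hi, Pi.single_apply, Fin.ext_iff]
  have hsurj : Function.Surjective L := by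
    intro w
    refine ⟨∑ i : Fin m, w i • AdjoinRoot.mk f (X ^ (i : ℕ)), ?_⟩
    rw [map_sum]
    conv_rhs => rw [pi_eq_sum_univ' w]
    refine Finset.sum_congr rfl fun i _ => ?_
    rw [map_smul]
    congr 1
    rw [hL, map_pow, aeval_X, hpow]
  have hinj : Function.Injective L :=
    (LinearMap.injective_iff_surjective_of_finrank_eq_finrank (by
      rw [H41.finrank_adjoinRoot hm.ne_zero, Module.finrank_fin_fun])).2 hsurj
  refine ⟨LinearEquiv.ofBijective L ⟨hinj, hsurj⟩, fun x => ?_⟩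
  induction x using AdjoinRoot.induction_on with
  | ih Q =>
    show L (AdjoinRoot.root f * AdjoinRoot.mk f Q) = rowEnd (rComp m f) (L (AdjoinRoot.mk f Q))
    rw [← AdjoinRoot.mk_X, ← map_mul, mul_comm, hL, hL, map_mul, aeval_X, rowEnd_apply, Matrix.vecMul_vecMul]

/-- `A` decomposes into the companion matrices of the listed polynomials. -/
def Dec : ∀ {n : ℕ}, Matrix (Fin n) (Fin n) F → List F[X] → Prop
  | n, _, [] => n = 0
  | n, A, f :: l => f.Monic ∧ 0 < f.natDegree ∧ ∃ (N : ℕ) (e : Fin f.natDegree ⊕ Fin N ≃ Fin n)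
      (A₂ : Matrix (Fin N) (Fin N) F),
      Sim A (Matrix.reindex e e (Matrix.fromBlocks (rComp f.natDegree f) 0 0 A₂)) ∧ Dec A₂ l

lemma Dec.det_rComp_ne {n : ℕ} {A : Matrix (Fin n) (Fin n) F} {f : F[X]} {l : List F[X]} (h : Dec A (f :: l))
    (hA : A.det ≠ 0) : (rComp f.natDegree f).det ≠ 0 := by
  obtain ⟨-, -, N, e, A₂, hs, -⟩ := h
  rw [hs.det_eq, Matrix.det_reindex_self, Matrix.det_fromBlocks_zero₁₂] at hA
  exact left_ne_zero_of_mul hA

theorem dec_of_similar : ∀ {N n : ℕ} (A : Matrix (Fin n) (Fin n) F) (f : Fin N → F[X]),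
    (∀ i, (f i).Monic ∧ 0 < (f i).natDegree) → H41.Similar (rowEnd A) (H41.modelEnd f) → Dec A (List.ofFn f)
  | 0, n, A, f, _, h => by
    obtain ⟨e, -⟩ := h
    show n = 0
    have := e.finrank_eq
    rw [Module.finrank_fin_fun] at this
    rw [this]
    exact Module.finrank_zero_of_subsingleton
  | N + 1, n, A, f, hf, h => by
    haveI : ∀ i, Module.Finite F (AdjoinRoot (f i)) := fun i => (AdjoinRoot.powerBasis (hf i).1.ne_zero).finite
    rw [List.ofFn_succ]
    set m := (f 0).natDegree with hm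
    let g : Fin N → F[X] := fun i => f i.succ
    let M := ∑ i, (g i).natDegree
    have hfin : Module.finrank F (Π i, AdjoinRoot (g i)) = M :=
      H41.finrank_modelSpace g fun i => (hf i.succ).1.ne_zero
    let c : (Π i, AdjoinRoot (g i)) ≃ₗ[F] (Fin M → F) :=
      (Module.finBasisOfFinrankEq F _ hfin).equivFun
    let A₂ : Matrix (Fin M) (Fin M) F :=
      Matrix.transpose (LinearMap.toMatrix' (c.toLinearMap ∘ₗ H41.modelEnd g ∘ₗ c.symm.toLinearMap))
    have hA₂ : H41.Similar (rowEnd A₂) (H41.modelEnd g) := by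
      refine ⟨c.symm, fun v => ?_⟩
      rw [rowEnd, show A₂ᵀ = _ from Matrix.transpose_transpose _, Matrix.toLin'_toMatrix']
      simp
    have hn : m + M = n := by
      obtain ⟨e, -⟩ := h
      have := e.finrank_eq
      rw [Module.finrank_fin_fun, H41.finrank_modelSpace f fun i => (hf i).1.ne_zero, Fin.sum_univ_succ] at this
      exact this.symm
    let e : Fin m ⊕ Fin M ≃ Fin n := finSumFinEquiv.trans (finCongr hn)
    refine ⟨(hf 0).1, (hf 0).2, M, e, A₂, sim_of_rowEnd ?_, dec_of_similar A₂ g (fun i => hf i.succ) hA₂⟩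
    refine h.trans (H41.Similar.symm ?_)
    obtain ⟨a, ha⟩ := (rowEnd_rComp (hf 0).1 (hf 0).2).symm
    obtain ⟨b, hb⟩ := hA₂
    let Φ : (Fin n → F) ≃ₗ[F] (Π i, AdjoinRoot (f i)) :=
      { toFun := fun v => Fin.cons (α := fun i => AdjoinRoot (f i)) (a fun i => v (e (Sum.inl i)))
            (b fun i => v (e (Sum.inr i)))
        map_add' := fun v w => by
          funext i
          cases i using Fin.cases with
          | zero => simp only [Fin.cons_zero, Pi.add_apply]; exact map_add a _ _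
          | succ i => simp only [Fin.cons_succ, Pi.add_apply]; exact congrFun (map_add b _ _) i
        map_smul' := fun s w => by
          funext i
          cases i using Fin.cases with
          | zero => simp only [Fin.cons_zero, Pi.smul_apply, RingHom.id_apply]; exact map_smul a s _
          | succ i => simp only [Fin.cons_succ, Pi.smul_apply, RingHom.id_apply]; exact congrFun (map_smul b s _) i
        invFun := fun x j => Sum.elim (a.symm (x 0)) (b.symm fun i => x i.succ) (e.symm j)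
        left_inv := fun v => by
          funext j
          dsimp only
          obtain ⟨s, rfl⟩ := e.surjective j
          simp only [Fin.cons_zero, Fin.cons_succ, LinearEquiv.symm_apply_apply, Equiv.symm_apply_apply]
          cases s <;> rfl
        right_inv := fun x => by
          funext i
          cases i using Fin.cases with
          | zero => simp
          | succ i => simp }
    refine ⟨Φ, fun v => ?_⟩
    funext i
    rw [rowEnd_apply, H41.modelEnd_apply]
    have key : ∀ s, (v ᵥ* Matrix.reindex e e (Matrix.fromBlocks (rComp m (f 0)) 0 0 A₂)) (e s) =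
        Sum.elim ((fun i => v (e (Sum.inl i))) ᵥ* rComp m (f 0)) ((fun i => v (e (Sum.inr i))) ᵥ* A₂) s := by
      intro s
      have h1 : (v ∘ e) ᵥ* Matrix.fromBlocks (rComp m (f 0)) 0 0 A₂ =
          Sum.elim ((fun i => v (e (Sum.inl i))) ᵥ* rComp m (f 0)) ((fun i => v (e (Sum.inr i))) ᵥ* A₂) := by
        rw [Matrix.vecMul_fromBlocks]
        simp [Function.comp_def]
      rw [← h1, Matrix.reindex_apply, Matrix.submatrix_vecMul_equiv]
      simp [Function.comp_def]
    cases i using Fin.cases with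
    | zero =>
      show a (fun i => _) = AdjoinRoot.root (f 0) * a (fun i => v (e (Sum.inl i)))
      rw [show (fun i => _) = _ from funext fun i => key (Sum.inl i), ← rowEnd_apply]
      exact ha _
    | succ i =>
      show b (fun i => _) i = AdjoinRoot.root (f i.succ) * b (fun i => v (e (Sum.inr i))) i
      rw [show (fun i => _) = (fun i => v (e (Sum.inr i))) ᵥ* A₂ from funext fun i => key (Sum.inr i), ← rowEnd_apply]
      show b (rowEnd A₂ fun i => v (e (Sum.inr i))) i = _
      exact congrFun (hb _) i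

/-- Elementary divisor decomposition. -/
theorem exists_dec {n : ℕ} (A : Matrix (Fin n) (Fin n) F) : ∃ l, Dec A l := by
  obtain ⟨N, p, e, hp, hs⟩ := H41.exists_model (rowEnd A)
  refine ⟨_, dec_of_similar A (fun i => p i ^ e i) (fun i => ⟨(hp i).1.pow _, ?_⟩) hs⟩
  rw [Polynomial.natDegree_pow]
  exact Nat.mul_pos (hp i).2.2 (hp i).2.1.natDegree_pos

end H89.CN
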