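import Cfsg.Agent.H89.CN.Cyclic
import Cfsg.Agent.H41.TriFactor
import Cfsg.Agent.H41.RegChoice

/-!
A split matrix with one eigenvector per eigenvalue is cyclic; triangular and block triangular criteria.
-/

set_option autoImplicit false

namespace H89.CN

open Matrix Polynomial

variable {F : Type*} [Field F] {ι κ : Type*} [Fintype ι] [DecidableEq ι] [Fintype κ] [DecidableEq κ]

/-- Every eigenspace is at most a line. -/
def RU (M : Matrix ι ι F) : Prop :=
  ∀ (a : F) (v v' : ι → F), v ≠ 0 → M *ᵥ v = a • v → M *ᵥ v' = a • v' → ∃ c : F, v' = c • v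

/-- The characteristic polynomial is split with the given roots. -/
def SplitBy (M : Matrix ι ι F) (β : ι → F) : Prop :=
  M.charpoly = ∏ i, (X - C (β i))

lemma SplitBy.exists_eigen {M : Matrix ι ι F} {β : ι → F} (h : SplitBy M β) (i : ι) :
    ∃ v : ι → F, v ≠ 0 ∧ M *ᵥ v = β i • v := by
  have he : M.charpoly.eval (β i) = 0 := by
    rw [h, eval_prod]
    exact Finset.prod_eq_zero (Finset.mem_univ i) (by simp)
  rw [Matrix.eval_charpoly] at he
  obtain ⟨v, hv, hv'⟩ := Matrix.exists_mulVec_eq_zero_iff.2 he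
  refine ⟨v, hv, ?_⟩
  rw [Matrix.sub_mulVec, sub_eq_zero] at hv'
  rw [← hv']
  ext x
  simp [Matrix.mulVec_diagonal]

lemma SplitBy.eigen_mem {M : Matrix ι ι F} {β : ι → F} (h : SplitBy M β) {a : F} {v : ι → F} (hv : v ≠ 0)
    (he : M *ᵥ v = a • v) : ∃ i, β i = a := by
  have hd : (Matrix.scalar ι a - M).det = 0 := by
    refine Matrix.exists_mulVec_eq_zero_iff.1 ⟨v, hv, ?_⟩
    rw [Matrix.sub_mulVec, he, sub_eq_zero]
    ext x
    simp [Matrix.mulVec_diagonal]
  rw [← Matrix.eval_charpoly, h, eval_prod] at hd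
  obtain ⟨i, -, hi⟩ := Finset.prod_eq_zero_iff.1 hd
  exact ⟨i, (sub_eq_zero.1 (by simpa using hi)).symm⟩

lemma SplitBy.det {M : Matrix ι ι F} {β : ι → F} (h : SplitBy M β) : M.det = ∏ i, β i := by
  rw [Matrix.det_eq_sign_charpoly_coeff, h, coeff_zero_eq_eval_zero, eval_prod]
  simp only [eval_sub, eval_X, eval_C, zero_sub, Finset.prod_neg, ← mul_assoc, Finset.card_univ, ← mul_pow]
  simp

lemma SplitBy.reindex {M : Matrix ι ι F} {β : ι → F} (h : SplitBy M β) (e : ι ≃ κ) :
    SplitBy (Matrix.reindex e e M) (β ∘ e.symm) := by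
  rw [SplitBy, Matrix.charpoly_reindex, h]
  exact (Fintype.prod_equiv e _ _ fun i => by simp).symm.symm

lemma RU.reindex {M : Matrix ι ι F} (h : RU M) (e : ι ≃ κ) : RU (Matrix.reindex e e M) := by
  intro a v v' hv hMv hMv'
  have key : ∀ w : κ → F, Matrix.reindex e e M *ᵥ w = a • w → M *ᵥ (w ∘ e) = a • (w ∘ e) := by
    intro w hw
    funext i
    have := congrFun hw (e i)
    rw [Matrix.reindex_apply, Matrix.submatrix_mulVec_equiv] at this
    simpa using this
  obtain ⟨c, hc⟩ := h a (v ∘ e) (v' ∘ e)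
    (fun h0 => hv (funext fun x => by simpa using congrFun h0 (e.symm x))) (key v hMv) (key v' hMv')
  exact ⟨c, funext fun x => by simpa using congrFun hc (e.symm x)⟩

section Fin

variable {n : ℕ}

/-- **Cyclicity criterion.** -/
theorem cyc_of_RU [Fintype F] {M : Matrix (Fin n) (Fin n) F} {β : Fin n → F} (hs : SplitBy M β)
    (h0 : ∀ i, β i ≠ 0) (hru : RU M) : Cyc M := by
  classical
  choose ev hev0 hev using fun i => hs.exists_eigen i
  let vals := (Finset.univ.image β).toList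
  let rep : F → Submodule F (Fin n → F) := fun a =>
    if h : ∃ i, β i = a then
      LinearMap.ker
        ({ toFun := fun φ => φ ⬝ᵥ ev (Classical.choose h)
           map_add' := fun x y => add_dotProduct x y _
           map_smul' := fun c x => smul_dotProduct c x _ } : (Fin n → F) →ₗ[F] F)
    else ⊥
  have hlen : (vals.map rep).length ≤ Fintype.card F := by
    simp only [List.length_map, vals, Finset.length_toList]
    exact Finset.card_le_univ _
  have hemb : Nonempty (Fin (vals.map rep).length ↪ F) :=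
    Function.Embedding.nonempty_of_card_le (by simpa using hlen)
  obtain ⟨emb⟩ := hemb
  obtain ⟨φ, hφ⟩ := H41.Reg.exists_notMem_list (vals.map rep) emb (by
    intro A hA
    obtain ⟨a, ha, rfl⟩ := List.mem_map.1 hA
    simp only [vals, Finset.mem_toList, Finset.mem_image, Finset.mem_univ, true_and] at ha
    simp only [rep, dif_pos ha]
    intro htop
    obtain ⟨x, hx⟩ := Function.ne_iff.1 (hev0 (Classical.choose ha))
    refine hx ?_
    have : (Pi.single x 1 : Fin n → F) ∈ (⊤ : Submodule F (Fin n → F)) := trivial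
    rw [← htop, LinearMap.mem_ker] at this
    simpa [single_dotProduct] using this)
  refine ⟨φ, fun hdet => ?_⟩
  obtain ⟨w₀, hw₀, hKw₀⟩ := Matrix.exists_mulVec_eq_zero_iff.2 hdet
  have hC := kry_mul (Matrix.charpoly_monic M) (charpoly_natDegree_fin M) (vecMul_aeval_charpoly M φ)
  have hinv : ∀ w, kry M φ *ᵥ w = 0 → kry M φ *ᵥ (M *ᵥ w) = 0 := by
    intro w hw
    rw [Matrix.mulVec_mulVec, hC, ← Matrix.mulVec_mulVec, hw, Matrix.mulVec_zero]
  have hfac : ∀ s : Finset (Fin n), ∀ w, w ≠ 0 → kry M φ *ᵥ w = 0 →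
      aeval M (∏ i ∈ s, (X - C (β i))) *ᵥ w = 0 →
      ∃ v i, v ≠ 0 ∧ kry M φ *ᵥ v = 0 ∧ M *ᵥ v = β i • v := by
    intro s
    induction s using Finset.induction with
    | empty => intro w hw _ h; simp at h; exact absurd h hw
    | insert i s hi ih =>
      intro w hw hK h
      rw [Finset.prod_insert hi, mul_comm, map_mul, ← Matrix.mulVec_mulVec] at h
      have hval : aeval M (X - C (β i)) *ᵥ w = M *ᵥ w - β i • w := by
        simp [Matrix.sub_mulVec, Algebra.algebraMap_eq_smul_one, Matrix.smul_mulVec]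
      rw [hval] at h
      by_cases hz : M *ᵥ w - β i • w = 0
      · exact ⟨w, i, hw, hK, sub_eq_zero.1 hz⟩
      · refine ih _ hz ?_ h
        rw [Matrix.mulVec_sub, hinv w hK, Matrix.mulVec_smul, hK, smul_zero, sub_zero]
  obtain ⟨v, i, hv, hKv, hMv⟩ := hfac Finset.univ w₀ hw₀ hKw₀ (by
    rw [← hs, Matrix.aeval_self_charpoly, Matrix.zero_mulVec])
  have hex : ∃ j, β j = β i := ⟨i, rfl⟩
  have hn := hφ (rep (β i)) (List.mem_map.2 ⟨β i, by simp [vals], rfl⟩)
  simp only [rep, dif_pos hex, LinearMap.mem_ker] at hn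
  obtain ⟨c, hc⟩ := hru (β i) (ev (Classical.choose hex)) v (hev0 _)
    (by rw [hev, Classical.choose_spec hex]) hMv
  haveI : NeZero n := ⟨fun h => hv (funext fun x => absurd x.2 (by omega))⟩
  have h1 := congrFun hKv 0
  simp only [Matrix.mulVec, kry_row, Fin.val_zero, pow_zero, Matrix.vecMul_one, Pi.zero_apply] at h1
  rw [hc, dotProduct_smul, smul_eq_mul, mul_eq_zero] at h1
  rcases h1 with h1 | h1
  · exact hv (by rw [hc, h1, zero_smul])
  · exact hn h1

/-- Equal values of the diagonal are contiguous. -/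
def Grouped (β : Fin n → F) : Prop := ∀ i j l : Fin n, i < j → j < l → β i = β l → β j = β i

lemma splitBy_lower {T : Matrix (Fin n) (Fin n) F} {β : Fin n → F} (h : H41.IsLowerWith β T) : SplitBy T β := by
  rw [SplitBy, ← Matrix.charpoly_transpose, Matrix.charpoly_of_upperTriangular]
  · exact Finset.prod_congr rfl fun i _ => by rw [Matrix.transpose_apply, h.2 i]
  · intro i j hij
    rw [Matrix.transpose_apply]
    exact h.1 j i hij

lemma splitBy_upper {T : Matrix (Fin n) (Fin n) F} {β : Fin n → F} (h : H41.IsUpperWith β T) : SplitBy T β := by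
  rw [SplitBy, Matrix.charpoly_of_upperTriangular]
  · exact Finset.prod_congr rfl fun i _ => by rw [h.2 i]
  · intro i j hij
    exact h.1 i j hij

lemma RU_lower {T : Matrix (Fin n) (Fin n) F} {β : Fin n → F} (h : H41.IsLowerWith β T) (hg : Grouped β)
    (hadj : ∀ i j : Fin n, i.val = j.val + 1 → β i = β j → T i j ≠ 0) : RU T := by
  classical
  have key : ∀ (a : F) (v : Fin n → F), v ≠ 0 → T *ᵥ v = a • v →
      ∃ J, v J ≠ 0 ∧ β J = a ∧ ∀ i, J < i → β i ≠ a := by
    intro a v hv he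
    have hne : (Finset.univ.filter fun i => v i ≠ 0).Nonempty := by
      obtain ⟨i, hi⟩ := Function.ne_iff.1 hv
      exact ⟨i, by simpa using hi⟩
    set J := (Finset.univ.filter fun i => v i ≠ 0).min' hne with hJ
    have hvJ : v J ≠ 0 := by
      have := Finset.min'_mem _ hne
      simpa using this
    have hbelow : ∀ i, i < J → v i = 0 := by
      intro i hi
      by_contra hne'
      exact absurd (Finset.min'_le _ i (by simpa using hne')) (not_le.2 hi)
    have hJa : β J = a := by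
      have h1 := congrFun he J
      simp only [Matrix.mulVec, dotProduct] at h1
      rw [Finset.sum_eq_single J] at h1
      · rw [h.2 J, Pi.smul_apply, smul_eq_mul] at h1
        exact mul_right_cancel₀ hvJ h1
      · intro b _ hb
        rcases lt_or_gt_of_ne hb with hb' | hb'
        · rw [hbelow b hb', mul_zero]
        · rw [h.1 J b hb', zero_mul]
      · simp
    refine ⟨J, hvJ, hJa, fun i hi hia => ?_⟩
    have hlt : J.val + 1 < n := lt_of_le_of_lt (Nat.succ_le_of_lt hi) i.2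
    set J' : Fin n := ⟨J.val + 1, hlt⟩
    have hJJ' : J < J' := Fin.lt_def.2 (by simp [J'])
    have hJ'a : β J' = a := by
      rcases eq_or_lt_of_le (show J' ≤ i from Fin.le_def.2 (Nat.succ_le_of_lt hi)) with he' | he'
      · rw [he', hia]
      · rw [hg J J' i hJJ' he' (hJa.trans hia.symm), hJa]
    have h1 := congrFun he J'
    simp only [Matrix.mulVec, dotProduct] at h1
    rw [← Finset.add_sum_erase _ _ (Finset.mem_univ J), Finset.sum_eq_single J'] at h1
    · rw [h.2 J', Pi.smul_apply, smul_eq_mul, hJ'a] at h1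
      have h2 : T J' J * v J = 0 := by linear_combination h1
      exact hadj J' J rfl (hJ'a.trans hJa.symm) ((mul_eq_zero.1 h2).resolve_right hvJ)
    · intro b hb hb'
      simp only [Finset.mem_erase, Finset.mem_univ, and_true] at hb
      rcases lt_or_gt_of_ne hb' with hb'' | hb''
      · rw [hbelow b (lt_of_le_of_ne (Fin.le_def.2 (Nat.lt_succ_iff.1 hb'')) hb), mul_zero]
      · rw [h.1 J' b hb'', zero_mul]
    · intro hnot
      exact absurd (Finset.mem_erase.2 ⟨hJJ'.ne', Finset.mem_univ _⟩) hnot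
  intro a v v' hv he he'
  obtain ⟨J, hJ, hJa, hJmax⟩ := key a v hv he
  refine ⟨v' J / v J, ?_⟩
  by_contra hne
  obtain ⟨J', hJ', hJ'a, hJ'max⟩ := key a (v' - (v' J / v J) • v) (sub_ne_zero.2 hne) (by
    rw [Matrix.mulVec_sub, Matrix.mulVec_smul, he, he', smul_sub, smul_comm])
  have : J' = J := le_antisymm (not_lt.1 fun h' => hJmax J' h' hJ'a) (not_lt.1 fun h' => hJ'max J h' hJa)
  subst this
  simp [hJ] at hJ'

lemma RU_upper {T : Matrix (Fin n) (Fin n) F} {β : Fin n → F} (h : H41.IsUpperWith β T) (hg : Grouped β)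
    (hadj : ∀ i j : Fin n, j.val = i.val + 1 → β i = β j → T i j ≠ 0) : RU T := by
  have h' : H41.IsLowerWith (β ∘ Fin.rev) (Matrix.reindex Fin.revPerm Fin.revPerm T) := by
    refine ⟨fun i j hij => ?_, fun i => ?_⟩
    · exact h.1 _ _ (Fin.rev_lt_rev.2 hij)
    · exact h.2 _
  have h'' : RU (Matrix.reindex Fin.revPerm Fin.revPerm T) := by
    refine RU_lower h' (fun i j l hij hjl he => ?_) (fun i j hij he => ?_)
    · exact (hg l.rev j.rev i.rev (Fin.rev_lt_rev.2 hjl) (Fin.rev_lt_rev.2 hij) he.symm).trans he.symm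
    · exact hadj _ _ (by simp [Fin.val_rev]; omega) he
  have h3 := h''.reindex Fin.revPerm
  have he : Matrix.reindex Fin.revPerm Fin.revPerm (Matrix.reindex Fin.revPerm Fin.revPerm T) = T := by
    ext i j; simp
  rwa [he] at h3

lemma cyc_lower [Fintype F] {T : Matrix (Fin n) (Fin n) F} {β : Fin n → F} (h : H41.IsLowerWith β T)
    (h0 : ∀ i, β i ≠ 0) (hg : Grouped β)
    (hadj : ∀ i j : Fin n, i.val = j.val + 1 → β i = β j → T i j ≠ 0) : Cyc T :=
  cyc_of_RU (splitBy_lower h) h0 (RU_lower h hg hadj)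

lemma cyc_upper [Fintype F] {T : Matrix (Fin n) (Fin n) F} {β : Fin n → F} (h : H41.IsUpperWith β T)
    (h0 : ∀ i, β i ≠ 0) (hg : Grouped β)
    (hadj : ∀ i j : Fin n, j.val = i.val + 1 → β i = β j → T i j ≠ 0) : Cyc T :=
  cyc_of_RU (splitBy_upper h) h0 (RU_upper h hg hadj)

end Fin

/-- Block triangular criterion. -/
theorem RU_glue {T₁ : Matrix ι ι F} {T₂ : Matrix κ κ F} {Z : Matrix κ ι F} (h₁ : RU T₁) (h₂ : RU T₂)
    (hZ : ∀ (a : F) (v₁ : ι → F), v₁ ≠ 0 → T₁ *ᵥ v₁ = a • v₁ → (∃ w : κ → F, w ≠ 0 ∧ T₂ *ᵥ w = a • w) →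
      ∃ l : κ → F, l ᵥ* T₂ = a • l ∧ l ⬝ᵥ (Z *ᵥ v₁) ≠ 0) :
    RU (Matrix.fromBlocks T₁ 0 Z T₂) := by
  intro a v v' hv he he'
  have parts : ∀ u : ι ⊕ κ → F, Matrix.fromBlocks T₁ 0 Z T₂ *ᵥ u = a • u →
      T₁ *ᵥ (u ∘ Sum.inl) = a • (u ∘ Sum.inl) ∧
      Z *ᵥ (u ∘ Sum.inl) + T₂ *ᵥ (u ∘ Sum.inr) = a • (u ∘ Sum.inr) := by
    intro u hu
    rw [Matrix.fromBlocks_mulVec, Matrix.zero_mulVec, add_zero] at hu
    exact ⟨funext fun i => congrFun hu (Sum.inl i), funext fun i => congrFun hu (Sum.inr i)⟩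
  by_cases hw : ∃ w : κ → F, w ≠ 0 ∧ T₂ *ᵥ w = a • w
  · obtain ⟨w, hw0, hwe⟩ := hw
    have top : ∀ u : ι ⊕ κ → F, Matrix.fromBlocks T₁ 0 Z T₂ *ᵥ u = a • u → u ∘ Sum.inl = 0 := by
      intro u hu
      by_contra hne
      obtain ⟨h1, h2⟩ := parts u hu
      obtain ⟨l, hl, hl'⟩ := hZ a _ hne h1 ⟨w, hw0, hwe⟩
      apply hl'
      have h3 := congrArg (fun x => l ⬝ᵥ x) h2
      simp only [dotProduct_add, dotProduct_smul, Matrix.dotProduct_mulVec l T₂, hl, smul_dotProduct] at h3
      exact add_eq_right.1 h3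
    obtain ⟨-, h2⟩ := parts v he
    obtain ⟨-, h2'⟩ := parts v' he'
    rw [top v he, Matrix.mulVec_zero, zero_add] at h2
    rw [top v' he', Matrix.mulVec_zero, zero_add] at h2'
    have hv2 : v ∘ Sum.inr ≠ 0 := fun h0 => hv (funext fun x => by
      cases x with
      | inl i => exact congrFun (top v he) i
      | inr i => exact congrFun h0 i)
    obtain ⟨c, hc⟩ := h₂ a _ _ hv2 h2 h2'
    refine ⟨c, funext fun x => ?_⟩
    cases x with
    | inl i => simp [show v (Sum.inl i) = 0 from congrFun (top v he) i, show v' (Sum.inl i) = 0 from congrFun (top v' he') i]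
    | inr i => exact congrFun hc i
  · push Not at hw
    have hbot : ∀ u : ι ⊕ κ → F, Matrix.fromBlocks T₁ 0 Z T₂ *ᵥ u = a • u → u ∘ Sum.inl = 0 → u = 0 := by
      intro u hu h0
      obtain ⟨-, h2⟩ := parts u hu
      rw [h0, Matrix.mulVec_zero, zero_add] at h2
      have h3 : u ∘ Sum.inr = 0 := by
        by_contra hne; exact hw _ hne h2
      funext x
      cases x with
      | inl i => exact congrFun h0 i
      | inr i => exact congrFun h3 i
    obtain ⟨c, hc⟩ := h₁ a _ _ (fun h0 => hv (hbot v he h0)) (parts v he).1 (parts v' he').1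
    refine ⟨c, sub_eq_zero.1 (hbot (v' - c • v) ?_ ?_)⟩
    · rw [Matrix.mulVec_sub, Matrix.mulVec_smul, he, he', smul_sub, smul_comm]
    · funext i
      simpa [sub_eq_zero] using congrFun hc i

lemma SplitBy.glue {T₁ : Matrix ι ι F} {T₂ : Matrix κ κ F} {β : ι → F} {γ : κ → F} (h₁ : SplitBy T₁ β)
    (h₂ : SplitBy T₂ γ) (Z : Matrix κ ι F) : SplitBy (Matrix.fromBlocks T₁ 0 Z T₂) (Sum.elim β γ) := by
  rw [SplitBy, Matrix.charpoly_fromBlocks_zero₁₂, h₁, h₂, Fintype.prod_sum_type]
  rfl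

end H89.CN
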