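import Cfsg.Agent.H89.CN.GLMain

/-!
Similarity representatives of quadratic matrices with a scalar part.
-/

set_option autoImplicit false

namespace H89.CN

open Matrix Polynomial

variable {F : Type*} [Field F]

/-- Blocks of size two followed by a scalar. -/
def Qm {u : ℕ} (B : Fin u → Matrix (Fin 2) (Fin 2) F) (t : ℕ) (lam : F) :
    Matrix ((Fin 2 × Fin u) ⊕ Fin t) ((Fin 2 × Fin u) ⊕ Fin t) F :=
  Matrix.fromBlocks (Matrix.blockDiagonal B) 0 0 (Matrix.diagonal fun _ => lam)

lemma dec_two {n : ℕ} {A : Matrix (Fin n) (Fin n) F} {f : F[X]} {l : List F[X]} (hd : f.natDegree = 2)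
    (h : Dec A (f :: l)) :
    ∃ (N : ℕ) (e : Fin 2 ⊕ Fin N ≃ Fin n) (A₂ : Matrix (Fin N) (Fin N) F),
      Sim A (Matrix.reindex e e (Matrix.fromBlocks (rComp 2 f) 0 0 A₂)) ∧ Dec A₂ l := by
  obtain ⟨-, -, N, e, A₂, hs, hdec⟩ := h
  generalize hm : f.natDegree = m at e hs
  obtain rfl : m = 2 := hm.symm.trans hd
  exact ⟨N, e, A₂, hs, hdec⟩

/-- The quadratic normal form. -/
lemma dec_quad {lam : F} {f : F[X]} (hd : f.natDegree = 2) : ∀ (t u : ℕ) {n : ℕ} (A : Matrix (Fin n) (Fin n) F),
    Dec A (List.replicate t (X - C lam) ++ List.replicate u f) →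
    ∃ e : (Fin 2 × Fin u) ⊕ Fin t ≃ Fin n, Sim A (Matrix.reindex e e (Qm (fun _ => rComp 2 f) t lam))
  | 0, 0, n, A, h => by
    obtain rfl : n = 0 := h
    exact ⟨Equiv.equivOfIsEmpty _ _, ⟨1, by simp, Subsingleton.elim _ _⟩⟩
  | 0, u + 1, n, A, h => by
    simp only [List.replicate_zero, List.nil_append, List.replicate_succ] at h
    obtain ⟨N, e, A₂, hs, hdec⟩ := dec_two hd h
    obtain ⟨e₂, hs₂⟩ := dec_quad (lam := lam) hd 0 u A₂ (by simpa using hdec)
    let φ : Fin 2 ⊕ ((Fin 2 × Fin u) ⊕ Fin 0) ≃ (Fin 2 × Fin (u + 1)) ⊕ Fin 0 :=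
      { toFun := Sum.elim (fun a => .inl (a, 0)) (Sum.elim (fun p => .inl (p.1, p.2.succ)) fun i => i.elim0)
        invFun := fun x => match x with
          | .inl (a, k) => Fin.cases (.inl a) (fun k => .inr (.inl (a, k))) k
          | .inr i => i.elim0
        left_inv := fun x => by rcases x with a | p | i <;> first | exact i.elim0 | simp
        right_inv := fun x => by
          rcases x with ⟨a, k⟩ | i
          · cases k using Fin.cases <;> simp
          · exact i.elim0 }
    refine ⟨φ.symm.trans ((Equiv.sumCongr (Equiv.refl _) e₂).trans e), ?_⟩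
    refine hs.trans ?_
    have h1 := ((Sim.refl (rComp 2 f)).blocks hs₂).reindex e
    convert h1 using 1
    ext i j
    simp only [Matrix.reindex_apply, Matrix.submatrix_apply, Equiv.symm_trans_apply, Equiv.symm_symm]
    rcases e.symm i with a | b <;> rcases e.symm j with a' | b' <;>
      simp [φ, Qm, Matrix.blockDiagonal_apply]
    · rcases e₂.symm b' with ⟨x, k⟩ | i
      · simp [Matrix.blockDiagonal_apply, (Fin.succ_ne_zero k).symm]
      · exact i.elim0
    · rcases e₂.symm b with ⟨x, k⟩ | i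
      · simp [Matrix.blockDiagonal_apply, Fin.succ_ne_zero k]
      · exact i.elim0
    · rcases e₂.symm b with ⟨x, k⟩ | i
      · rcases e₂.symm b' with ⟨x', k'⟩ | i'
        · simp [Qm, Matrix.blockDiagonal_apply]
        · exact i'.elim0
      · exact i.elim0
  | t + 1, u, n, A, h => by
    simp only [List.replicate_succ, List.cons_append] at h
    obtain ⟨N, e, A₂, hs, hdec⟩ := dec_head h
    obtain ⟨e₂, hs₂⟩ := dec_quad hd t u A₂ hdec
    let φ : Fin 1 ⊕ ((Fin 2 × Fin u) ⊕ Fin t) ≃ (Fin 2 × Fin u) ⊕ Fin (t + 1) :=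
      { toFun := Sum.elim (fun _ => .inr 0) (Sum.elim Sum.inl fun i => .inr i.succ)
        invFun := fun x => match x with
          | .inl p => .inr (.inl p)
          | .inr i => Fin.cases (.inl 0) (fun i => .inr (.inr i)) i
        left_inv := fun x => by
          rcases x with a | p | i
          · simp [Subsingleton.elim a 0]
          · simp
          · simp
        right_inv := fun x => by
          rcases x with p | i
          · simp
          · cases i using Fin.cases <;> simp }
    refine ⟨φ.symm.trans ((Equiv.sumCongr (Equiv.refl _) e₂).trans e), ?_⟩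
    refine hs.trans ?_
    have h1 := ((Sim.refl (Matrix.diagonal fun _ : Fin 1 => lam)).blocks hs₂).reindex e
    convert h1 using 1
    ext i j
    simp only [Matrix.reindex_apply, Matrix.submatrix_apply, Equiv.symm_trans_apply, Equiv.symm_symm]
    rcases e.symm i with a | b <;> rcases e.symm j with a' | b'
    · obtain rfl : a = a' := Subsingleton.elim _ _
      simp [φ, Qm]
    · rcases hb : e₂.symm b' with p | i <;> simp [φ, Qm, hb, (Fin.succ_ne_zero _).symm]
    · rcases hb : e₂.symm b with p | i <;> simp [φ, Qm, hb, Fin.succ_ne_zero]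
    · rcases hb : e₂.symm b with p | i <;> rcases hb' : e₂.symm b' with p' | i' <;>
        simp [φ, Qm, hb, hb', Matrix.diagonal_apply]

lemma blockDiagonal_sim {u : ℕ} {B B' : Fin u → Matrix (Fin 2) (Fin 2) F} (h : ∀ k, Sim (B k) (B' k)) :
    Sim (Matrix.blockDiagonal B) (Matrix.blockDiagonal B') := by
  choose P hP he using h
  refine ⟨Matrix.blockDiagonal P, ?_, ?_⟩
  · rw [Matrix.det_blockDiagonal, isUnit_iff_ne_zero]
    exact Finset.prod_ne_zero_iff.2 fun k _ => (hP k).ne_zero
  · rw [← Matrix.blockDiagonal_mul, ← Matrix.blockDiagonal_mul]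
    congr 1
    funext k
    exact he k

lemma cyc_two {f : F[X]} (hf : f.Monic) (hd : f.natDegree = 2) {a b c : F} (hab : f = (X - C a) * (X - C b))
    (hc : c ≠ 0 ∨ a ≠ b) : Sim (rComp 2 f) !![a, 0; c, b] := by
  set M : Matrix (Fin 2) (Fin 2) F := !![a, 0; c, b] with hM
  have hlow : H41.IsLowerWith ![a, b] M :=
    ⟨fun i j h => by fin_cases i <;> fin_cases j <;> simp_all, fun i => by fin_cases i <;> simp [hM]⟩
  have hcyc : Cyc M := by
    rcases hc with hc | hc
    · refine ⟨![0, 1], ?_⟩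
      rw [Matrix.det_fin_two]
      simp [kry, hM, Matrix.vecMul, dotProduct, Fin.sum_univ_two, hc]
    · by_cases hc0 : c = 0
      · refine ⟨![1, 1], ?_⟩
        rw [Matrix.det_fin_two]
        simp [kry, hM, hc0, Matrix.vecMul, dotProduct, Fin.sum_univ_two, sub_eq_zero, Ne.symm hc]
      · refine ⟨![0, 1], ?_⟩
        rw [Matrix.det_fin_two]
        simp [kry, hM, Matrix.vecMul, dotProduct, Fin.sum_univ_two, hc0]
  obtain ⟨h1, h2⟩ := cyc_rComp hf hd
  refine cyc_similar h1 hcyc (h2.trans ?_)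
  rw [splitBy_lower hlow, Fin.prod_univ_two, hab]
  simp

/-- A matrix of disjoint lower blocks: `ν` on `S`, `lam` elsewhere, entries `c` below `T`. -/
def qmat {n : ℕ} (lam nu : F) (S T : Finset (Fin n)) (low : Fin n → Fin n) (c : Fin n → F) :
    Matrix (Fin n) (Fin n) F :=
  Matrix.of fun i l => if i = l then (if i ∈ S then nu else lam) else if i ∈ T ∧ l = low i then c i else 0

/-- **Membership in the quadratic class.** -/
theorem qmat_mem [Fintype F] {n t u : ℕ} {A : Matrix (Fin n) (Fin n) F} {lam nu : F} {f : F[X]} (hf : f.Monic)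
    (hd : f.natDegree = 2) (hfac : f = (X - C lam) * (X - C nu))
    (hA : Dec A (List.replicate t (X - C lam) ++ List.replicate u f))
    (S T : Finset (Fin n)) (low : Fin n → Fin n) (c : Fin n → F) (hS : S.card = u) (hTS : T ⊆ S)
    (hlow : ∀ i ∈ T, low i ∉ S) (hinj : Set.InjOn low T) (hc : ∀ i ∈ T, c i ≠ 0 ∨ lam ≠ nu)
    (hfill : T = S ∨ lam ≠ nu) : qmat lam nu S T low c ∈ Sc A := by
  classical
  obtain ⟨e₀, he₀⟩ := dec_quad hd t u A hA
  have hn : 2 * u + t = n := by
    have := Fintype.card_congr e₀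
    simpa using this
  -- the partners
  have hcard : (S \ T).card ≤ (Sᶜ \ T.image low).card := by
    have h1 : T.image low ⊆ Sᶜ := fun x hx => by
      obtain ⟨i, hi, rfl⟩ := Finset.mem_image.1 hx
      exact Finset.mem_compl.2 (hlow i hi)
    rw [Finset.card_sdiff_of_subset hTS, Finset.card_sdiff_of_subset h1, Finset.card_image_of_injOn hinj,
      Finset.card_compl, Fintype.card_fin, hS]
    omega
  obtain ⟨g⟩ : Nonempty ({x // x ∈ S \ T} ↪ {x // x ∈ Sᶜ \ T.image low}) :=
    Function.Embedding.nonempty_of_card_le (by rwa [Fintype.card_coe, Fintype.card_coe])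
  let lo : Fin n → Fin n := fun i => if h : i ∈ S \ T then (g ⟨i, h⟩ : Fin n) else low i
  have hloT : ∀ i ∈ T, lo i = low i := fun i hi => dif_neg (fun h => (Finset.mem_sdiff.1 h).2 hi)
  have hloS : ∀ i ∈ S, lo i ∉ S := by
    intro i hi
    by_cases hT : i ∈ T
    · rw [hloT i hT]; exact hlow i hT
    · simp only [lo, dif_pos (Finset.mem_sdiff.2 ⟨hi, hT⟩)]
      exact Finset.mem_compl.1 (Finset.mem_sdiff.1 (g ⟨i, _⟩).2).1
  have hloinj : Set.InjOn lo S := by
    intro a ha b hb hab
    by_cases haT : a ∈ T <;> by_cases hbT : b ∈ T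
    · rw [hloT a haT, hloT b hbT] at hab
      exact hinj haT hbT hab
    · rw [hloT a haT] at hab
      simp only [lo, dif_pos (Finset.mem_sdiff.2 ⟨hb, hbT⟩)] at hab
      exact absurd (Finset.mem_image.2 ⟨a, haT, hab⟩) (Finset.mem_sdiff.1 (g ⟨b, _⟩).2).2
    · rw [hloT b hbT] at hab
      simp only [lo, dif_pos (Finset.mem_sdiff.2 ⟨ha, haT⟩)] at hab
      exact absurd (Finset.mem_image.2 ⟨b, hbT, hab.symm⟩) (Finset.mem_sdiff.1 (g ⟨a, _⟩).2).2
    · simp only [lo, dif_pos (Finset.mem_sdiff.2 ⟨ha, haT⟩), dif_pos (Finset.mem_sdiff.2 ⟨hb, hbT⟩)] at hab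
      exact congrArg Subtype.val (g.injective (Subtype.ext hab))
  let σ : Fin u ≃ {x // x ∈ S} := (S.equivFinOfCardEq hS).symm
  let q : Fin 2 × Fin u → Fin n := fun p => ![lo (σ p.2), (σ p.2 : Fin n)] p.1
  have hq : Function.Injective q := by
    rintro ⟨a, k⟩ ⟨a', k'⟩ h
    fin_cases a <;> fin_cases a' <;> simp [q] at h
    · simp [σ.injective (Subtype.ext (hloinj (σ k).2 (σ k').2 h))]
    · exact absurd (h ▸ (σ k').2) (hloS _ (σ k).2)
    · exact absurd (h ▸ (σ k).2) (hloS _ (σ k').2)
    · simp [h]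
  have hcompl : Fintype.card ↥(Set.range q)ᶜ = Fintype.card (Fin t) := by
    rw [Fintype.card_compl_set, Set.card_range_of_injective hq]
    simp
    omega
  let e : (Fin 2 × Fin u) ⊕ Fin t ≃ Fin n :=
    ((Equiv.ofInjective q hq).sumCongr (Fintype.equivOfCardEq hcompl).symm).trans (Equiv.Set.sumCompl (Set.range q))
  have he1 : ∀ p, e (.inl p) = q p := fun p => rfl
  have he2 : ∀ i, e (.inr i) ∉ Set.range q := fun i => by
    show ((Fintype.equivOfCardEq hcompl).symm i : Fin n) ∉ _
    exact ((Fintype.equivOfCardEq hcompl).symm i).2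
  let B : Fin u → Matrix (Fin 2) (Fin 2) F := fun k =>
    !![lam, 0; (if (σ k : Fin n) ∈ T then c (σ k) else 0), nu]
  have hB : ∀ k, Sim (rComp 2 f) (B k) := by
    intro k
    refine cyc_two hf hd hfac ?_
    by_cases hk : (σ k : Fin n) ∈ T
    · simpa [hk] using hc _ hk
    · rcases hfill with h | h
      · exact absurd (h ▸ (σ k).2) hk
      · exact Or.inr h
  have hfinal : Matrix.reindex e e (Qm B t lam) = qmat lam nu S T low c := by
    ext i l
    obtain ⟨x, rfl⟩ := e.surjective i
    obtain ⟨y, rfl⟩ := e.surjective l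
    rw [Matrix.reindex_apply, Matrix.submatrix_apply, e.symm_apply_apply, e.symm_apply_apply]
    have hlast : ∀ i : Fin t, e (.inr i) ∉ S := fun i hi => he2 i ⟨(1, σ.symm ⟨_, hi⟩), by simp [q]⟩
    rcases x with ⟨a, k⟩ | x <;> rcases y with ⟨a', k'⟩ | y
    · rw [he1, he1]
      by_cases hkk : k = k'
      · subst hkk
        have hne : lo (σ k) ≠ (σ k : Fin n) := fun h => hloS _ (σ k).2 (h.symm ▸ (σ k).2)
        fin_cases a <;> fin_cases a'
        · simp [Qm, qmat, q, B, hloS _ (σ k).2]
        · have hnT : lo (σ k) ∉ T := fun h => hloS _ (σ k).2 (hTS h)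
          simp [Qm, qmat, q, B, hne, hnT]
        · by_cases hk : (σ k : Fin n) ∈ T
          · simp [Qm, qmat, q, B, hne.symm, hk, hloT _ hk]
            rw [hloT _ hk] at hne
            simp [hne.symm]
          · simp [Qm, qmat, q, B, hne.symm, hk]
        · simp [Qm, qmat, q, B, (σ k).2]
      · have hqne : ∀ a a', q (a, k) ≠ q (a', k') := fun a a' h => hkk (congrArg Prod.snd (hq h))
        simp only [Qm, Matrix.fromBlocks_apply₁₁, Matrix.blockDiagonal_apply, if_neg hkk, qmat, Matrix.of_apply,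
          if_neg (hqne a a')]
        rw [if_neg]
        rintro ⟨hT, heq⟩
        fin_cases a
        · exact hloS _ (σ k).2 (hTS hT)
        · simp [q] at hT
          refine hqne 0 a' ?_
          simp only [q] at heq ⊢
          simp at heq ⊢
          rw [hloT _ hT]; exact heq.symm
    · rw [he1]
      have hne : q (a, k) ≠ e (.inr y) := fun h => he2 y ⟨_, h⟩
      simp only [Qm, Matrix.fromBlocks_apply₁₂, Matrix.zero_apply, qmat, Matrix.of_apply, if_neg hne]
      rw [if_neg]
      rintro ⟨hT, heq⟩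
      fin_cases a
      · exact hloS _ (σ k).2 (hTS hT)
      · simp [q] at hT
        refine he2 y ⟨(0, k), ?_⟩
        simp [q] at heq ⊢
        rw [hloT _ hT]; exact heq.symm
    · rw [he1]
      have hne : e (.inr x) ≠ q (a', k') := fun h => he2 x ⟨_, h.symm⟩
      simp only [Qm, Matrix.fromBlocks_apply₂₁, Matrix.zero_apply, qmat, Matrix.of_apply, if_neg hne]
      rw [if_neg]
      rintro ⟨hT, -⟩
      exact hlast x (hTS hT)
    · by_cases hxy : x = y
      · subst hxy; simp [Qm, qmat, hlast x]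
      · have hne : e (.inr x) ≠ e (.inr y) := fun h => hxy (by simpa using e.injective h)
        simp only [Qm, Matrix.fromBlocks_apply₂₂, Matrix.diagonal_apply_ne _ hxy, qmat, Matrix.of_apply, if_neg hne]
        rw [if_neg fun h => hlast x (hTS h.1)]
  show Sim A _
  rw [← hfinal]
  refine he₀.trans ((sim_reindex_any e₀ e _).trans ?_)
  exact ((blockDiagonal_sim hB).blocks (Sim.refl _)).reindex e

/-- A scalar block gives every determinant in the centraliser. -/
theorem cdet_of_shape {n t : ℕ} {A : Matrix (Fin n) (Fin n) F} {lam : F} {l : List F[X]} (h : Shape A t lam l)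
    (ht : 0 < t) (a : F) : CDet A a := by
  obtain ⟨t, rfl⟩ : ∃ s, t = s + 1 := ⟨t - 1, by omega⟩
  have h1 := h.1
  rw [List.replicate_succ, List.cons_append] at h1
  obtain ⟨N, e, A₂, hs, -⟩ := dec_head h1
  obtain ⟨P, hP, he⟩ := hs.symm
  set M := Matrix.reindex e e (Matrix.fromBlocks (Matrix.diagonal fun _ : Fin 1 => lam) 0 0 A₂) with hM
  set Z := Matrix.reindex e e (Matrix.fromBlocks (Matrix.diagonal fun _ : Fin 1 => a) 0 0 1) with hZ
  have hA : A = P * M * P⁻¹ := eq_conj hP he
  have hZM : Z * M = M * Z := by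
    simp only [hZ, hM, Matrix.reindex_apply, Matrix.submatrix_mul_equiv, Matrix.fromBlocks_multiply,
      Matrix.diagonal_mul_diagonal]
    simp [mul_comm]
  refine ⟨P * Z * P⁻¹, ?_, ?_⟩
  · have hm : ∀ X Y : Matrix (Fin n) (Fin n) F, P * X * P⁻¹ * (P * Y * P⁻¹) = P * (X * Y) * P⁻¹ := fun X Y => by
      rw [Matrix.mul_assoc (P * X) P⁻¹, Matrix.mul_assoc P Y, Matrix.nonsing_inv_mul_cancel_left _ _ hP]
      simp only [Matrix.mul_assoc]
    rw [hA, hm, hm, hZM]
  · rw [Matrix.det_conj ((Matrix.isUnit_iff_isUnit_det P).2 hP), hZ, Matrix.det_reindex_self,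
      Matrix.det_fromBlocks_zero₁₂, Matrix.det_diagonal]
    simp

end H89.CN
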