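import Cfsg.Agent.H89.CN.Twist
import Cfsg.Agent.H89.CN.Quad

/-!
The split element of the square of a class without scalar block: tools.
-/

set_option autoImplicit false

namespace H89.CN

open Matrix Polynomial

variable {F : Type*} [Field F]

/-- A split cyclic element of the square of the class, with all its conjugates, with given eigenvalues. -/
def Elem {n : ℕ} (A : Matrix (Fin n) (Fin n) F) (ms : Multiset F) : Prop :=
  ∃ (T : Matrix (Fin n) (Fin n) F) (β : Fin n → F), Cyc T ∧ SplitBy T β ∧ (∀ i, β i ≠ 0) ∧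
    T.det = A.det ^ 2 ∧ Full (Prods (Cls A) 2) T ∧ msOf β = ms

/-- An exponent which together with the centraliser gives every determinant. -/
def Flex {n : ℕ} (A : Matrix (Fin n) (Fin n) F) (M : ℕ) : Prop :=
  ∀ κ : F, κ ≠ 0 → ∃ d x : F, CDet A d ∧ d * x ^ M = κ

lemma flex_one {n : ℕ} (A : Matrix (Fin n) (Fin n) F) : Flex A 1 :=
  fun κ _ => ⟨1, κ, cdet_one A, by rw [one_mul, pow_one]⟩

lemma flex_all {n : ℕ} {A : Matrix (Fin n) (Fin n) F} (h : ∀ a : F, a ≠ 0 → CDet A a) (M : ℕ) : Flex A M :=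
  fun κ hκ => ⟨κ, 1, h κ hκ, by rw [one_pow, mul_one]⟩

lemma flex_pred {n : ℕ} {A : Matrix (Fin n) (Fin n) F} {m : ℕ} (hm : 1 ≤ m) (h : ∀ a : F, CDet A (a ^ m)) :
    Flex A (m - 1) := fun κ hκ => ⟨κ ^ m, κ⁻¹, h κ, by
  rw [inv_pow, mul_inv_eq_iff_eq_mul₀ (pow_ne_zero _ hκ), ← pow_succ']; congr 1; omega⟩

lemma flex_odd {n : ℕ} {A : Matrix (Fin n) (Fin n) F} (h : ∀ a : F, a ≠ 0 → CDet A (a ^ 2)) {M : ℕ} (hM : Odd M) :
    Flex A M := fun κ hκ => by
  obtain ⟨k, rfl⟩ := hM
  refine ⟨(κ⁻¹ ^ k) ^ 2, κ, h _ (pow_ne_zero _ (inv_ne_zero hκ)), ?_⟩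
  rw [← pow_mul, inv_pow, mul_comm k 2, pow_succ, inv_mul_cancel_left₀ (pow_ne_zero _ hκ)]

/-! ### Decompositions -/

lemma dec_last : ∀ (l : List F[X]) {g : F[X]} {n : ℕ} {A : Matrix (Fin n) (Fin n) F}, Dec A (l ++ [g]) →
    ∃ (N : ℕ) (e : Fin N ⊕ Fin g.natDegree ≃ Fin n) (A₀ : Matrix (Fin N) (Fin N) F),
      Sim A (Matrix.reindex e e (Matrix.fromBlocks A₀ 0 0 (rComp g.natDegree g))) ∧ Dec A₀ l
  | [], g, n, A, ⟨_, _, N, e, A₂, hs, hdec⟩ => by
    refine ⟨N, (Equiv.sumComm _ _).trans e, A₂, ?_, hdec⟩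
    rwa [← reindex_swap]
  | f :: l, g, n, A, ⟨hf, hfd, N, e, A₂, hs, hdec⟩ => by
    obtain ⟨N', e', A₀, hs', hdec'⟩ := dec_last l hdec
    refine ⟨f.natDegree + N', ((Equiv.sumCongr finSumFinEquiv.symm (Equiv.refl _)).trans
      (Equiv.sumAssoc _ _ _)).trans ((Equiv.sumCongr (Equiv.refl _) e').trans e),
      Matrix.reindex finSumFinEquiv finSumFinEquiv (Matrix.fromBlocks (rComp f.natDegree f) 0 0 A₀), ?_,
      ⟨hf, hfd, N', finSumFinEquiv, A₀, Sim.refl _, hdec'⟩⟩
    refine hs.trans (((Sim.refl _).blocks hs').reindex e |>.trans ?_)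
    refine (fun {M M' : Matrix (Fin n) (Fin n) F} (h : M = M') => show Sim M M' by rw [h]; exact Sim.refl M') ?_
    ext i j
    simp only [Matrix.reindex_apply, Matrix.submatrix_apply, Equiv.symm_trans_apply]
    rcases e.symm i with a | b <;> rcases e.symm j with a' | b'
    · simp
    · rcases hb : e'.symm b' with p | i <;> simp [hb]
    · rcases hb : e'.symm b with p | i <;> simp [hb]
    · rcases hb : e'.symm b with p | i <;> rcases hb' : e'.symm b' with p' | i' <;> simp [hb, hb']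

lemma dec_det : ∀ (l : List F[X]) {n : ℕ} {A : Matrix (Fin n) (Fin n) F}, Dec A l →
    A.det = (l.map fun f => (-1) ^ f.natDegree * f.coeff 0).prod
  | [], n, A, h => by
    obtain rfl : n = 0 := h
    simp
  | f :: l, n, A, ⟨hf, _, N, e, A₂, hs, hdec⟩ => by
    rw [hs.det_eq, Matrix.det_reindex_self, Matrix.det_fromBlocks_zero₁₂, dec_det l hdec, List.map_cons,
      List.prod_cons, Matrix.det_eq_sign_charpoly_coeff, (cyc_rComp hf rfl).2, Fintype.card_fin]

lemma ns_of_dec {n : ℕ} {A : Matrix (Fin n) (Fin n) F} {f : F[X]} {l : List F[X]} (h : Dec A (f :: l))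
    (hd : 2 ≤ f.natDegree) : NS A := by
  obtain ⟨-, -, N, e, A₂, hs, -⟩ := h
  refine ns_of_sim hs.symm fun σ hσ => ?_
  have h1 := congrFun (congrFun hσ (e (Sum.inl ⟨0, by omega⟩))) (e (Sum.inl ⟨1, by omega⟩))
  simp [rComp, show 1 < f.natDegree by omega, Matrix.one_apply, Fin.ext_iff] at h1

/-! ### Determinants of the blocks -/

lemma cdet_list {n : ℕ} {A : Matrix (Fin n) (Fin n) F} : ∀ (ps : List (F[X] × F)),
    (∀ p ∈ ps, CDet A (bd p)) → CDet A (ps.map bd).prod
  | [], _ => by simpa using cdet_one A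
  | p :: ps, h => by
    rw [List.map_cons, List.prod_cons]
    exact (h p List.mem_cons_self).mul (cdet_list ps fun q hq => h q (List.mem_cons_of_mem _ hq))

lemma tri_two_mul : ∀ m : ℕ, 2 * tri m = m * (m - 1)
  | 0 => by simp [tri]
  | m + 1 => by
    have h := Finset.sum_range_id_mul_two (m + 1)
    rw [tri, mul_comm, h]

lemma cdet_bd_neg_sq {n : ℕ} {A : Matrix (Fin n) (Fin n) F} {l : List F[X]} (h : Dec A l) {f : F[X]} (hf : f ∈ l)
    (s : F) : CDet A (bd (f, -s ^ 2)) := by
  have := cdet_scalar h hf ((s ^ (f.natDegree - 1))⁻¹)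
  convert this using 1
  rw [bd]
  simp only
  rw [neg_pow (s ^ 2), div_mul_cancel_left₀ (pow_ne_zero _ (by simp)), ← pow_mul, tri_two_mul,
    mul_comm f.natDegree, pow_mul, inv_pow]

lemma cdet_bd_odd {n : ℕ} {A : Matrix (Fin n) (Fin n) F} {l : List F[X]} (h : Dec A l) {f : F[X]} (hf : f ∈ l)
    (ho : Odd f.natDegree) (c : F) : CDet A (bd (f, c)) := by
  obtain ⟨k, hk⟩ := ho
  have := cdet_scalar h hf ((-1 / c) ^ k)
  convert this using 1
  have ht : tri f.natDegree = k * f.natDegree := by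
    have := tri_two_mul f.natDegree
    rw [hk] at this ⊢
    simp only [Nat.add_sub_cancel] at this
    nlinarith
  rw [bd, ← div_pow, ht, ← pow_mul]

/-! ### Lists of parameters -/

lemma listVals_append (ps qs : List (F[X] × F)) : listVals (ps ++ qs) = listVals ps + listVals qs := by
  simp [listVals]

lemma listVals_single (p : F[X] × F) : listVals [p] = blockVals p := by simp [listVals]

lemma listVals_cases : ∀ {ps : List (F[X] × F)} {a : F}, a ∈ listVals ps → ∃ p ∈ ps, a ∈ blockVals p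
  | [], a, h => by simp [listVals] at h
  | p :: ps, a, h => by
    rw [listVals, List.map_cons, List.sum_cons, Multiset.mem_add] at h
    rcases h with h | h
    · exact ⟨p, List.mem_cons_self, h⟩
    · obtain ⟨q, hq, hq'⟩ := listVals_cases (ps := ps) h
      exact ⟨q, List.mem_cons_of_mem _ hq, hq'⟩

lemma mem_blockVals {p : F[X] × F} {a : F} (h : a ∈ blockVals p) : a = bv p ∨ a = p.2 := by
  rw [blockVals, Multiset.mem_cons] at h
  exact h.imp_right fun h => (Multiset.mem_replicate.1 h).2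

/-- The order of the chain is admissible if the quadratic blocks are unipotent. -/
lemma ok_of_mono {ps : List (F[X] × F)} (hl : ∀ p ∈ ps, p.1.Monic ∧ 2 ≤ p.1.natDegree)
    (hp : (ps.map Prod.fst).Pairwise (· ∣ ·)) (hm : ∀ p ∈ ps, p.1.natDegree = 2 → Mono p) : ps.Pairwise OkPair := by
  rw [List.pairwise_map] at hp
  refine hp.imp_of_mem fun {p q} hp hq hpq h2 => ?_
  have := natDegree_le_of_dvd hpq (hl q hq).1.ne_zero
  exact ⟨by have := (hl p hp).2; omega, Or.inr (Or.inl (hm q hq h2))⟩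

variable [Fintype F]

/-- The element of a list of blocks. -/
theorem elem_of_list [DecidableEq F] (hq : 3 ≤ Fintype.card F) {n : ℕ} {A : Matrix (Fin n) (Fin n) F}
    (ps : List (F[X] × F)) (hdec : Dec A (ps.map Prod.fst)) (hv : ∀ p ∈ ps, Valid p) (hok : ps.Pairwise OkPair)
    (hδ : CDet A (ps.map bd).prod) (a : F) (ha : Flex A ((listVals ps).count a)) : Elem A (listVals ps) := by
  obtain ⟨β, hβ, hms, hG⟩ := good_list hq ps A hdec hv hok
  obtain ⟨T, hT, hs, hd, -, hm⟩ := hG.elem (prod_bd_ne hv) hβ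
  exact ⟨T, β, hT, hs, hβ, hd, full_of_mult hT hs hβ (hm hδ) a (by rw [hms]; exact ha), hms⟩

/-- **A last block with a value which no other block has.** -/
theorem full_special [DecidableEq F] (hq : 4 ≤ Fintype.card F) {n : ℕ} {A : Matrix (Fin n) (Fin n) F}
    {ps : List (F[X] × F)} {g : F[X]} {c : F} (hdec : Dec A (ps.map Prod.fst ++ [g])) (hv : ∀ p ∈ ps, Valid p)
    (hok : ps.Pairwise OkPair) (hg : g.Monic) (hg0 : g.coeff 0 ≠ 0) (hm : 3 ≤ g.natDegree) (hc : c ≠ 0)
    (hδ : CDet A (ps.map bd).prod) (hδg : CDet A (bd (g, c))) (hout : c ∉ listVals ps)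
    (hb : bv (g, c) ≠ c ∨ 4 ≤ g.natDegree) : Elem A (listVals (ps ++ [(g, c)])) := by
  have hvg : Valid (g, c) := ⟨hg, by simp only; omega, hg0, hc, fun h => by simp only at h; omega⟩
  have hfst : (ps ++ [(g, c)]).map Prod.fst = ps.map Prod.fst ++ [g] := by simp
  by_cases hbv : bv (g, c) = c
  · replace hb := hb.resolve_left (fun h => h hbv)
    obtain ⟨N, e, A₀, hs, hdec₀⟩ := dec_last _ hdec
    obtain ⟨γ, hγ, hms, hG⟩ := good_list (by omega) ps A₀ hdec₀ hv hok
    have hdis : ∀ i (j : Fin g.natDegree), γ i ≠ (fun _ => c) j := fun i j h => hout (by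
      rw [← hms]; exact (msOf_mem γ c).2 ⟨i, h⟩)
    have htw := (((Twist.of_good hG).sum (twist_block hq hb hg rfl hg0 hc hbv) hdis).reindex e).sim hs.symm
    set β := Sum.elim γ (fun _ : Fin g.natDegree => c) ∘ e.symm with hβd
    have hβ : ∀ i, β i ≠ 0 := fun i => by
      simp only [hβd, Function.comp_apply]
      rcases e.symm i with j | j
      exacts [hγ j, hc]
    obtain ⟨T, hT, hsT, hd, hF⟩ := htw.elem (mul_ne_zero (prod_bd_ne hv) (by
        rw [bd]; exact div_ne_zero (pow_ne_zero _ (by simp)) (pow_ne_zero _ hc)))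
      (hδ.mul hδg) hβ fun κ hκ => ⟨1, κ, cdet_one A, ⟨1, κ, rfl, ⟨1, one_ne_zero, κ, by rw [one_pow, mul_one], hκ⟩,
        one_mul κ⟩, one_mul κ⟩
    refine ⟨T, β, hT, hsT, hβ, hd, hF, ?_⟩
    rw [hβd, msOf_comp, msOf_elim, hms, listVals_append, listVals_single, blockVals, hbv]
    congr 1
    rw [← Multiset.replicate_succ, show g.natDegree - 1 + 1 = g.natDegree by omega]
    simp [msOf, Fin.univ_val_map, List.ofFn_const]
  · refine elem_of_list (by omega) _ (by rwa [hfst]) (fun p hp => ?_) ?_ ?_ c ?_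
    · rcases List.mem_append.1 hp with h | h
      · exact hv p h
      · rw [List.mem_singleton.1 h]; exact hvg
    · refine List.pairwise_append.2 ⟨hok, List.pairwise_singleton _ _, fun p _ q hq' h2 => ?_⟩
      rw [List.mem_singleton.1 hq'] at h2
      simp only at h2
      omega
    · rw [List.map_append, List.prod_append]
      simpa using hδ.mul hδg
    · have hcount : (listVals (ps ++ [(g, c)])).count c = g.natDegree - 1 := by
        rw [listVals_append, listVals_single, Multiset.count_add, Multiset.count_eq_zero.2 hout, blockVals,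
          Multiset.count_cons, Multiset.count_replicate, if_neg (Ne.symm hbv)]
        simp
      rw [hcount]
      exact flex_pred (by omega) fun a => cdet_scalar hdec (List.mem_append_right _ List.mem_cons_self) a

/-! ### Small blocks -/

/-- A unipotent-like block of size two, with any class. -/
theorem good_two_mono {f : F[X]} (hf : f.Monic) (hd : f.natDegree = 2) {r k : F}
    (hfr : f = (X - C r) * (X - C r)) (hr : r ≠ 0) (hk : k ≠ 0) (hk1 : k ≠ -1) :
    Good (rComp 2 f) k (fun _ => r * r) (fun _ => False) (fun _ => False) := by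
  set X₀ : Matrix (Fin 2) (Fin 2) F := !![r, 0; 1, r] with hX
  set Y₀ : Matrix (Fin 2) (Fin 2) F := !![r, 0; k, r] with hY
  have hlow : H41.IsLowerWith (fun _ : Fin 2 => r * r) (X₀ * Y₀) := by
    refine ⟨fun i j h => ?_, fun i => ?_⟩
    · fin_cases i <;> fin_cases j <;> simp_all [Matrix.mul_apply, Fin.sum_univ_two]
    · fin_cases i <;> simp [hX, hY, Matrix.mul_apply, Fin.sum_univ_two]
  refine Good.sim ⟨X₀, X₀ * Y₀, ⟨cls_self _, Y₀, !![1, 0; 0, k], ?_, by simp [Matrix.det_fin_two], rfl⟩,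
    RU_lower hlow (fun _ _ _ _ _ _ => rfl) ?_, splitBy_lower hlow, fun a h => h.elim, fun a h => h.elim⟩
    (cyc_two hf hd hfr (Or.inl one_ne_zero)).symm
  · ext i j
    fin_cases i <;> fin_cases j <;> simp [hX, hY, Matrix.mul_apply, Fin.sum_univ_two, mul_comm]
  · intro i j hij _
    obtain rfl : j = 0 := Fin.ext (by simp; omega)
    obtain rfl : i = 1 := Fin.ext (by simpa using hij)
    have : (1 + k) * r ≠ 0 := mul_ne_zero (fun h => hk1 (by linear_combination h)) hr
    intro h
    refine this ?_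
    simp [hX, hY, Matrix.mul_apply, Fin.sum_univ_two] at h
    linear_combination h

/-- A block of size three with distinct values. -/
theorem good_three {f : F[X]} (hf : f.Monic) (hd : f.natDegree = 3) (hf0 : f.coeff 0 ≠ 0) {a₀ a b : F}
    (ha : a ≠ 0) (hb : b ≠ 0) (h₀ : a₀ * a * b = f.coeff 0 ^ 2) (h01 : a₀ ≠ a) (h02 : a₀ ≠ b) (h12 : a ≠ b) :
    Good (rComp 3 f) (-1 / (a * (a * b))) ![a₀, a, b] (fun x => x ≠ b) (fun x => x = b) := by
  have ha0 : a₀ ≠ 0 := fun h => by rw [h, zero_mul, zero_mul] at h₀; exact pow_ne_zero 2 hf0 h₀.symm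
  have hβ : ∀ i, (![a₀, a, b] : Fin 3 → F) i ≠ 0 := fun i => by fin_cases i <;> assumption
  obtain ⟨Y, P, hP, hPd, hup, hdiag, -, -⟩ :=
    exists_pair_core (show 2 ≤ 3 by omega) hf hd hf0 ![a₀, a, b] (fun _ => 1) hβ
  have e1 : Finset.univ.filter (fun i : Fin 3 => 1 ≤ i.val ∧ i.val ≤ 0) = ∅ := by decide
  have e2 : Finset.univ.filter (fun i : Fin 3 => 1 ≤ i.val ∧ i.val ≤ 1) = {1} := by decide
  have e3 : Finset.univ.filter (fun i : Fin 3 => 1 ≤ i.val ∧ i.val ≤ 2) = {1, 2} := by decide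
  have ht : tri 3 = 3 := by simp [tri, Finset.sum_range_succ]
  rw [Fin.prod_univ_three, ht] at hPd
  simp only [Fin.val_zero, Fin.val_one, Fin.val_two, e1, e2, e3, Finset.prod_empty, Finset.prod_singleton,
    Finset.prod_insert (show (1 : Fin 3) ∉ ({2} : Finset (Fin 3)) by decide)] at hPd
  simp at hPd
  have hPd' : P.det = -1 / (a * (a * b)) := by
    rw [eq_div_iff (mul_ne_zero ha (mul_ne_zero ha hb))]
    linear_combination hPd
  have hu : IsUnit P.det := by
    rw [hPd', isUnit_iff_ne_zero]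
    exact div_ne_zero (by simp) (mul_ne_zero ha (mul_ne_zero ha hb))
  set T := cComp 3 f * Y with hT
  have h00 : T 0 0 = a₀ := by
    have h1 : T.det = T 0 0 * a * b := by
      rw [Matrix.det_of_isLowerTriangular T (fun i j h => hup i j h), Fin.prod_univ_three]
      rw [hdiag 1 le_rfl, hdiag 2 (by simp)]
      simp
    have h2 : T.det = f.coeff 0 ^ 2 := by
      rw [hT, Matrix.det_mul, ← (show Sim (cComp 3 f) Y from ⟨P, hu, hP⟩).det_eq, cComp_det hf hd]
      ring
    exact mul_right_cancel₀ ha (mul_right_cancel₀ hb ((h1.symm.trans h2).trans h₀.symm))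
  have hlow : H41.IsLowerWith ![a₀, a, b] T := ⟨hup, fun i => by
    by_cases hi : i = 0
    · subst hi; simpa using h00
    · exact hdiag i (Nat.one_le_iff_ne_zero.2 fun h => hi (Fin.ext h))⟩
  have hgr : Grouped (![a₀, a, b] : Fin 3 → F) := fun i j l hij hjl h => by
    obtain rfl : i = 0 := Fin.ext (by have := Fin.lt_def.1 hij; have := Fin.lt_def.1 hjl; simp; omega)
    obtain rfl : l = 2 := Fin.ext (by have := Fin.lt_def.1 hij; have := Fin.lt_def.1 hjl; simp; omega)
    exact absurd (by simpa using h) h02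
  refine Good.sim ⟨cComp 3 f, T, ⟨cls_self _, Y, P, hP, hPd', hT⟩, RU_lower hlow hgr ?_, splitBy_lower hlow,
    ?_, ?_⟩ (sim_cComp (by omega) hf hd)
  · intro i j hij he
    rcases (show j.val = 0 ∨ j.val = 1 by omega) with hj | hj
    · obtain rfl : j = 0 := Fin.ext hj
      obtain rfl : i = 1 := Fin.ext (by simpa using hij)
      exact absurd (by simpa using he.symm) h01
    · obtain rfl : j = 1 := Fin.ext hj
      obtain rfl : i = 2 := Fin.ext (by simpa using hij)
      exact absurd (by simpa using he.symm) h12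
  · intro x hx l ν hl hlX hlT
    have h2 := congrFun hlT 2
    simp only [Matrix.vecMul, dotProduct, Fin.sum_univ_three, Pi.smul_apply, smul_eq_mul,
      hlow.1 0 2 (by decide), hlow.1 1 2 (by decide), hlow.2 2] at h2
    have hl2 := (cComp_left_ne (by omega) hf hd hf0 hl hlX).2 2
    refine hx (mul_right_cancel₀ hl2 ?_)
    simp at h2
    linear_combination -h2
  · rintro x rfl v ν hv hvX hvT
    have e0 := congrFun hvT 0
    have e1 := congrFun hvT 1
    simp only [Matrix.mulVec, dotProduct, Fin.sum_univ_three, Pi.smul_apply, smul_eq_mul,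
      hlow.1 0 1 (by decide), hlow.1 0 2 (by decide), hlow.2 0] at e0
    simp [h02] at e0
    simp only [Matrix.mulVec, dotProduct, Fin.sum_univ_three, Pi.smul_apply, smul_eq_mul,
      hlow.1 1 2 (by decide), hlow.2 1, e0] at e1
    simp [h12] at e1
    have c0 := congrFun hvX 0
    simp [Matrix.mulVec, dotProduct, Fin.sum_univ_three, cComp, rComp, e0, e1, hf0] at c0
    exact hv (funext fun i => by fin_cases i <;> simp [e0, e1, c0])

end H89.CN
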