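import Cfsg.Agent.H89.CN.Pieces

/-!
From one regular split element in the square of a class to the high powers of the class.
-/

set_option autoImplicit false

namespace H89.CN

open Matrix Polynomial

variable {F : Type*} [Field F] {n : ℕ}

/-- The similarity class. -/
def Sc (A : Matrix (Fin n) (Fin n) F) : Set (Matrix (Fin n) (Fin n) F) := {X | Sim A X}

/-- Not scalar. -/
def NS {ι : Type*} [DecidableEq ι] (g : Matrix ι ι F) : Prop := ∀ σ : F, g ≠ σ • 1

lemma sc_det {A X : Matrix (Fin n) (Fin n) F} (h : X ∈ Sc A) : X.det = A.det := (Sim.det_eq h).symm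

lemma cls_subset_sc (A : Matrix (Fin n) (Fin n) F) : Cls A ⊆ Sc A := fun _ h => sim_of_cls h

lemma prods_mono {S S' : Set (Matrix (Fin n) (Fin n) F)} (h : S ⊆ S') : ∀ {k : ℕ}, Prods S k ⊆ Prods S' k
  | 0 => fun _ h => h
  | k + 1 => fun _ ⟨X, hX, g, hg, he⟩ => ⟨X, h hX, g, prods_mono h hg, he⟩

lemma prods_map {S S' : Set (Matrix (Fin n) (Fin n) F)} {Q : Matrix (Fin n) (Fin n) F} (hQ : IsUnit Q.det)
    (h : ∀ X ∈ S, Q * X * Q⁻¹ ∈ S') : ∀ {k : ℕ} {g : Matrix (Fin n) (Fin n) F}, g ∈ Prods S k →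
      Q * g * Q⁻¹ ∈ Prods S' k
  | 0, g, hg => by
    rw [Set.mem_singleton_iff.1 hg, Matrix.mul_one, Matrix.mul_nonsing_inv _ hQ]
    rfl
  | k + 1, g, ⟨X, hX, g', hg, he⟩ => by
    refine ⟨_, h X hX, _, prods_map hQ h hg, ?_⟩
    rw [he, Matrix.mul_assoc (Q * X) Q⁻¹, Matrix.mul_assoc Q g', Matrix.nonsing_inv_mul_cancel_left _ _ hQ]
    simp only [Matrix.mul_assoc]

lemma sc_conj {A X Q : Matrix (Fin n) (Fin n) F} (hX : X ∈ Sc A) (hQ : IsUnit Q.det) : Q * X * Q⁻¹ ∈ Sc A :=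
  Sim.trans hX (sim_conj hQ rfl)

/-- A member of a power of a similarity class brings its class along. -/
lemma full_sc {A T : Matrix (Fin n) (Fin n) F} {k : ℕ} (h : T ∈ Prods (Sc A) k) : Full (Prods (Sc A) k) T := by
  rintro X ⟨Q, hQ, he⟩
  rw [eq_conj hQ he]
  exact prods_map hQ (fun Y hY => sc_conj hY hQ) h

/-- A product of determinant-one conjugates brings its class along when all determinants are available. -/
lemma full_cls {A T : Matrix (Fin n) (Fin n) F} {k : ℕ}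
    (h : ∀ κ : F, κ ≠ 0 → ∃ P : Matrix (Fin n) (Fin n) F, P.det = κ ∧ P * T * P⁻¹ ∈ Prods (Cls A) k) :
    Full (Prods (Cls A) k) T := by
  rintro X ⟨Q, hQ, he⟩
  obtain ⟨P, hP, hmem⟩ := h Q.det hQ.ne_zero
  have hu : IsUnit P.det := by rw [hP]; exact hQ
  set R := Q * P⁻¹ with hR
  have hRd : R.det = 1 := by
    rw [hR, Matrix.det_mul, Matrix.det_nonsing_inv, Ring.inverse_eq_inv', hP, mul_inv_cancel₀ hQ.ne_zero]
  have hRu : IsUnit R.det := by rw [hRd]; exact isUnit_one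
  have hmap := prods_map hRu (fun Y hY => cls_conj hY hRd) hmem
  have : R * (P * T * P⁻¹) * R⁻¹ = X := by
    rw [eq_conj hQ he, hR, Matrix.mul_inv_rev, Matrix.nonsing_inv_nonsing_inv _ hu]
    simp only [Matrix.mul_assoc, Matrix.nonsing_inv_mul_cancel_left _ _ hu]
  rwa [this] at hmap

/-- If the centraliser has every determinant, the two classes agree. -/
lemma sc_eq_cls {A : Matrix (Fin n) (Fin n) F} (h : ∀ a : F, a ≠ 0 → CDet A a) : Sc A = Cls A := by
  refine Set.Subset.antisymm ?_ (cls_subset_sc A)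
  rintro X ⟨Q, hQ, he⟩
  obtain ⟨Z, hZ, hZd⟩ := h Q.det hQ.ne_zero
  have hu : IsUnit Z.det := by rw [hZd]; exact hQ
  refine ⟨Q * Z⁻¹, by rw [Matrix.det_mul, Matrix.det_nonsing_inv, Ring.inverse_eq_inv', hZd,
    mul_inv_cancel₀ hQ.ne_zero], ?_⟩
  have hZA : Z⁻¹ * A = A * Z⁻¹ := by
    calc Z⁻¹ * A = Z⁻¹ * (A * (Z * Z⁻¹)) := by rw [Matrix.mul_nonsing_inv _ hu, Matrix.mul_one]
      _ = Z⁻¹ * (Z * A * Z⁻¹) := by rw [hZ, Matrix.mul_assoc A]
      _ = A * Z⁻¹ := by rw [Matrix.mul_assoc Z, Matrix.nonsing_inv_mul_cancel_left _ _ hu]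
  rw [Matrix.mul_assoc, hZA, ← Matrix.mul_assoc, he, Matrix.mul_assoc]

lemma ns_of_sim {A B : Matrix (Fin n) (Fin n) F} (h : Sim A B) (hA : NS A) : NS B := by
  intro σ hB
  obtain ⟨P, hP, he⟩ := h
  apply hA σ
  have h1 : P * A = P * (σ • (1 : Matrix (Fin n) (Fin n) F)) := by
    rw [he, hB, Matrix.smul_mul, Matrix.one_mul, Matrix.mul_smul, Matrix.mul_one]
  have := congrArg (fun M => P⁻¹ * M) h1
  simpa [Matrix.nonsing_inv_mul_cancel_left _ _ hP, Matrix.nonsing_inv_mul _ hP] using this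

/-- A class of non-scalar matrices has two members which are not proportional. -/
lemma exists_two (hn : 2 ≤ n) {A : Matrix (Fin n) (Fin n) F} (hA : NS A) :
    ∃ X ∈ Cls A, ∀ c : F, X ≠ c • A := by
  by_contra hcon
  push Not at hcon
  have key : ∀ i j : Fin n, i ≠ j → ∃ c : F, Matrix.transvection i j 1 * A = c • (A * Matrix.transvection i j 1) := by
    intro i j hij
    have hd := Matrix.det_transvection_of_ne i j hij (1 : F)
    have hu : IsUnit (Matrix.transvection i j (1 : F)).det := by rw [hd]; exact isUnit_one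
    obtain ⟨c, hc⟩ := hcon _ (cls_conj (cls_self A) hd)
    refine ⟨c, ?_⟩
    have h1 := congrArg (fun M => M * Matrix.transvection i j (1 : F)) hc
    simp only [Matrix.mul_assoc, Matrix.nonsing_inv_mul _ hu, Matrix.mul_one, Matrix.smul_mul] at h1
    exact h1
  have key' : ∀ i j p r : Fin n, ∀ _ : i ≠ j, ∃ c : F,
      A p r + (if p = i then A j r else 0) = c * (A p r + (if r = j then A p i else 0)) ∧
      ∀ p r : Fin n, A p r + (if p = i then A j r else 0) = c * (A p r + (if r = j then A p i else 0)) := by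
    intro i j p r hij
    obtain ⟨c, hc⟩ := key i j hij
    have h2 : ∀ p r : Fin n, A p r + (if p = i then A j r else 0) = c * (A p r + (if r = j then A p i else 0)) := by
      intro p r
      have := congrFun (congrFun hc p) r
      rw [Matrix.smul_apply, smul_eq_mul] at this
      by_cases hp : p = i <;> by_cases hr : r = j <;>
        simp [hp, hr] at this ⊢ <;> exact this
    exact ⟨c, h2 p r, h2⟩
  by_cases hoff : ∃ p r : Fin n, p ≠ r ∧ A p r ≠ 0
  · obtain ⟨p, r, hpr, hA0⟩ := hoff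
    obtain ⟨c, -, h2⟩ := key' r p p r hpr.symm
    have e1 := h2 p r
    rw [if_neg hpr, if_neg (fun h => hpr h.symm)] at e1
    have hc1 : c = 1 := by
      have := mul_right_cancel₀ hA0 (show (1 : F) * A p r = c * A p r by simpa using e1)
      exact this.symm
    have e2 := h2 r r
    rw [if_pos rfl, if_neg (fun h => hpr h.symm), hc1] at e2
    simp at e2
    exact hA0 e2
  · push Not at hoff
    obtain ⟨p, r, hpr⟩ : ∃ p r : Fin n, A p p ≠ A r r := by
      by_contra hd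
      push Not at hd
      refine hA (A ⟨0, by omega⟩ ⟨0, by omega⟩) ?_
      ext a b
      by_cases hab : a = b
      · subst hab; simp [hd a ⟨0, by omega⟩]
      · simp [Matrix.one_apply_ne hab, hoff a b hab]
    have hne : p ≠ r := fun h => hpr (by rw [h])
    obtain ⟨c, -, h2⟩ := key' p r p r hne
    have e1 := h2 p p
    have e2 := h2 r r
    have e3 := h2 p r
    simp [hne, hne.symm, hoff _ _ hne, hoff _ _ hne.symm] at e1 e2 e3
    rcases eq_or_ne c 1 with hc | hc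
    · rw [hc, one_mul] at e3; exact hpr e3.symm
    · have hz : ∀ x : F, x = c * x → x = 0 := fun x hx =>
        (mul_eq_zero.1 (show (c - 1) * x = 0 by linear_combination -hx)).resolve_left (sub_ne_zero.2 hc)
      exact hpr ((hz _ e1).trans (hz _ e2).symm)

/-- One more factor turns non-scalar coverage into full coverage. -/
theorem cover_succ (hn : 2 ≤ n) {A : Matrix (Fin n) (Fin n) F} {S : Set (Matrix (Fin n) (Fin n) F)}
    (hS : Cls A ⊆ S) (hdS : ∀ X ∈ S, X.det = A.det) (hA : NS A) (hA0 : A.det ≠ 0) {k : ℕ}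
    (h : ∀ g : Matrix (Fin n) (Fin n) F, g.det = A.det ^ k → NS g → g ∈ Prods S k)
    {g : Matrix (Fin n) (Fin n) F} (hg : g.det = A.det ^ (k + 1)) : g ∈ Prods S (k + 1) := by
  obtain ⟨X', hX', hne⟩ := exists_two hn hA
  have hu : ∀ {X}, X ∈ S → IsUnit X.det := fun hX => by rw [hdS _ hX]; exact isUnit_iff_ne_zero.2 hA0
  have hdet : ∀ {X}, X ∈ S → (X⁻¹ * g).det = A.det ^ k := fun hX => by
    rw [Matrix.det_mul, Matrix.det_nonsing_inv, Ring.inverse_eq_inv', hdS _ hX, hg, pow_succ]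
    field_simp
  have mk : ∀ {X}, X ∈ S → NS (X⁻¹ * g) → g ∈ Prods S (k + 1) := fun {X} hX hns =>
    ⟨X, hX, _, h _ (hdet hX) hns, (Matrix.mul_nonsing_inv_cancel_left _ _ (hu hX)).symm⟩
  have hAS := hS (cls_self A)
  have hXS := hS hX'
  by_cases h1 : NS (A⁻¹ * g)
  · exact mk hAS h1
  haveI : Nonempty (Fin n) := ⟨⟨0, by omega⟩⟩
  refine mk hXS fun σ' hσ' => ?_
  simp only [NS, not_forall, not_not] at h1
  obtain ⟨σ, hσ⟩ := h1
  have e : ∀ {X : Matrix (Fin n) (Fin n) F} {s : F}, X ∈ S → X⁻¹ * g = s • 1 → g = s • X := fun {X s} hX he => by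
    rw [← Matrix.mul_nonsing_inv_cancel_left X g (hu hX), he, Matrix.mul_smul, Matrix.mul_one]
  have hs' : σ' ≠ 0 := by
    intro h0
    have h2 := hdet hXS
    rw [hσ', h0, zero_smul, Matrix.det_zero] at h2
    exact pow_ne_zero k hA0 h2.symm
  refine hne (σ'⁻¹ * σ) ?_
  have := (e hXS hσ').symm.trans (e hAS hσ)
  rw [← inv_smul_smul₀ hs' X', this, smul_smul]

/-- Coverage of every sufficiently large exponent. -/
theorem cover_pad (hn : 2 ≤ n) {A : Matrix (Fin n) (Fin n) F} {S : Set (Matrix (Fin n) (Fin n) F)}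
    (hS : Cls A ⊆ S) (hdS : ∀ X ∈ S, X.det = A.det) (hA : NS A) (hA0 : A.det ≠ 0) {j : ℕ}
    (h : ∀ g : Matrix (Fin n) (Fin n) F, g.det = A.det ^ j → NS g → g ∈ Prods S j) :
    ∀ {k : ℕ}, j < k → ∀ {g : Matrix (Fin n) (Fin n) F}, g.det = A.det ^ k → g ∈ Prods S k := by
  intro k
  induction k with
  | zero => omega
  | succ k ih =>
    intro hk g hg
    refine cover_succ hn hS hdS hA hA0 (fun g' hg' hns => ?_) hg
    rcases eq_or_lt_of_le (Nat.lt_succ_iff.1 hk) with rfl | hlt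
    · exact h g' hg' hns
    · exact ih hlt hg'

section Engine

variable [Fintype F]

/-- **Everything at the sixth power.** -/
theorem cover_six (hq : 4 ≤ Fintype.card F) (hn : 3 ≤ n) {A : Matrix (Fin n) (Fin n) F}
    {S : Set (Matrix (Fin n) (Fin n) F)} (hS : Cls A ⊆ S) (hdS : ∀ X ∈ S, X.det = A.det) (hA : NS A)
    (hA0 : A.det ≠ 0) {j : ℕ} {T : Matrix (Fin n) (Fin n) F} {β : Fin n → F} (hT : Cyc T) (hs : SplitBy T β)
    (hβ : ∀ i, β i ≠ 0) (hTd : T.det = A.det ^ j) (hFT : Full (Prods S j) T) {k : ℕ} (hk : 3 * j ≤ k)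
    {g : Matrix (Fin n) (Fin n) F} (hg : g.det = A.det ^ k) : g ∈ Prods S k := by
  have h6 : ∀ {g : Matrix (Fin n) (Fin n) F}, g.det = A.det ^ (3 * j) → g ∈ Prods S (3 * j) := by
    intro g hg
    have := mem_three hq hT hs hβ hFT (allCyc_mul (by omega) hn hT hs hβ hT (hTd ▸ pow_ne_zero j hA0) hFT hFT)
      (show g.det = T.det * (T.det * T.det) by rw [hg, hTd, ← pow_add, ← pow_add]; ring_nf)
      (mul_ne_zero (hTd ▸ pow_ne_zero j hA0) (hTd ▸ pow_ne_zero j hA0))
    rwa [show j + j + j = 3 * j by omega] at this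
  rcases eq_or_lt_of_le hk with rfl | hlt
  · exact h6 hg
  · exact cover_pad (by omega) hS hdS hA hA0 (fun g hg _ => h6 hg) hlt hg

/-- **Everything non-scalar at the fourth power, for a paired diagonal.** -/
theorem cover_four (hq : 4 ≤ Fintype.card F) {m : ℕ} (hm : 2 ≤ m) {A : Matrix (Fin (m + 2)) (Fin (m + 2)) F}
    {S : Set (Matrix (Fin (m + 2)) (Fin (m + 2)) F)} (hS : Cls A ⊆ S) (hdS : ∀ X ∈ S, X.det = A.det) (hA : NS A)
    (hA0 : A.det ≠ 0) {j : ℕ} {T : Matrix (Fin (m + 2)) (Fin (m + 2)) F} {β γ : Fin (m + 2) → F} (hT : Cyc T)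
    (hs : SplitBy T β) (hgβ : Grouped β) (hgγ : Grouped γ) (hms : msOf γ = msOf β)
    (hβ : ∀ i, β i ≠ 0) {μ : F} (hprod : ∀ i : Fin (m + 1), β i.succ * γ i.succ = μ)
    (hTd : T.det = A.det ^ j) (hFT : Full (Prods S j) T) {k : ℕ} (hk : 2 * j ≤ k)
    {g : Matrix (Fin (m + 2)) (Fin (m + 2)) F} (hg : g.det = A.det ^ k) (hns : NS g ∨ 2 * j < k ∨ g = μ • 1) :
    g ∈ Prods S k := by
  have hγ : ∀ i, γ i ≠ 0 := fun i => by
    obtain ⟨l, hl⟩ := (msOf_mem β _).1 (hms ▸ (msOf_mem γ _).2 ⟨i, rfl⟩)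
    rw [← hl]; exact hβ l
  have hs' : SplitBy T γ := by
    rw [SplitBy, hs, Finset.prod_eq_multiset_prod, Finset.prod_eq_multiset_prod]
    have := congrArg (fun s => (Multiset.map (fun a => X - C a) s).prod) hms
    simpa [msOf, Multiset.map_map, Function.comp_def] using this.symm
  have hμ : μ ≠ 0 := hprod 0 ▸ mul_ne_zero (hβ _) (hγ _)
  have h4 : ∀ g : Matrix (Fin (m + 2)) (Fin (m + 2)) F, g.det = A.det ^ (2 * j) → (g = μ • 1 ∨ NS g) →
      g ∈ Prods S (2 * j) := by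
    intro g hg h
    rw [two_mul]
    exact mem_paired hq hm hT hs hgβ hβ hT hs' hgγ hγ hFT hFT hμ hprod
      (by rw [hg, hTd, ← pow_add]; ring_nf) h
  rcases eq_or_lt_of_le hk with rfl | hlt
  · rcases hns with h | h | h
    exacts [h4 g hg (Or.inr h), absurd h (lt_irrefl _), h4 g hg (Or.inl h)]
  · exact cover_pad (by omega) hS hdS hA hA0 (fun g hg h => h4 g hg (Or.inr h)) hlt hg

end Engine

end H89.CN
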