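import Cfsg.Agent.H89.CN.Engine

/-!
Splitting an eigenvector off a product by one member of a class.
-/

set_option autoImplicit false

namespace H89.CN

open Matrix Module

variable {F : Type*} [Field F]

section Linear

variable {V : Type*} [AddCommGroup V] [Module F V] [FiniteDimensional F V]

/-- Two pairs of functionals with the same pairing are carried to each other. -/
lemma exists_equiv_two (x₁ x₂ y₁ y₂ : V) (f₁ f₂ g₁ g₂ : Dual F V) (h₁₁ : g₁ y₁ = f₁ x₁) (h₁₂ : g₁ y₂ = f₁ x₂)
    (h₂₁ : g₂ y₁ = f₂ x₁) (h₂₂ : g₂ y₂ = f₂ x₂) (hΔ : f₁ x₁ * f₂ x₂ - f₁ x₂ * f₂ x₁ ≠ 0) :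
    ∃ Q : V ≃ₗ[F] V, Q x₁ = y₁ ∧ Q x₂ = y₂ ∧ (∀ x, g₁ (Q x) = f₁ x) ∧ ∀ x, g₂ (Q x) = f₂ x := by
  set Δ := f₁ x₁ * f₂ x₂ - f₁ x₂ * f₂ x₁ with hΔdef
  let K : Submodule F V := LinearMap.ker f₁ ⊓ LinearMap.ker f₂
  let K' : Submodule F V := LinearMap.ker g₁ ⊓ LinearMap.ker g₂
  have hrk : ∀ (a b : Dual F V) (z₁ z₂ : V), a z₁ * b z₂ - a z₂ * b z₁ ≠ 0 →
      finrank F ↥(LinearMap.ker a ⊓ LinearMap.ker b) + 2 = finrank F V := by
    intro a b z₁ z₂ hz
    have hsurj : Function.Surjective (a.prod b) := by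
      rintro ⟨s, t⟩
      set D := a z₁ * b z₂ - a z₂ * b z₁ with hD
      refine ⟨((s * b z₂ - t * a z₂) / D) • z₁ + ((t * a z₁ - s * b z₁) / D) • z₂, ?_⟩
      refine Prod.ext ?_ ?_
      · show a _ = s
        simp only [map_add, map_smul, smul_eq_mul]; field_simp; rw [hD]; ring
      · show b _ = t
        simp only [map_add, map_smul, smul_eq_mul]; field_simp; rw [hD]; ring
    have := LinearMap.finrank_range_add_finrank_ker (a.prod b)
    rw [LinearMap.range_eq_top.2 hsurj, finrank_top, finrank_prod, finrank_self, LinearMap.ker_prod] at this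
    omega
  have hdim : finrank F K = finrank F K' := by
    have h1 := hrk f₁ f₂ x₁ x₂ hΔ
    have h2 := hrk g₁ g₂ y₁ y₂ (by rw [h₁₁, h₁₂, h₂₁, h₂₂]; exact hΔ)
    show finrank F ↥(LinearMap.ker f₁ ⊓ LinearMap.ker f₂) = finrank F ↥(LinearMap.ker g₁ ⊓ LinearMap.ker g₂)
    omega
  let φ : K ≃ₗ[F] K' := LinearEquiv.ofFinrankEq K K' hdim
  let α : Dual F V := Δ⁻¹ • (f₂ x₂ • f₁ - f₁ x₂ • f₂)
  let β : Dual F V := Δ⁻¹ • (f₁ x₁ • f₂ - f₂ x₁ • f₁)
  have hα₁ : α x₁ = 1 := by simp [α]; field_simp; rw [hΔdef]; ring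
  have hα₂ : α x₂ = 0 := by simp [α]; right; ring
  have hβ₁ : β x₁ = 0 := by simp [β]; right; ring
  have hβ₂ : β x₂ = 1 := by simp [β]; field_simp; rw [hΔdef]; ring
  have hf₁ : ∀ x, α x * f₁ x₁ + β x * f₁ x₂ = f₁ x := by
    intro x; simp [α, β]; field_simp; rw [hΔdef]; ring
  have hf₂ : ∀ x, α x * f₂ x₁ + β x * f₂ x₂ = f₂ x := by
    intro x; simp [α, β]; field_simp; rw [hΔdef]; ring
  let π₀ : V →ₗ[F] V := LinearMap.id - α.smulRight x₁ - β.smulRight x₂
  have hπ : ∀ x, π₀ x ∈ K := by
    intro x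
    refine ⟨?_, ?_⟩ <;> simp only [SetLike.mem_coe, LinearMap.mem_ker, π₀, LinearMap.sub_apply, LinearMap.id_apply,
      LinearMap.smulRight_apply, map_sub, map_smul, smul_eq_mul]
    · linear_combination -(hf₁ x)
    · linear_combination -(hf₂ x)
  let Q : V →ₗ[F] V :=
    α.smulRight y₁ + β.smulRight y₂ + (K'.subtype ∘ₗ φ.toLinearMap) ∘ₗ (π₀.codRestrict K hπ)
  have hQ : ∀ x, Q x = α x • y₁ + β x • y₂ + (φ ⟨π₀ x, hπ x⟩ : V) := fun x => rfl
  have hφg : ∀ z : K, g₁ (φ z : V) = 0 ∧ g₂ (φ z : V) = 0 := fun z => (φ z).2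
  have hg₁ : ∀ x, g₁ (Q x) = f₁ x := by
    intro x
    rw [hQ, map_add, map_add, map_smul, map_smul, (hφg _).1, smul_eq_mul, smul_eq_mul, h₁₁, h₁₂, add_zero, hf₁]
  have hg₂ : ∀ x, g₂ (Q x) = f₂ x := by
    intro x
    rw [hQ, map_add, map_add, map_smul, map_smul, (hφg _).2, smul_eq_mul, smul_eq_mul, h₂₁, h₂₂, add_zero, hf₂]
  have hinj : Function.Injective Q := by
    rw [← LinearMap.ker_eq_bot, eq_bot_iff]
    intro x hx
    rw [LinearMap.mem_ker] at hx
    have e1 : f₁ x = 0 := by rw [← hg₁, hx, map_zero]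
    have e2 : f₂ x = 0 := by rw [← hg₂, hx, map_zero]
    have ea : α x = 0 := by simp [α, e1, e2]
    have eb : β x = 0 := by simp [β, e1, e2]
    have hπx : π₀ x = x := by simp [π₀, ea, eb]
    rw [hQ, ea, eb, zero_smul, zero_smul, zero_add, zero_add, ← Submodule.coe_zero (p := K')] at hx
    have h0 := congrArg Subtype.val (φ.injective ((Subtype.ext hx).trans (map_zero φ).symm))
    exact (Submodule.mem_bot F).2 (hπx.symm.trans h0)
  refine ⟨LinearEquiv.ofBijective Q ⟨hinj, LinearMap.injective_iff_surjective.1 hinj⟩, ?_, ?_, hg₁, hg₂⟩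
  · show Q x₁ = y₁
    have : (⟨π₀ x₁, hπ x₁⟩ : K) = 0 := Subtype.ext (by simp [π₀, hα₁, hβ₁])
    rw [hQ, this, map_zero, hα₁, hβ₁]; simp
  · show Q x₂ = y₂
    have : (⟨π₀ x₂, hπ x₂⟩ : K) = 0 := Subtype.ext (by simp [π₀, hα₂, hβ₂])
    rw [hQ, this, map_zero, hα₂, hβ₂]; simp

lemma exists_dual_three {x₁ x₂ x₃ : V} (h : LinearIndependent F ![x₁, x₂, x₃]) (a₁ a₂ a₃ : F) :
    ∃ f : Dual F V, f x₁ = a₁ ∧ f x₂ = a₂ ∧ f x₃ = a₃ := by
  obtain ⟨F', hF'⟩ := (Fintype.linearCombination F ![x₁, x₂, x₃]).exists_leftInverse_of_injective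
    (LinearMap.ker_eq_bot.2 (linearIndependent_iff_injective_fintypeLinearCombination.1 h))
  let c : Dual F (Fin 3 → F) :=
    a₁ • LinearMap.proj (0 : Fin 3) + a₂ • LinearMap.proj (1 : Fin 3) + a₃ • LinearMap.proj (2 : Fin 3)
  have key : ∀ i : Fin 3, (c ∘ₗ F') (![x₁, x₂, x₃] i) = ![a₁, a₂, a₃] i := by
    intro i
    have h1 : F' (![x₁, x₂, x₃] i) = Pi.single i 1 := by
      have := LinearMap.congr_fun hF' (Pi.single i 1)
      simpa using this
    rw [LinearMap.comp_apply, h1]
    fin_cases i <;> simp [c]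
  exact ⟨c ∘ₗ F', key 0, key 1, key 2⟩

/-- A large eigenspace meets a cyclic span of length three in at most a line. -/
lemma exists_kernel_outside {B : V →ₗ[F] V} {e : V} (h : LinearIndependent F ![e, B e, B (B e)]) {σ : F}
    (hK : 2 ≤ finrank F (LinearMap.ker (shiftMap B σ))) :
    ∃ x₀ ∈ LinearMap.ker (shiftMap B σ), x₀ ∉ Submodule.span F ({e, B e, B (B e)} : Set V) := by
  by_contra hcon
  push Not at hcon
  set W := Submodule.span F ({e, B e, B (B e)} : Set V) with hW
  set S := shiftMap B σ with hS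
  have hle : LinearMap.ker S ≤ W := hcon
  have hWd : finrank F W = 3 := by
    have := finrank_span_eq_card h
    rw [Fintype.card_fin] at this
    rw [hW, show ({e, B e, B (B e)} : Set V) = Set.range ![e, B e, B (B e)] by
      ext x; simp [Matrix.range_cons, Matrix.range_empty]; try tauto]
    exact this
  have hr : 2 ≤ finrank F (LinearMap.range (S.domRestrict W)) := by
    have hli : LinearIndependent F ![S e, S (B e)] := by
      rw [LinearIndependent.pair_iff]
      intro s t hst
      have hst' : (-(σ * s)) • e + (s - σ * t) • B e + t • B (B e) = 0 := by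
        rw [← hst]; simp only [hS, shiftMap_apply, neg_smul, sub_smul, smul_sub, mul_smul]
        rw [smul_comm σ s, smul_comm σ t]
        abel
      have h3 := Fintype.linearIndependent_iff.1 h ![-(σ * s), s - σ * t, t] (by
        simpa [Fin.sum_univ_three] using hst')
      have ht : t = 0 := by simpa using h3 2
      have hs : s = 0 := by simpa [ht] using h3 1
      exact ⟨hs, ht⟩
    have hle2 : Submodule.span F (Set.range ![S e, S (B e)]) ≤ LinearMap.range (S.domRestrict W) := by
      rw [Submodule.span_le, Set.range_subset_iff]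
      intro i
      fin_cases i
      · exact ⟨⟨e, Submodule.subset_span (by simp)⟩, rfl⟩
      · exact ⟨⟨B e, Submodule.subset_span (by simp)⟩, rfl⟩
    have := Submodule.finrank_mono hle2
    rwa [finrank_span_eq_card hli, Fintype.card_fin] at this
  have hker : finrank F (LinearMap.ker (S.domRestrict W)) = finrank F (LinearMap.ker S) := by
    rw [LinearMap.ker_domRestrict]
    exact (Submodule.comapSubtypeEquivOfLe hle).finrank_eq
  have := LinearMap.finrank_range_add_finrank_ker (S.domRestrict W)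
  omega

end Linear

/-- **One step.** The product of `g` with a member of the class of `A⁻¹` splits off a chosen scalar. -/
theorem exists_split [Fintype F] (hq : 3 ≤ Fintype.card F) {n : ℕ} (hn : 4 ≤ n)
    {A g : Matrix (Fin n) (Fin n) F} (hA0 : A.det ≠ 0) (hg0 : g.det ≠ 0) (hg : NS g)
    {u : Fin n → F} (hu : LinearIndependent F ![u, A *ᵥ u, A *ᵥ (A *ᵥ u)]) {μ : F} (hμ : μ ≠ 0) :
    ∃ (N : ℕ) (e : Fin 1 ⊕ Fin N ≃ Fin n) (h : Matrix (Fin N) (Fin N) F)
      (Y X : Matrix (Fin n) (Fin n) F), g = Y * X ∧ X ∈ Sc A ∧ NS h ∧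
        Sim Y (Matrix.reindex e e (Matrix.fromBlocks (Matrix.diagonal fun _ => μ) 0 0 h)) := by
  classical
  have hAu : IsUnit A.det := isUnit_iff_ne_zero.2 hA0
  have hgu : IsUnit g.det := isUnit_iff_ne_zero.2 hg0
  set B : (Fin n → F) →ₗ[F] (Fin n → F) := Matrix.toLin' A⁻¹ with hB
  set G : (Fin n → F) →ₗ[F] (Fin n → F) := Matrix.toLin' g with hG
  set G' : (Fin n → F) →ₗ[F] (Fin n → F) := Matrix.toLin' g⁻¹ with hG'
  have hGG' : ∀ x, G (G' x) = x := fun x => by
    simp [hG, hG', Matrix.mulVec_mulVec, Matrix.mul_nonsing_inv _ hgu]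
  have hG'G : ∀ x, G' (G x) = x := fun x => by
    simp [hG, hG', Matrix.mulVec_mulVec, Matrix.nonsing_inv_mul _ hgu]
  set x₁ := A *ᵥ (A *ᵥ u) with hx₁
  set x₂ := A *ᵥ u with hx₂
  have hB1 : B x₁ = x₂ := by simp [hB, hx₁, hx₂, Matrix.mulVec_mulVec, Matrix.nonsing_inv_mul_cancel_left _ _ hAu]
  have hB2 : B x₂ = u := by simp [hB, hx₂, Matrix.mulVec_mulVec, Matrix.nonsing_inv_mul _ hAu]
  have hind : LinearIndependent F ![x₁, B x₁, B (B x₁)] := by
    rw [hB1, hB2]
    have h1 := hu.comp ![2, 1, 0] (by decide)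
    convert h1 using 1
    funext i; fin_cases i <;> rfl
  -- the vector and the functional
  obtain ⟨v, hv⟩ : ∃ v, ∀ c : F, G v ≠ c • v := by
    by_contra hcon
    push Not at hcon
    have hdiag : ∀ i, ∃ c : F, G (Pi.single i 1) = c • Pi.single i 1 := fun i => hcon _
    choose c hc using hdiag
    have hij : ∀ i j, c i = c j := by
      intro i j
      by_cases hij : i = j
      · rw [hij]
      obtain ⟨d, hd⟩ := hcon (Pi.single i 1 + Pi.single j 1)
      rw [map_add, hc, hc] at hd
      have e1 := congrFun hd i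
      have e2 := congrFun hd j
      simp [hij, Ne.symm hij] at e1 e2
      rw [e1, e2]
    refine hg (c ⟨0, by omega⟩) (Matrix.toLin'.injective (LinearMap.pi_ext' fun i => LinearMap.ext_ring ?_))
    show G (Pi.single i 1) = (Matrix.toLin' (c ⟨0, _⟩ • (1 : Matrix (Fin n) (Fin n) F))) (Pi.single i 1)
    rw [hc, hij i ⟨0, by omega⟩]
    simp [Matrix.smul_mulVec]
  set w := G' v with hw
  have hvw : LinearIndependent F ![v, w] := by
    rw [LinearIndependent.pair_iff]
    intro s t hst
    by_cases ht : t = 0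
    · rw [ht, zero_smul, add_zero] at hst
      have hv0 : v ≠ 0 := fun h => hv 0 (by rw [h, map_zero, smul_zero])
      exact ⟨(smul_eq_zero.1 hst).resolve_right hv0, ht⟩
    · exfalso
      have h1 := congrArg G hst
      rw [map_add, map_smul, map_smul, hw, hGG', map_zero] at h1
      by_cases hs : s = 0
      · rw [hs, zero_smul, zero_add] at h1
        exact hv 0 (by rw [(smul_eq_zero.1 h1).resolve_left ht, map_zero, smul_zero])
      · refine hv (-t / s) ?_
        rw [div_eq_inv_mul, mul_smul, neg_smul, ← eq_neg_of_add_eq_zero_left h1, inv_smul_smul₀ hs]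
  obtain ⟨p, hp1, hab⟩ : ∃ p : Dual F (Fin n → F), p v = 1 ∧ p (G v) * p w ≠ 1 := by
    by_cases h3 : LinearIndependent F ![v, w, G v]
    · obtain ⟨p, h1, h2, h3⟩ := exists_dual_three h3 1 0 0
      exact ⟨p, h1, by rw [h2, mul_zero]; exact zero_ne_one⟩
    · have hmem : G v ∈ Submodule.span F (Set.range ![v, w]) := by
        by_contra hn'
        apply h3
        have h1 := linearIndependent_fin_snoc.2 ⟨hvw, hn'⟩
        have e : (Fin.snoc ![v, w] (G v) : Fin 3 → (Fin n → F)) = ![v, w, G v] := by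
          funext i; fin_cases i <;> rfl
        rw [e] at h1
        exact h1
      rw [Matrix.range_cons, Matrix.range_cons, Matrix.range_empty, Set.union_empty, ← Set.insert_eq,
        Submodule.mem_span_pair] at hmem
      obtain ⟨α, β, hαβ⟩ := hmem
      have hβ : β ≠ 0 := fun h => hv α (by rw [← hαβ, h, zero_smul, add_zero])
      obtain ⟨b, hb⟩ : ∃ b : F, β * b ^ 2 + α * b - 1 ≠ 0 := by
        by_contra hall
        push Not at hall
        set P : Polynomial F := Polynomial.C β * Polynomial.X ^ 2 + Polynomial.C α * Polynomial.X - 1 with hP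
        have hP0 : P ≠ 0 := fun h => by
          have := congrArg (fun r => Polynomial.coeff r 2) h
          simp [hP, Polynomial.coeff_one] at this
          exact hβ this
        have hsub : (Finset.univ : Finset F).val ≤ P.roots := by
          rw [Multiset.le_iff_subset Finset.univ.nodup]
          intro z _
          rw [Polynomial.mem_roots hP0]
          simpa [hP] using hall z
        have h1 := (Multiset.card_le_card hsub).trans (Polynomial.card_roots' P)
        have h2 : P.natDegree ≤ 2 := by rw [hP]; compute_degree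
        simp only [Finset.card_val, Finset.card_univ] at h1
        omega
      obtain ⟨F', hF'⟩ := (Fintype.linearCombination F ![v, w]).exists_leftInverse_of_injective
        (LinearMap.ker_eq_bot.2 (linearIndependent_iff_injective_fintypeLinearCombination.1 hvw))
      let p : Dual F (Fin n → F) := (LinearMap.proj (0 : Fin 2) + b • LinearMap.proj (1 : Fin 2)) ∘ₗ F'
      have h1 : F' v = Pi.single 0 1 := by
        have := LinearMap.congr_fun hF' (Pi.single 0 1); simpa using this
      have h2 : F' w = Pi.single 1 1 := by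
        have := LinearMap.congr_fun hF' (Pi.single 1 1); simpa using this
      have hpv : p v = 1 := by simp [p, h1]
      have hpw : p w = b := by simp [p, h2]
      refine ⟨p, hpv, fun h => hb ?_⟩
      rw [← hαβ, map_add, map_smul, map_smul, hpv, hpw, smul_eq_mul, smul_eq_mul] at h
      linear_combination h
  set a := p (G v) with ha
  set b := p w with hb
  -- the functional for the class
  obtain ⟨f, hfa, hfμ, hfb, hfσ⟩ : ∃ f : Dual F (Fin n → F), f x₁ = a ∧ f (B x₁) = μ ∧ f (B (B x₁)) = μ * μ * b ∧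
      ∀ σ : F, ∃ x, f x = 0 ∧ f (B x) = 0 ∧ B x ≠ σ • x := by
    obtain ⟨f₀, h1, h2, h3⟩ := exists_dual_three hind a μ (μ * μ * b)
    -- at most one eigenspace is that large
    have key : ∀ f : Dual F (Fin n → F), f x₁ = a → f (B x₁) = μ → f (B (B x₁)) = μ * μ * b → ∀ σ : F,
        (∀ x, f x = 0 → f (B x) = 0 → B x = σ • x) →
        n ≤ finrank F (LinearMap.ker (shiftMap B σ)) + 2 ∧ ∀ x, B x = σ • x → f x = 0 := by
      intro f e1 e2 e3 σ hσ
      have hle : LinearMap.ker f ⊓ LinearMap.ker (f ∘ₗ B) ≤ LinearMap.ker (shiftMap B σ) := fun x hx => by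
        rw [LinearMap.mem_ker, shiftMap_apply, sub_eq_zero]
        exact hσ x hx.1 hx.2
      have hΔ : f x₁ * f (B (B x₁)) - f (B x₁) * f (B x₁) ≠ 0 := by
        rw [e1, e2, e3, show a * (μ * μ * b) - μ * μ = μ * μ * (a * b - 1) by ring]
        exact mul_ne_zero (mul_ne_zero hμ hμ) (sub_ne_zero.2 hab)
      have hsurj : Function.Surjective (f.prod (f ∘ₗ B)) := by
        rintro ⟨s, t⟩
        set D := f x₁ * f (B (B x₁)) - f (B x₁) * f (B x₁) with hD
        refine ⟨((s * f (B (B x₁)) - t * f (B x₁)) / D) • x₁ + ((t * f x₁ - s * f (B x₁)) / D) • B x₁, ?_⟩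
        refine Prod.ext ?_ ?_
        · show f _ = s
          simp only [map_add, map_smul, smul_eq_mul]; field_simp; rw [hD]; ring
        · show f (B _) = t
          simp only [map_add, map_smul, smul_eq_mul]; field_simp; rw [hD]; ring
      have hd := LinearMap.finrank_range_add_finrank_ker (f.prod (f ∘ₗ B))
      rw [LinearMap.range_eq_top.2 hsurj, finrank_top, finrank_prod, finrank_self, LinearMap.ker_prod,
        Module.finrank_fin_fun] at hd
      have hmono := Submodule.finrank_mono hle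
      refine ⟨by omega, fun x hx => ?_⟩
      have hlt : finrank F (LinearMap.ker (shiftMap B σ)) + 2 ≤ n := by
        have hr := finrank_ker_shift B σ
        rw [Module.finrank_fin_fun] at hr
        have hli : LinearIndependent F ![shiftMap B σ x₁, shiftMap B σ (B x₁)] := by
          rw [LinearIndependent.pair_iff]
          intro s t hst
          have hst' : (-(σ * s)) • x₁ + (s - σ * t) • B x₁ + t • B (B x₁) = 0 := by
            rw [← hst]; simp only [shiftMap_apply, neg_smul, sub_smul, smul_sub, mul_smul]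
            rw [smul_comm σ s, smul_comm σ t]
            abel
          have h3' := Fintype.linearIndependent_iff.1 hind ![-(σ * s), s - σ * t, t] (by
            simpa [Fin.sum_univ_three] using hst')
          have ht : t = 0 := by simpa using h3' 2
          have hs : s = 0 := by simpa [ht] using h3' 1
          exact ⟨hs, ht⟩
        have hsp : Submodule.span F (Set.range ![shiftMap B σ x₁, shiftMap B σ (B x₁)]) ≤
            LinearMap.range (shiftMap B σ) := by
          rw [Submodule.span_le, Set.range_subset_iff]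
          intro i; fin_cases i <;> exact LinearMap.mem_range_self _ _
        have := Submodule.finrank_mono hsp
        rw [finrank_span_eq_card hli, Fintype.card_fin] at this
        omega
      have heq := Submodule.eq_of_le_of_finrank_le hle (by omega)
      have hxm : x ∈ LinearMap.ker (shiftMap B σ) := by rw [LinearMap.mem_ker, shiftMap_apply, hx, sub_self]
      rw [← heq] at hxm
      exact hxm.1
    by_cases hcase : ∃ σ : F, ∀ x, f₀ x = 0 → f₀ (B x) = 0 → B x = σ • x
    · obtain ⟨σ₀, hσ₀⟩ := hcase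
      obtain ⟨hdim, -⟩ := key f₀ h1 h2 h3 σ₀ hσ₀
      obtain ⟨x₀, hx₀, hx₀'⟩ := exists_kernel_outside hind (show 2 ≤ finrank F (LinearMap.ker (shiftMap B σ₀)) by omega)
      obtain ⟨φ, hφ, hφ'⟩ := exists_dual_two (F := F) hx₀'
      refine ⟨f₀ + (1 - f₀ x₀) • φ, by simp [h1, hφ' x₁ (by simp)], by simp [h2, hφ' (B x₁) (by simp)],
        by simp [h3, hφ' (B (B x₁)) (by simp)], fun σ => ?_⟩
      by_contra hcon
      push Not at hcon
      obtain ⟨hdim', hzero⟩ := key _ (by simp [h1, hφ' x₁ (by simp)]) (by simp [h2, hφ' (B x₁) (by simp)])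
        (by simp [h3, hφ' (B (B x₁)) (by simp)]) σ hcon
      have hσ : σ = σ₀ := by
        by_contra hne
        have h4 := two_kernels B hne
        have hr := finrank_ker_shift B σ
        have hWd : finrank F (Submodule.span F (Set.range ![x₁, B x₁, B (B x₁)])) = 3 := by
          rw [finrank_span_eq_card hind, Fintype.card_fin]
        rw [Module.finrank_fin_fun] at h4 hr
        -- both eigenspaces would fill the space, making `B` quadratic
        have htop : LinearMap.ker (shiftMap B σ) ⊔ LinearMap.ker (shiftMap B σ₀) = ⊤ := by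
          apply Submodule.eq_top_of_finrank_eq
          have hdisj : LinearMap.ker (shiftMap B σ) ⊓ LinearMap.ker (shiftMap B σ₀) = ⊥ := by
            rw [eq_bot_iff]
            intro x hx
            have e1 := mem_ker_shift hx.1
            have e2 := mem_ker_shift hx.2
            rw [Submodule.mem_bot]
            by_contra hx0
            exact hne (smul_left_injective F hx0 (e1.symm.trans e2))
          have := Submodule.finrank_sup_add_finrank_inf_eq (LinearMap.ker (shiftMap B σ))
            (LinearMap.ker (shiftMap B σ₀))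
          rw [hdisj, finrank_bot] at this
          have := Submodule.finrank_le (LinearMap.ker (shiftMap B σ) ⊔ LinearMap.ker (shiftMap B σ₀))
          rw [Module.finrank_fin_fun] at this ⊢
          omega
        have hmem : x₁ ∈ LinearMap.ker (shiftMap B σ) ⊔ LinearMap.ker (shiftMap B σ₀) := by rw [htop]; trivial
        obtain ⟨y, hy, z, hz, hyz⟩ := Submodule.mem_sup.1 hmem
        have ey := mem_ker_shift hy
        have ez := mem_ker_shift hz
        have hrel : (σ * σ₀) • x₁ + (-(σ + σ₀)) • B x₁ + (1 : F) • B (B x₁) = 0 := by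
          rw [← hyz]
          simp only [map_add, ey, ez, map_smul, smul_add, smul_smul]
          module
        have h5 := Fintype.linearIndependent_iff.1 hind ![σ * σ₀, -(σ + σ₀), 1] (by
          simpa [Fin.sum_univ_three] using hrel)
        simpa using h5 2
      subst hσ
      have := hzero x₀ (mem_ker_shift hx₀)
      simp [hφ] at this
    · push Not at hcase
      exact ⟨f₀, h1, h2, h3, hcase⟩
  obtain ⟨Q, hQ₁, hQ₂, hQf, hQg⟩ := exists_equiv_two x₁ (B x₁) v (μ • w) f (μ⁻¹ • (f ∘ₗ B)) (p ∘ₗ G) p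
    (by show p (G v) = f x₁; rw [hfa])
    (by show p (G (μ • w)) = f (B x₁); rw [map_smul, hw, hGG', map_smul, hp1, hfμ, smul_eq_mul, mul_one])
    (by show p v = μ⁻¹ * f (B x₁); rw [hp1, hfμ, inv_mul_cancel₀ hμ])
    (by show p (μ • w) = μ⁻¹ * f (B (B x₁)); rw [map_smul, ← hb, hfb, smul_eq_mul]; field_simp)
    (by
      show f x₁ * (μ⁻¹ * f (B (B x₁))) - f (B x₁) * (μ⁻¹ * f (B x₁)) ≠ 0
      rw [hfa, hfμ, hfb, show a * (μ⁻¹ * (μ * μ * b)) - μ * (μ⁻¹ * μ) = μ * (a * b - 1) by field_simp]
      exact mul_ne_zero hμ (sub_ne_zero.2 hab))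
  set K' : Submodule F (Fin n → F) := LinearMap.ker (p ∘ₗ G) ⊓ LinearMap.ker p with hK'
  -- a choice with a non-scalar restriction
  obtain ⟨R, hR₁, hR₂, hRf, hRg, hns⟩ : ∃ R : (Fin n → F) ≃ₗ[F] (Fin n → F), R x₁ = v ∧ R (B x₁) = μ • w ∧
      (∀ x, p (G (R x)) = f x) ∧ (∀ x, p (R x) = μ⁻¹ * f (B x)) ∧
      ∀ c : F, ∃ x, p x = 0 ∧ G (R (B (R.symm x))) ≠ c • x := by
    by_contra hcon
    push Not at hcon
    obtain ⟨c, hc⟩ := hcon Q hQ₁ hQ₂ hQf hQg
    have hK'd : 2 ≤ finrank F K' := by
      have h1 := LinearMap.finrank_range_add_finrank_ker ((p ∘ₗ G).prod p)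
      rw [LinearMap.ker_prod, Module.finrank_fin_fun, ← hK'] at h1
      have h2 := Submodule.finrank_le (LinearMap.range ((p ∘ₗ G).prod p))
      rw [finrank_prod, finrank_self] at h2
      omega
    have hc0 : c ≠ 0 := by
      rintro rfl
      obtain ⟨x, hx, hx0⟩ := K'.exists_mem_ne_zero_of_ne_bot (fun h => by rw [h, finrank_bot] at hK'd; omega)
      have h1 := hc x hx.2
      rw [zero_smul] at h1
      apply hx0
      have h2 : Q (B (Q.symm x)) = 0 := by
        have := congrArg G' h1; rwa [hG'G, map_zero] at this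
      rw [LinearEquiv.map_eq_zero_iff] at h2
      have h3 : Q.symm x = 0 := by
        have := congrArg (Matrix.toLin' A) h2
        simpa [hB, Matrix.mulVec_mulVec, Matrix.mul_nonsing_inv _ hAu] using this
      exact (LinearEquiv.map_eq_zero_iff _).1 h3
    have hN : ∀ x, p x = 0 → Q (B (Q.symm x)) = c • G' x := fun x hx => by
      rw [← hG'G (Q (B (Q.symm x))), hc x hx, map_smul]
    -- conjugating the restriction
    have key : ∀ k ∈ K', k ≠ 0 → ∀ ψ : Dual F (Fin n → F), ψ v = 0 → ψ w = 0 → ψ k = 0 →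
        ∀ x ∈ K', ψ (G' x) • k = ψ x • G' k := by
      intro k hk hk0 ψ hψv hψw hψk x hx
      let R₀ : (Fin n → F) →ₗ[F] (Fin n → F) := LinearMap.id + ψ.smulRight k
      have hR₀ : ∀ y, R₀ y = y + ψ y • k := fun y => rfl
      let R : (Fin n → F) ≃ₗ[F] (Fin n → F) :=
        LinearEquiv.ofLinear R₀ (LinearMap.id - ψ.smulRight k)
          (LinearMap.ext fun y => by simp [R₀, hψk])
          (LinearMap.ext fun y => by simp [R₀, hψk])
      have hRy : ∀ y, R y = y + ψ y • k := fun y => rfl
      obtain ⟨c', hc'⟩ := hcon (Q.trans R) (by rw [LinearEquiv.trans_apply, hQ₁, hRy, hψv, zero_smul, add_zero])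
        (by rw [LinearEquiv.trans_apply, hQ₂, hRy, map_smul, hψw, smul_zero, zero_smul, add_zero])
        (fun y => by
          rw [LinearEquiv.trans_apply, hRy, map_add, map_add, map_smul, map_smul,
            show p (G k) = 0 from hk.1, smul_zero, add_zero]
          exact hQf y)
        (fun y => by
          rw [LinearEquiv.trans_apply, hRy, map_add, map_smul, show p k = 0 from hk.2, smul_zero, add_zero]
          exact hQg y)
      have hrel : ∀ y, p y = 0 → c • (G' y + ψ (G' y) • k) = c' • G' (y + ψ y • k) := by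
        intro y hy
        have hy' : p (y + ψ y • k) = 0 := by rw [map_add, hy, map_smul, show p k = 0 from hk.2, smul_zero, add_zero]
        have h1 := congrArg G' (hc' _ hy')
        rw [hG'G, LinearEquiv.trans_apply, LinearEquiv.trans_symm, LinearEquiv.trans_apply] at h1
        have h2 : R.symm (y + ψ y • k) = y := by rw [← hRy, R.symm_apply_apply]
        rw [h2, hN y hy, hRy, map_smul, smul_eq_mul, mul_smul, ← smul_add, map_smul] at h1
        exact h1
      have hcc : c' = c := by
        have h1 := hrel k hk.2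
        rw [hψk, zero_smul, add_zero] at h1
        have hGk : G' k ≠ 0 := fun h => hk0 (by rw [← hGG' k, h, map_zero])
        by_contra hne
        have h2 : (c' - c) • G' k = (c * ψ (G' k)) • k := by
          rw [sub_smul, ← h1, smul_add, mul_smul]; abel
        have h3 : G' k = ((c' - c)⁻¹ * (c * ψ (G' k))) • k := by
          rw [mul_smul, ← h2, inv_smul_smul₀ (sub_ne_zero.2 hne)]
        have h4 : ψ (G' k) = 0 := by
          have := congrArg ψ h3
          rw [map_smul, hψk, smul_zero] at this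
          exact this
        rw [h4, mul_zero, mul_zero, zero_smul] at h3
        exact hGk h3
      have h1 := hrel x hx.2
      rw [hcc, smul_right_inj hc0, map_add, map_smul] at h1
      exact add_left_cancel h1
    -- so the restriction of `g⁻¹` is scalar
    have hKvw : ∀ s t : F, s • v + t • w ∈ K' → s = 0 ∧ t = 0 := by
      intro s t hst
      obtain ⟨h1, h2⟩ := hst
      have h1' : p (G (s • v + t • w)) = 0 := h1
      have h2' : p (s • v + t • w) = 0 := h2
      rw [map_add, map_add, map_smul, map_smul, map_smul, map_smul, hw, hGG', hp1, ← ha] at h1'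
      rw [map_add, map_smul, map_smul, hp1, ← hb] at h2'
      simp only [smul_eq_mul, mul_one] at h1' h2'
      have ht : t * (1 - a * b) = 0 := by linear_combination h1' - a * h2'
      have ht0 : t = 0 := (mul_eq_zero.1 ht).resolve_right (fun h => hab (by linear_combination -h))
      exact ⟨by rw [ht0] at h2'; linear_combination h2', ht0⟩
    have hscal : ∀ k ∈ K', ∃ ν : F, G' k = ν • k := by
      intro k hk
      by_cases hk0 : k = 0
      · exact ⟨0, by rw [hk0, map_zero, smul_zero]⟩
      obtain ⟨x, hx, hxk⟩ : ∃ x ∈ K', x ∉ F ∙ k := by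
        by_contra hcon'
        push Not at hcon'
        have := Submodule.finrank_mono (show K' ≤ F ∙ k from hcon')
        rw [finrank_span_singleton hk0] at this
        omega
      obtain ⟨ψ, hψx, hψ'⟩ := exists_dual_two (F := F) (x := x) (s := {v, w, k}) (by
        intro hm
        rw [Submodule.mem_span_triple] at hm
        obtain ⟨s, t, r, he⟩ := hm
        obtain ⟨hs, ht⟩ := hKvw s t (by
          have : x - r • k ∈ K' := Submodule.sub_mem _ hx (Submodule.smul_mem _ _ hk)
          rwa [← he, add_sub_cancel_right] at this)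
        rw [hs, ht, zero_smul, zero_smul, zero_add, zero_add] at he
        exact hxk (Submodule.mem_span_singleton.2 ⟨r, he⟩))
      refine ⟨ψ (G' x), ?_⟩
      have := key k hk hk0 ψ (hψ' v (by simp)) (hψ' w (by simp)) (hψ' k (by simp)) x hx
      rw [this, hψx, one_smul]
    obtain ⟨ν, hν⟩ : ∃ ν : F, ∀ k ∈ K', G' k = ν • k := by
      obtain ⟨k₀, hk₀, hk₀0⟩ := K'.exists_mem_ne_zero_of_ne_bot (fun h => by rw [h, finrank_bot] at hK'd; omega)
      obtain ⟨ν, hν⟩ := hscal k₀ hk₀
      refine ⟨ν, fun k hk => ?_⟩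
      obtain ⟨ν', hν'⟩ := hscal k hk
      by_cases hkk : k ∈ F ∙ k₀
      · obtain ⟨r, rfl⟩ := Submodule.mem_span_singleton.1 hkk
        rw [map_smul, hν, smul_comm]
      · obtain ⟨d, hd⟩ := hscal (k + k₀) (Submodule.add_mem _ hk hk₀)
        rw [map_add, hν', hν, smul_add] at hd
        have h1 : (ν' - d) • k = (d - ν) • k₀ := by rw [sub_smul, sub_smul, sub_eq_sub_iff_add_eq_add]; exact hd.trans (add_comm _ _)
        have h2 : ν' = d := by
          by_contra hne
          exact hkk (Submodule.mem_span_singleton.2 ⟨(ν' - d)⁻¹ * (d - ν),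
            by rw [mul_smul, ← h1, inv_smul_smul₀ (sub_ne_zero.2 hne)]⟩)
        rw [h2, sub_self, zero_smul] at h1
        rw [hν', h2, sub_eq_zero.1 ((smul_eq_zero.1 h1.symm).resolve_right hk₀0)]
    obtain ⟨x, hfx, hfBx, hne⟩ := hfσ (c * ν)
    have hxK : Q x ∈ K' := ⟨show p (G (Q x)) = 0 by rw [show p (G (Q x)) = f x from hQf x, hfx],
      show p (Q x) = 0 by rw [show p (Q x) = μ⁻¹ * f (B x) from hQg x, hfBx, mul_zero]⟩
    have h1 := hN (Q x) hxK.2
    rw [Q.symm_apply_apply, hν _ hxK, smul_smul, ← map_smul] at h1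
    exact hne (Q.injective h1)
  -- the product
  set Bm : (Fin n → F) →ₗ[F] (Fin n → F) := R.toLinearMap ∘ₗ B ∘ₗ R.symm.toLinearMap with hBm
  set Yl := G ∘ₗ Bm with hYl
  have hYv : Yl v = μ • v := by
    simp only [hYl, hBm, LinearMap.comp_apply, LinearEquiv.coe_coe]
    rw [← hR₁, R.symm_apply_apply, hR₂, map_smul, hw, hGG', hR₁]
  have hYp : ∀ x, p (Yl x) = μ * p x := by
    intro x
    simp only [hYl, hBm, LinearMap.comp_apply, LinearEquiv.coe_coe]
    rw [hRf]
    conv_rhs => rw [← R.apply_symm_apply x, hRg, ← mul_assoc, mul_inv_cancel₀ hμ, one_mul]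
  obtain ⟨N, hN⟩ : ∃ N, finrank F (LinearMap.ker p) = N := ⟨_, rfl⟩
  let bK : Basis (Fin N) F (LinearMap.ker p) := Module.finBasisOfFinrankEq F _ hN
  have hmapK : ∀ x ∈ LinearMap.ker p, Yl x ∈ LinearMap.ker p := fun x hx => by
    rw [LinearMap.mem_ker] at hx ⊢; rw [hYp, hx, mul_zero]
  let Yk : LinearMap.ker p →ₗ[F] LinearMap.ker p := Yl.restrict hmapK
  have hNn : 1 + N = n := by
    have h1 := LinearMap.finrank_range_add_finrank_ker p
    rw [LinearMap.range_eq_top.2 (fun r => ⟨r • v, by rw [map_smul, hp1, smul_eq_mul, mul_one]⟩), finrank_top,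
      finrank_self, hN, Module.finrank_fin_fun] at h1
    exact h1
  set h := LinearMap.toMatrix bK bK Yk with hhdef
  let e : Fin 1 ⊕ Fin N ≃ Fin n := finSumFinEquiv.trans (finCongr hNn)
  let P : Matrix (Fin n) (Fin n) F := Matrix.of fun i j =>
    Sum.elim (fun _ => v i) (fun k => (bK k : Fin n → F) i) (e.symm j)
  have hPcol : ∀ j, P *ᵥ Pi.single j 1 = Sum.elim (fun _ => v) (fun k => (bK k : Fin n → F)) (e.symm j) := by
    intro j
    rw [Matrix.mulVec_single_one]
    funext i
    show P i j = _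
    simp only [P, Matrix.of_apply]
    rcases e.symm j with s | s <;> rfl
  set M := Matrix.reindex e e (Matrix.fromBlocks (Matrix.diagonal fun _ => μ) 0 0 h) with hM
  set Ym := LinearMap.toMatrix' Yl with hYm
  have hPM : P * M = Ym * P := by
    apply Matrix.toLin'.injective
    refine LinearMap.pi_ext' fun j => LinearMap.ext_ring ?_
    show (P * M) *ᵥ Pi.single j 1 = (Ym * P) *ᵥ Pi.single j 1
    rw [← Matrix.mulVec_mulVec, ← Matrix.mulVec_mulVec, hPcol, hYm, LinearMap.toMatrix'_mulVec]
    obtain ⟨s, rfl⟩ := e.surjective j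
    have hcol : M *ᵥ Pi.single (e s) 1 = fun i =>
        Matrix.fromBlocks (Matrix.diagonal fun _ => μ) 0 0 h (e.symm i) s := by
      rw [Matrix.mulVec_single_one]; funext i
      show M i (e s) = _
      simp [hM]
    rw [hcol, e.symm_apply_apply, Matrix.mulVec_eq_sum, ← Equiv.sum_comp e]
    simp only [e.symm_apply_apply, op_smul_eq_smul, Fintype.sum_sum_type]
    have hP' : ∀ t, (fun i => P i (e t)) = Sum.elim (fun _ => v) (fun k => (bK k : Fin n → F)) t := fun t => by
      funext i; simp only [P, Matrix.of_apply, e.symm_apply_apply]; cases t <;> rfl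
    simp only [show ∀ t, Pᵀ (e t) = Sum.elim (fun _ => v) (fun k => (bK k : Fin n → F)) t from hP']
    cases s with
    | inl s =>
      obtain rfl : s = 0 := Subsingleton.elim _ _
      simp [hYv]
    | inr s =>
      have hs : ((Yk (bK s) : LinearMap.ker p) : Fin n → F) = Yl (bK s) := rfl
      simp only [Sum.elim_inl, Sum.elim_inr, Matrix.fromBlocks_apply₁₂, Matrix.fromBlocks_apply₂₂, Matrix.zero_apply,
        zero_smul, Finset.sum_const_zero, zero_add]
      rw [← hs]
      have h1 := congrArg Subtype.val (bK.sum_repr (Yk (bK s)))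
      simp only [Submodule.coe_sum, SetLike.val_smul] at h1
      simpa [hhdef, LinearMap.toMatrix_apply] using h1
  have hPu : IsUnit P.det := by
    rw [isUnit_iff_ne_zero]
    intro h0
    obtain ⟨z, hz0, hz⟩ := Matrix.exists_mulVec_eq_zero_iff.2 h0
    apply hz0
    rw [Matrix.mulVec_eq_sum, ← Equiv.sum_comp e] at hz
    simp only [op_smul_eq_smul, Fintype.sum_sum_type] at hz
    have hcolP : ∀ t, Pᵀ (e t) = Sum.elim (fun _ => v) (fun k => (bK k : Fin n → F)) t := fun t => by
      funext i; simp only [Matrix.transpose_apply, P, Matrix.of_apply, e.symm_apply_apply]; cases t <;> rfl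
    simp only [hcolP, Sum.elim_inl, Sum.elim_inr, Fin.sum_univ_one] at hz
    have h1 := congrArg p hz
    rw [map_add, map_smul, hp1, map_sum, Finset.sum_eq_zero (fun k _ => by
      rw [map_smul, show p (bK k : Fin n → F) = 0 from (bK k).2, smul_zero]), add_zero, smul_eq_mul, mul_one,
      map_zero] at h1
    rw [h1, zero_smul, zero_add] at hz
    have h2 : ∑ k, z (e (Sum.inr k)) • bK k = 0 := Subtype.ext (by simpa [Submodule.coe_sum] using hz)
    funext j
    obtain ⟨t, rfl⟩ := e.surjective j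
    cases t with
    | inl t => obtain rfl : t = 0 := Subsingleton.elim _ _; exact h1
    | inr t => exact Fintype.linearIndependent_iff.1 bK.linearIndependent _ h2 t
  have hBmA : Sim A⁻¹ (LinearMap.toMatrix' Bm) := by
    refine ⟨LinearMap.toMatrix' R.toLinearMap, by rw [LinearMap.det_toMatrix']; exact LinearEquiv.isUnit_det' R, ?_⟩
    conv_lhs => arg 2; rw [← LinearMap.toMatrix'_toLin' A⁻¹]
    rw [← LinearMap.toMatrix'_comp, ← LinearMap.toMatrix'_comp]
    congr 1
    refine LinearMap.ext fun x => ?_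
    simp [hBm, hB]
  set Bmat := LinearMap.toMatrix' Bm with hBmat
  have hYeq : Ym = g * Bmat := by
    rw [hYm, hYl, LinearMap.toMatrix'_comp, hG, LinearMap.toMatrix'_toLin']
  have hBu : IsUnit Bmat.det := by
    rw [← hBmA.det_eq]; exact Matrix.isUnit_nonsing_inv_det _ hAu
  refine ⟨N, e, h, Ym, Bmat⁻¹, by rw [hYeq, Matrix.mul_nonsing_inv_cancel_right _ _ hBu], ?_, ?_,
    Sim.symm ⟨P, hPu, hPM⟩⟩
  · obtain ⟨S, hS, hSe⟩ := hBmA
    refine ⟨S, hS, ?_⟩
    calc S * A = Bmat⁻¹ * (Bmat * S) * A := by rw [Matrix.nonsing_inv_mul_cancel_left _ _ hBu]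
      _ = Bmat⁻¹ * S * (A⁻¹ * A) := by rw [← hSe]; simp only [Matrix.mul_assoc]
      _ = Bmat⁻¹ * S := by rw [Matrix.nonsing_inv_mul _ hAu, Matrix.mul_one]
  · intro σ hσ
    obtain ⟨x, hx, hne⟩ := hns σ
    apply hne
    have hk : Yk = σ • LinearMap.id := by
      apply (LinearMap.toMatrix bK bK).injective
      rw [map_smul, LinearMap.toMatrix_id]
      exact hσ
    have := congrArg Subtype.val (LinearMap.congr_fun hk ⟨x, hx⟩)
    simpa [Yk, hYl, hBm] using this

end H89.CN
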