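import Cfsg.Agent.H89.CN.Shape
import Cfsg.Agent.H89.CN.Step

/-!
Matrices with a scalar block and a block of size at least three.
-/

set_option autoImplicit false

namespace H89.CN

open Matrix Polynomial

variable {F : Type*} [Field F]

/-- The goal: up to a central factor every element of determinant one is a product of `n` conjugates. -/
def Covered {n : ℕ} (A : Matrix (Fin n) (Fin n) F) : Prop :=
  ∀ g : Matrix (Fin n) (Fin n) F, g.det = 1 → ∃ ζ : F, ζ ^ n = 1 ∧ ζ • g ∈ Prods (Cls A) n

lemma covered_of_all {n : ℕ} {A : Matrix (Fin n) (Fin n) F}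
    (h : ∀ g : Matrix (Fin n) (Fin n) F, g.det = 1 → g ∈ Prods (Cls A) n) : Covered A :=
  fun g hg => ⟨1, one_pow n, by rw [one_smul]; exact h g hg⟩

/-- It suffices to cover the non-scalar elements and one scalar. -/
lemma covered_of_ns {n : ℕ} {A : Matrix (Fin n) (Fin n) F}
    (h : ∀ g : Matrix (Fin n) (Fin n) F, g.det = 1 → NS g → g ∈ Prods (Cls A) n) {ζ₀ : F} (hζ : ζ₀ ^ n = 1)
    (h₀ : ζ₀ • (1 : Matrix (Fin n) (Fin n) F) ∈ Prods (Cls A) n) : Covered A := by
  intro g hg
  by_cases hns : NS g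
  · exact ⟨1, one_pow n, by rw [one_smul]; exact h g hg hns⟩
  · simp only [NS, not_forall, not_not] at hns
    obtain ⟨σ, rfl⟩ := hns
    have hσ : σ ^ n = 1 := by simpa [Matrix.det_smul] using hg
    rcases Nat.eq_zero_or_pos n with rfl | hn
    · exact ⟨1, one_pow _, by rw [one_smul]; exact (show σ • (1 : Matrix (Fin 0) (Fin 0) F) = 1 from Subsingleton.elim _ _)⟩
    have hσ0 : σ ≠ 0 := fun h0 => by rw [h0, zero_pow hn.ne'] at hσ; exact zero_ne_one hσ
    refine ⟨ζ₀ * σ⁻¹, by rw [mul_pow, inv_pow, hζ, hσ, inv_one, one_mul], ?_⟩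
    rw [smul_smul, mul_assoc, inv_mul_cancel₀ hσ0, mul_one]
    exact h₀

/-- A permutation of the coordinates is a similarity. -/
lemma sim_perm {n : ℕ} (σ : Equiv.Perm (Fin n)) (M : Matrix (Fin n) (Fin n) F) :
    Sim M (Matrix.reindex σ σ M) := by
  refine ⟨(1 : Matrix (Fin n) (Fin n) F).submatrix σ.symm id, ?_, ?_⟩
  · rw [Matrix.det_permute, Matrix.det_one, mul_one]
    have h := Int.units_eq_one_or (Equiv.Perm.sign σ.symm)
    rcases h with h | h <;> simp [h]
  · ext i j
    simp only [Matrix.mul_apply, Matrix.submatrix_apply, id, Matrix.one_apply, Matrix.reindex_apply, ite_mul,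
      one_mul, zero_mul, mul_ite, mul_one, mul_zero, Finset.sum_ite_eq, Finset.mem_univ, if_true]
    rw [Finset.sum_eq_single (σ j)]
    · simp
    · intro b _ hb
      rw [if_neg]
      intro h
      exact hb (by rw [← h]; simp)
    · simp

lemma sim_reindex_any {n : ℕ} {ι : Type*} [Fintype ι] [DecidableEq ι] (e e' : ι ≃ Fin n) (M : Matrix ι ι F) :
    Sim (Matrix.reindex e e M) (Matrix.reindex e' e' M) := by
  have h := sim_perm (e.symm.trans e') (Matrix.reindex e e M)
  convert h using 1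
  ext i j
  simp

/-- Products inside a block extend. -/
lemma prods_block {N n : ℕ} {A : Matrix (Fin n) (Fin n) F} {A₂ : Matrix (Fin N) (Fin N) F} {lam : F}
    (e : Fin 1 ⊕ Fin N ≃ Fin n)
    (hs : Sim A (Matrix.reindex e e (Matrix.fromBlocks (Matrix.diagonal fun _ => lam) 0 0 A₂))) :
    ∀ {k : ℕ} {h : Matrix (Fin N) (Fin N) F}, h ∈ Prods (Sc A₂) k →
      Matrix.reindex e e (Matrix.fromBlocks (Matrix.diagonal fun _ => lam ^ k) 0 0 h) ∈ Prods (Sc A) k
  | 0, h, hh => by
    rw [Set.mem_singleton_iff.1 hh]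
    refine Set.mem_singleton_iff.2 ?_
    simp
  | k + 1, h, ⟨X, hX, h', hh', he⟩ => by
    refine ⟨Matrix.reindex e e (Matrix.fromBlocks (Matrix.diagonal fun _ => lam) 0 0 X), ?_, _,
      prods_block e hs hh', ?_⟩
    · exact hs.trans (((Sim.refl _).blocks hX).reindex e)
    · simp only [Matrix.reindex_apply, Matrix.submatrix_mul_equiv, Matrix.fromBlocks_multiply]
      simp [he, pow_succ', Matrix.diagonal_mul_diagonal]

lemma li_map_three {V W : Type*} [AddCommGroup V] [Module F V] [AddCommGroup W] [Module F W] {a b c : V}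
    (h : LinearIndependent F ![a, b, c]) (L : V →ₗ[F] W) (hL : Function.Injective L) :
    LinearIndependent F ![L a, L b, L c] := by
  have := h.map' L (LinearMap.ker_eq_bot.2 hL)
  have e : (L ∘ ![a, b, c]) = ![L a, L b, L c] := by funext i; fin_cases i <;> rfl
  rwa [e] at this

/-- A block of size at least three gives three independent iterates. -/
lemma exists_three : ∀ (l : List F[X]) {n : ℕ} (A : Matrix (Fin n) (Fin n) F), Dec A l →
    (∃ f ∈ l, 3 ≤ f.natDegree) → ∃ u : Fin n → F, LinearIndependent F ![u, A *ᵥ u, A *ᵥ (A *ᵥ u)]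
  | [], n, A, _, ⟨f, hf, _⟩ => absurd hf (by simp)
  | g :: l, n, A, ⟨hg, hgd, N, e, A₂, hs, hdec⟩, ⟨f, hf, hf3⟩ => by
    classical
    -- transport along a similarity
    have move : ∀ {M : Matrix (Fin n) (Fin n) F} {u : Fin n → F}, Sim M A →
        LinearIndependent F ![u, M *ᵥ u, M *ᵥ (M *ᵥ u)] →
        ∃ u : Fin n → F, LinearIndependent F ![u, A *ᵥ u, A *ᵥ (A *ᵥ u)] := by
      rintro M u ⟨P, hP, he⟩ hu
      refine ⟨P *ᵥ u, ?_⟩
      have e1 : A *ᵥ (P *ᵥ u) = P *ᵥ (M *ᵥ u) := by rw [Matrix.mulVec_mulVec, ← he, ← Matrix.mulVec_mulVec]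
      have e2 : A *ᵥ (A *ᵥ (P *ᵥ u)) = P *ᵥ (M *ᵥ (M *ᵥ u)) := by
        rw [e1, Matrix.mulVec_mulVec, ← he, ← Matrix.mulVec_mulVec]
      rw [e2, e1]
      have hk : LinearMap.ker (Matrix.mulVecLin P) = ⊥ :=
        LinearMap.ker_eq_bot.2 (Matrix.mulVec_injective_of_isUnit ((Matrix.isUnit_iff_isUnit_det P).2 hP))
      exact li_map_three hu (Matrix.mulVecLin P) (LinearMap.ker_eq_bot.1 hk)
    have emb : ∀ (u : Fin g.natDegree ⊕ Fin N → F) (M : Matrix (Fin g.natDegree ⊕ Fin N) (Fin g.natDegree ⊕ Fin N) F),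
        LinearIndependent F ![u, M *ᵥ u, M *ᵥ (M *ᵥ u)] →
        LinearIndependent F ![u ∘ e.symm, Matrix.reindex e e M *ᵥ (u ∘ e.symm),
          Matrix.reindex e e M *ᵥ (Matrix.reindex e e M *ᵥ (u ∘ e.symm))] := by
      intro u M hu
      have e1 : ∀ w : Fin g.natDegree ⊕ Fin N → F, Matrix.reindex e e M *ᵥ (w ∘ e.symm) = (M *ᵥ w) ∘ e.symm := by
        intro w
        rw [Matrix.reindex_apply, Matrix.submatrix_mulVec_equiv]
        congr 1
        simp [Function.comp_def]
      rw [e1, e1]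
      exact li_map_three hu (LinearEquiv.funCongrLeft F F e.symm).toLinearMap
        (LinearEquiv.funCongrLeft F F e.symm).injective
    rcases List.mem_cons.1 hf with rfl | hf'
    · have h3 : LinearIndependent F
          ![(Pi.single ⟨0, by omega⟩ 1 : Fin f.natDegree → F), Pi.single ⟨1, by omega⟩ 1, Pi.single ⟨2, by omega⟩ 1] := by
        have := (Pi.basisFun F (Fin f.natDegree)).linearIndependent.comp
          ![(⟨0, by omega⟩ : Fin f.natDegree), ⟨1, by omega⟩, ⟨2, by omega⟩] (by
            intro a b; fin_cases a <;> fin_cases b <;> simp [Fin.ext_iff])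
        convert this using 1
        funext i; fin_cases i <;> simp [Pi.basisFun_apply]
      have hcol : ∀ (i : ℕ) (hi : i + 1 < f.natDegree),
          cComp f.natDegree f *ᵥ Pi.single (⟨i, by omega⟩ : Fin f.natDegree) 1 = Pi.single ⟨i + 1, hi⟩ 1 := by
        intro i hi
        rw [Matrix.mulVec_single_one]
        funext j
        simp [cComp, rComp, hi, Pi.single_apply, Fin.ext_iff]
      have hblock : LinearIndependent F ![(Sum.elim (Pi.single ⟨0, by omega⟩ 1) 0 : Fin f.natDegree ⊕ Fin N → F),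
          Matrix.fromBlocks (cComp f.natDegree f) 0 0 A₂ *ᵥ Sum.elim (Pi.single ⟨0, by omega⟩ 1) 0,
          Matrix.fromBlocks (cComp f.natDegree f) 0 0 A₂ *ᵥ
            (Matrix.fromBlocks (cComp f.natDegree f) 0 0 A₂ *ᵥ Sum.elim (Pi.single ⟨0, by omega⟩ 1) 0)] := by
        have e1 : ∀ w : Fin f.natDegree → F, Matrix.fromBlocks (cComp f.natDegree f) 0 0 A₂ *ᵥ Sum.elim w 0 =
            Sum.elim (cComp f.natDegree f *ᵥ w) 0 := fun w => by
          rw [Matrix.fromBlocks_mulVec]; simp
        rw [e1, e1, hcol 0 (by omega), hcol 1 (by omega)]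
        let L : (Fin f.natDegree → F) →ₗ[F] (Fin f.natDegree ⊕ Fin N → F) :=
          { toFun := fun w => Sum.elim w 0
            map_add' := fun a b => by funext x; cases x <;> simp
            map_smul' := fun c a => by funext x; cases x <;> simp }
        exact li_map_three h3 L fun a b hab => funext fun i => congrFun hab (Sum.inl i)
      refine move (Sim.symm ?_) (emb _ _ hblock)
      exact hs.trans ((((sim_cComp (by omega) hg rfl).symm).blocks (Sim.refl A₂)).reindex e)
    · obtain ⟨u, hu⟩ := exists_three l A₂ hdec ⟨f, hf', hf3⟩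
      refine move hs.symm (emb (Sum.elim (0 : Fin g.natDegree → F) u) _ ?_)
      have e1 : ∀ w : Fin N → F, Matrix.fromBlocks (rComp g.natDegree g) 0 0 A₂ *ᵥ
          Sum.elim (0 : Fin g.natDegree → F) w = Sum.elim (0 : Fin g.natDegree → F) (A₂ *ᵥ w) := fun w => by
        rw [Matrix.fromBlocks_mulVec]; simp
      rw [e1, e1]
      let L : (Fin N → F) →ₗ[F] (Fin g.natDegree ⊕ Fin N → F) :=
        { toFun := fun w => Sum.elim (0 : Fin g.natDegree → F) w
          map_add' := fun a b => by funext x; cases x <;> simp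
          map_smul' := fun c a => by funext x; cases x <;> simp }
      exact li_map_three hu L fun a b hab => funext fun i => congrFun hab (Sum.inr i)

lemma msOf_head {N : ℕ} (a : F) (β : Fin N → F) :
    msOf (Fin.cons a β : Fin (N + 1) → F) = a ::ₘ msOf β := by
  simp [msOf, Fin.univ_val_map, List.ofFn_succ]

lemma grouped_head {N : ℕ} (a c : F) : Grouped (Fin.cons a (fun _ => c) : Fin (N + 1) → F) := by
  intro i j l hij hjl h
  obtain ⟨j', rfl⟩ := Fin.eq_succ_of_ne_zero (show j ≠ 0 from fun h0 => by rw [h0] at hij; exact Fin.not_lt_zero _ hij)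
  obtain ⟨l', rfl⟩ := Fin.eq_succ_of_ne_zero (show l ≠ 0 from fun h0 => by rw [h0] at hjl; exact Fin.not_lt_zero _ hjl)
  simp only [Fin.cons_succ] at h ⊢
  exact h.symm

lemma eq_of_msOf {n : ℕ} {M : Matrix (Fin n) (Fin n) F} {β γ : Fin n → F} (hs : SplitBy M β)
    (h : msOf γ = msOf β) : SplitBy M γ := by
  rw [SplitBy, hs, Finset.prod_eq_multiset_prod, Finset.prod_eq_multiset_prod]
  have := congrArg (fun s => (Multiset.map (fun a => Polynomial.X - Polynomial.C a) s).prod) h
  simpa [msOf, Multiset.map_map, Function.comp_def] using this.symm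

section Rec

variable [Fintype F]

lemma shape_dim {n t : ℕ} {A : Matrix (Fin n) (Fin n) F} {lam : F} {l : List F[X]} (h : Shape A t lam l) :
    n = t + (l.map Polynomial.natDegree).sum := by
  have := Dec.dim _ h.1
  simpa [List.map_replicate] using this

lemma last_big {t n : ℕ} {A : Matrix (Fin n) (Fin n) F} {lam : F} {l : List F[X]} (h : Shape A t lam l)
    (hbig : ∃ f ∈ l, 3 ≤ f.natDegree) : ∃ f, l.getLast? = some f ∧ 3 ≤ f.natDegree := by
  obtain ⟨-, hl, hp, -, hne⟩ := h
  obtain ⟨f, hf, hf3⟩ := hbig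
  refine ⟨l.getLast hne, List.getLast?_eq_some_getLast hne, ?_⟩
  have hd : l.dropLast ++ [l.getLast hne] = l := List.dropLast_append_getLast hne
  rw [← hd] at hp hf
  rcases List.mem_append.1 hf with hf' | hf'
  · have := natDegree_le_of_dvd ((List.pairwise_append.1 hp).2.2 f hf' _ List.mem_cons_self)
      (hl _ (List.getLast_mem hne)).1.ne_zero
    omega
  · rw [← List.mem_singleton.1 hf']; exact hf3

lemma ns_of_shape {n t : ℕ} {A : Matrix (Fin n) (Fin n) F} {lam : F} {l : List F[X]} (h : Shape A t lam l)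
    (hbig : ∃ f ∈ l, 3 ≤ f.natDegree) : NS A := by
  obtain ⟨u, hu⟩ := exists_three _ A h.1 (by
    obtain ⟨f, hf, hf3⟩ := hbig
    exact ⟨f, List.mem_append_right _ hf, hf3⟩)
  intro σ hσ
  have e : A *ᵥ u = σ • u := by rw [hσ]; simp [Matrix.smul_mulVec]
  have := Fintype.linearIndependent_iff.1 hu ![σ, -1, 0] (by simp [Fin.sum_univ_three, e])
  simpa using this 1

/-- A parameter for every block. -/
lemma exists_param (hq : 4 ≤ Fintype.card F) {c : F} (hc : c ≠ 0) (a : F) :
    ∃ φ : F[X] → F, ∀ f : F[X], f.Monic → 2 ≤ f.natDegree → f.coeff 0 ≠ 0 →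
      Valid (f, φ f) ∧ (f.natDegree = 2 → φ f ≠ a) ∧ (3 ≤ f.natDegree → φ f = c) := by
  classical
  have key : ∀ d : F, ∃ w : F, w ≠ 0 ∧ w ≠ a ∧ w ^ 2 ≠ d ^ 2 := by
    intro d
    by_contra hcon
    push Not at hcon
    have hcard := Fintype.card_le_of_injective (fun z : F => z) (fun _ _ h => h)
    by_cases h2 : (2 : F) = 0
    · have hsub : (Finset.univ : Finset F) ⊆ {0, a, d} := by
        intro z _
        simp only [Finset.mem_insert, Finset.mem_singleton]
        by_cases hz : z = 0
        · exact Or.inl hz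
        by_cases hza : z = a
        · exact Or.inr (Or.inl hza)
        have h := hcon z hz hza
        have : (z - d) ^ 2 = 0 := by linear_combination h + (d ^ 2 - z * d) * h2
        exact Or.inr (Or.inr (sub_eq_zero.1 (pow_eq_zero_iff (n := 2) (by omega) |>.1 this)))
      have := (Finset.card_le_card hsub).trans Finset.card_le_three
      rw [Finset.card_univ] at this; omega
    · have h5 : 5 ≤ Fintype.card F := by
        by_contra h5
        obtain ⟨p, m, hp, hm⟩ : ∃ p m : ℕ, p.Prime ∧ Fintype.card F = p ^ (m : ℕ) := by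
          obtain ⟨p, _⟩ := CharP.exists F
          obtain ⟨m, hp, hm⟩ := FiniteField.card F p
          exact ⟨p, m, hp, hm⟩
        have hq4 : Fintype.card F = 4 := by omega
        have hF : (4 : F) = 0 := by exact_mod_cast hq4 ▸ FiniteField.cast_card_eq_zero F
        exact h2 (pow_eq_zero_iff (n := 2) (by omega) |>.1 (by linear_combination hF))
      have hsub : (Finset.univ : Finset F) ⊆ {0, a, d, -d} := by
        intro z _
        simp only [Finset.mem_insert, Finset.mem_singleton]
        by_cases hz : z = 0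
        · exact Or.inl hz
        by_cases hza : z = a
        · exact Or.inr (Or.inl hza)
        have h := hcon z hz hza
        rcases eq_or_eq_neg_of_sq_eq_sq z d h with h | h
        · exact Or.inr (Or.inr (Or.inl h))
        · exact Or.inr (Or.inr (Or.inr h))
      have := (Finset.card_le_card hsub).trans Finset.card_le_four
      rw [Finset.card_univ] at this; omega
  choose w hw0 hwa hwd using key
  refine ⟨fun f => if f.natDegree = 2 then w (f.coeff 0) else c, fun f hf hf2 hf0 => ⟨⟨hf, hf2, hf0, ?_, ?_⟩, ?_, ?_⟩⟩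
  · show (if f.natDegree = 2 then w (f.coeff 0) else c) ≠ 0
    split_ifs
    exacts [hw0 _, hc]
  · intro h2
    simp only at h2 ⊢
    rw [if_pos h2]
    exact Or.inl (hwd _)
  · intro h2; simp only [if_pos h2]; exact hwa _
  · intro h3; simp only; rw [if_neg (by omega)]

lemma prod_bd_ne {ps : List (F[X] × F)} (h : ∀ p ∈ ps, Valid p) : (ps.map bd).prod ≠ 0 := by
  refine List.prod_ne_zero fun h0 => ?_
  obtain ⟨p, hp, he⟩ := List.mem_map.1 h0
  exact div_ne_zero (pow_ne_zero _ (by simp)) (pow_ne_zero _ (h p hp).2.2.2.1) he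

/-- The element of the square, for given parameters. -/
lemma exists_elem (hq : 4 ≤ Fintype.card F) {n t : ℕ} {A : Matrix (Fin n) (Fin n) F} {lam c : F} {l : List F[X]}
    (h : Shape A t lam l) (hc : c ≠ 0) (ht : t ≤ 1 ∨ (t = 2 ∧ c = lam * lam ∧ ∃ f ∈ l, 3 ≤ f.natDegree)) :
    ∃ (T : Matrix (Fin n) (Fin n) F) (β : Fin n → F), Cyc T ∧ SplitBy T β ∧ (∀ i, β i ≠ 0) ∧ T.det = A.det ^ 2 ∧
      Full (Prods (Sc A) 2) T ∧
      ∀ f, l = [f] → 3 ≤ f.natDegree → msOf β = Multiset.replicate t (lam * lam) + blockVals (f, c) := by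
  obtain ⟨φ, hφ⟩ := exists_param hq hc (lam * lam)
  have hl := h.2.1
  have hv : ∀ f ∈ l, Valid (f, φ f) := fun f hf => (hφ f (hl f hf).1 (hl f hf).2.1 (hl f hf).2.2).1
  obtain ⟨β, hβ, hms, hG⟩ := exists_good (by omega) h φ hv
    (fun _ f hf h2 => Or.inr ((hφ f (hl f hf).1 (hl f hf).2.1 (hl f hf).2.2).2.1 h2)) (by
      rcases ht with ht | ⟨ht, hcl, hbig⟩
      · exact Or.inl ht
      · obtain ⟨f, hf, hf3⟩ := last_big h hbig
        have hmem := List.mem_of_getLast? hf
        exact Or.inr ⟨ht, f, hf, hf3, by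
          rw [(hφ f (hl f hmem).1 (hl f hmem).2.1 (hl f hmem).2.2).2.2 hf3, hcl]⟩)
  obtain ⟨T, hT, hs, hd, hm, -⟩ := hG.elem (prod_bd_ne fun p hp => by
    obtain ⟨f, hf, rfl⟩ := List.mem_map.1 hp; exact hv f hf) hβ
  refine ⟨T, β, hT, hs, hβ, hd, full_sc hm, fun f hlf hf3 => ?_⟩
  subst hlf
  rw [hms, List.map_singleton, (hφ f (hl f (by simp)).1 (hl f (by simp)).2.1 (hl f (by simp)).2.2).2.2 hf3]
  simp [listVals]

/-- A diagonal with one exception. -/
lemma cover_const (hq : 4 ≤ Fintype.card F) {n : ℕ} (hn : 4 ≤ n) {A T : Matrix (Fin n) (Fin n) F}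
    {S : Set (Matrix (Fin n) (Fin n) F)} (hS : Cls A ⊆ S) (hdS : ∀ X ∈ S, X.det = A.det) (hA : NS A)
    (hA0 : A.det ≠ 0) {β : Fin n → F} (hT : Cyc T) (hs : SplitBy T β) (hβ : ∀ i, β i ≠ 0) (hd : T.det = A.det ^ 2)
    (hF : Full (Prods S 2) T) {b c : F} (hms : msOf β = b ::ₘ Multiset.replicate (n - 1) c) {k : ℕ} (hk : 4 ≤ k)
    {g : Matrix (Fin n) (Fin n) F} (hg : g.det = A.det ^ k) (hns : NS g ∨ 4 < k) : g ∈ Prods S k := by
  obtain ⟨m, rfl⟩ : ∃ m, n = m + 2 := ⟨n - 2, by omega⟩
  let β' : Fin (m + 2) → F := Fin.cons b fun _ => c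
  have hms' : msOf β' = msOf β := by
    rw [hms, msOf_head]
    congr 1
    simp [msOf, Fin.univ_val_map, List.ofFn_const]
  have hβ' : ∀ i, β' i ≠ 0 := fun i => by
    obtain ⟨j, hj⟩ := (msOf_mem β _).1 (hms' ▸ (msOf_mem β' _).2 ⟨i, rfl⟩)
    rw [← hj]; exact hβ j
  refine cover_four hq (by omega) hS hdS hA hA0 hT (eq_of_msOf hs hms') (grouped_head b c) (grouped_head b c) rfl
    hβ' (μ := c * c) (fun i => by simp [β']) hd hF (show 2 * 2 ≤ k by omega) hg ?_
  rcases hns with h | h
  exacts [Or.inl h, Or.inr (Or.inl h)]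

/-- **Two or more scalar blocks**: the recursion. -/
theorem gl_rec (hq : 4 ≤ Fintype.card F) : ∀ (t : ℕ), 2 ≤ t → ∀ {n : ℕ} (A : Matrix (Fin n) (Fin n) F) {lam : F}
    {l : List F[X]}, Shape A t lam l → A.det ≠ 0 → (∃ f ∈ l, 3 ≤ f.natDegree) → ∀ {k : ℕ}, n ≤ k + 1 →
    ∀ g : Matrix (Fin n) (Fin n) F, g.det = A.det ^ k → NS g → g ∈ Prods (Sc A) k := by
  intro t
  induction t with
  | zero => omega
  | succ t ih =>
    intro ht n A lam l hsh hA0 hbig k hk g hg hns
    have hdim := shape_dim hsh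
    have hA := ns_of_shape hsh hbig
    obtain ⟨f, hlast, hf3⟩ := last_big hsh hbig
    have hfmem := List.mem_of_getLast? hlast
    have hsum : 3 ≤ (l.map Polynomial.natDegree).sum :=
      hf3.trans (List.le_sum_of_mem (List.mem_map.2 ⟨f, hfmem, rfl⟩))
    by_cases ht2 : t + 1 = 2
    · have hlam := (hsh.2.2.2.1 (by omega)).1
      obtain ⟨T, β, hT, hs, hβ, hd, hF, hsingle⟩ :=
        exists_elem hq (c := lam * lam) hsh (mul_ne_zero hlam hlam) (Or.inr ⟨ht2, rfl, hbig⟩)
      by_cases h6 : 6 ≤ k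
      · exact cover_six hq (by omega) (cls_subset_sc A) (fun X hX => sc_det hX) hA hA0 hT hs hβ hd hF (by omega) hg
      · have hp : (l.map Polynomial.natDegree).sum ≤ 4 := by omega
        obtain ⟨f', rfl⟩ : ∃ f', l = [f'] := by
          match l, hsh with
          | [f'], _ => exact ⟨f', rfl⟩
          | [], hsh => exact absurd rfl hsh.2.2.2.2
          | f₁ :: f₂ :: l', hsh =>
            exfalso
            simp only [List.map_cons, List.sum_cons] at hp
            have h1 := (hsh.2.1 f₁ (by simp)).2.1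
            have h2 := (hsh.2.1 f₂ (by simp)).2.1
            obtain ⟨f'', hf'', hf''3⟩ := hbig
            rcases List.mem_cons.1 hf'' with rfl | h
            · omega
            rcases List.mem_cons.1 h with rfl | h
            · omega
            · have := List.le_sum_of_mem (List.mem_map.2 ⟨f'', h, rfl⟩ :
                f''.natDegree ∈ l'.map Polynomial.natDegree)
              omega
        obtain rfl : f = f' := by simpa [eq_comm] using hlast
        simp only [List.map_singleton, List.sum_singleton] at hdim hp hsum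
        have hms := hsingle f rfl hf3
        refine cover_const hq (by omega) (cls_subset_sc A) (fun X hX => sc_det hX) hA hA0 hT hs hβ hd hF
          (b := bv (f, lam * lam)) (c := lam * lam) ?_ (by omega) hg (Or.inl hns)
        rw [hms, ht2, blockVals, Multiset.add_cons, ← Multiset.replicate_add]
        congr 2
        simp only
        omega
    · have hdec : Dec A ((X - C lam) :: (List.replicate t (X - C lam) ++ l)) := by
        have := hsh.1
        rwa [List.replicate_succ, List.cons_append] at this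
      obtain ⟨N, e, A₂, hs₂, hdec₂⟩ := dec_head hdec
      have hlam := hsh.2.2.2.1 (by omega)
      have hsh₂ : Shape A₂ t lam l := ⟨hdec₂, hsh.2.1, hsh.2.2.1, fun _ => hlam, hsh.2.2.2.2⟩
      have hdA : A.det = lam * A₂.det := by
        rw [hs₂.det_eq, Matrix.det_reindex_self, Matrix.det_fromBlocks_zero₁₂, Matrix.det_diagonal]
        simp
      obtain ⟨u, hu⟩ := exists_three _ A hsh.1 ⟨f, List.mem_append_right _ hfmem, hf3⟩
      have hg0 : g.det ≠ 0 := by rw [hg]; exact pow_ne_zero _ hA0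
      obtain ⟨k', rfl⟩ : ∃ k', k = k' + 1 := ⟨k - 1, by omega⟩
      obtain ⟨N', e', h, Y, X, hgYX, hX, hh, hY⟩ :=
        exists_split (by omega) (show 4 ≤ n by omega) hA0 hg0 hns hu (pow_ne_zero k' hlam.1)
      have hNN : N' = N := by
        have h1 := Fintype.card_congr e
        have h2 := Fintype.card_congr e'
        simp at h1 h2
        omega
      subst hNN
      have hYd : Y.det = A.det ^ k' := by
        have := congrArg Matrix.det hgYX
        rw [Matrix.det_mul, hg, sc_det hX, pow_succ] at this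
        exact (mul_right_cancel₀ hA0 this).symm
      have hhd : h.det = A₂.det ^ k' := by
        have := hY.det_eq
        rw [hYd, hdA, mul_pow, Matrix.det_reindex_self, Matrix.det_fromBlocks_zero₁₂, Matrix.det_diagonal] at this
        simp at this
        exact (mul_left_cancel₀ (pow_ne_zero k' hlam.1) (by simpa [mul_comm] using this)).symm
      have hA₂0 : A₂.det ≠ 0 := right_ne_zero_of_mul (hdA ▸ hA0)
      have hN' : 1 + N' = n := by simpa using Fintype.card_congr e
      have hmem := ih (by omega) A₂ hsh₂ hA₂0 hbig (k := k') (by omega) h hhd hh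
      have hblock := prods_block e hs₂ hmem
      have hYmem : Y ∈ Prods (Sc A) k' :=
        full_sc hblock Y ((sim_reindex_any e e' _).trans hY.symm)
      rw [hgYX]
      exact prods_mul hYmem (prods_one hX)

/-- **The classes with a scalar block and a block of size at least three.** -/
theorem covered_gl_big (hq : 4 ≤ Fintype.card F) {n t : ℕ} {A : Matrix (Fin n) (Fin n) F} {lam : F} {l : List F[X]}
    (hsh : Shape A t lam l) (hdA : A.det = 1) (hD : Sc A = Cls A) (ht : 1 ≤ t)
    (hbig : ∃ f ∈ l, 3 ≤ f.natDegree) : Covered A := by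
  have hdim := shape_dim hsh
  have hA := ns_of_shape hsh hbig
  have hA0 : A.det ≠ 0 := by rw [hdA]; exact one_ne_zero
  obtain ⟨f, hlast, hf3⟩ := last_big hsh hbig
  have hfmem := List.mem_of_getLast? hlast
  have hsum : 3 ≤ (l.map Polynomial.natDegree).sum :=
    hf3.trans (List.le_sum_of_mem (List.mem_map.2 ⟨f, hfmem, rfl⟩))
  have hlam := (hsh.2.2.2.1 (by omega)).1
  rcases (show 2 ≤ t ∨ t = 1 by omega) with ht2 | ht1
  · refine covered_of_all fun g hg => ?_
    rw [← hD]
    obtain ⟨j, rfl⟩ : ∃ j, n = j + 1 := ⟨n - 1, by omega⟩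
    exact cover_succ (by omega) (cls_subset_sc A) (fun X hX => sc_det hX) hA hA0
      (fun g' hg' hns' => gl_rec hq t ht2 A hsh hA0 hbig (by omega) g' hg' hns') (by rw [hg, hdA, one_pow])
  subst ht1
  by_cases h6 : 6 ≤ n
  · obtain ⟨T, β, hT, hs, hβ, hd, hF, -⟩ := exists_elem hq hsh (one_ne_zero) (Or.inl le_rfl)
    refine covered_of_all fun g hg => ?_
    rw [← hD]
    exact cover_six hq (by omega) (cls_subset_sc A) (fun X hX => sc_det hX) hA hA0 hT hs hβ hd hF (by omega)
      (by rw [hg, hdA, one_pow])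
  obtain ⟨f', rfl⟩ : ∃ f', l = [f'] := by
    match l, hsh with
    | [f'], _ => exact ⟨f', rfl⟩
    | [], hsh => exact absurd rfl hsh.2.2.2.2
    | f₁ :: f₂ :: l', hsh =>
      exfalso
      simp only [List.map_cons, List.sum_cons] at hdim
      have h1 := (hsh.2.1 f₁ (by simp)).2.1
      have h2 := (hsh.2.1 f₂ (by simp)).2.1
      obtain ⟨f'', hf'', hf''3⟩ := hbig
      rcases List.mem_cons.1 hf'' with rfl | h
      · omega
      rcases List.mem_cons.1 h with rfl | h
      · omega
      · have := List.le_sum_of_mem (List.mem_map.2 ⟨f'', h, rfl⟩ :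
          f''.natDegree ∈ l'.map Polynomial.natDegree)
        omega
  obtain rfl : f = f' := by simpa [eq_comm] using hlast
  simp only [List.map_singleton, List.sum_singleton] at hdim hsum
  by_cases h5 : n = 5
  · obtain ⟨T, β, hT, hs, hβ, hd, hF, hsingle⟩ := exists_elem hq hsh (mul_ne_zero hlam hlam) (Or.inl le_rfl)
    refine covered_of_all fun g hg => ?_
    rw [← hD]
    refine cover_const hq (by omega) (cls_subset_sc A) (fun X hX => sc_det hX) hA hA0 hT hs hβ hd hF
      (b := bv (f, lam * lam)) (c := lam * lam) ?_ (by omega) (by rw [hg, hdA, one_pow]) (Or.inr (by omega))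
    rw [hsingle f rfl hf3, blockVals, Multiset.add_cons, ← Multiset.replicate_add]
    congr 2
    simp only
    omega
  obtain rfl : n = 4 := by omega
  obtain ⟨T, β, hT, hs, hβ, hd, hF, hsingle⟩ := exists_elem hq hsh one_ne_zero (Or.inl le_rfl)
  have hfd : f.natDegree = 3 := by omega
  set s := lam * lam with hsdef
  have hdec : Dec A ((Polynomial.X - Polynomial.C lam) :: [f]) := by
    have := hsh.1
    simpa using this
  obtain ⟨N, e, A₂, hsA, hm₂⟩ := dec_head hdec
  have hbv : bv (f, (1 : F)) = s⁻¹ := by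
    obtain ⟨hfm, -, N', e', A₃, hsA₂, hA₃⟩ := hm₂
    have hA₃' : N' = 0 := hA₃
    have h1 : A.det = lam * (rComp f.natDegree f).det := by
      rw [hsA.det_eq, Matrix.det_reindex_self, Matrix.det_fromBlocks_zero₁₂, Matrix.det_diagonal, hsA₂.det_eq,
        Matrix.det_reindex_self, Matrix.det_fromBlocks_zero₁₂]
      subst hA₃'
      simp
    rw [hdA, Matrix.det_eq_sign_charpoly_coeff, (cyc_rComp hfm rfl).2, Fintype.card_fin, hfd] at h1
    rw [bv, hfd, hsdef, one_pow, div_one]
    show ((-1 : F) ^ 3 * f.coeff 0) ^ 2 = (lam * lam)⁻¹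
    rw [eq_inv_of_mul_eq_one_right h1.symm, mul_inv, sq]
  have hms : msOf β = s ::ₘ s⁻¹ ::ₘ Multiset.replicate 2 (1 : F) := by
    rw [hsingle f rfl hf3, blockVals, hbv, hfd]
    simp [Multiset.replicate_succ]
    rw [Multiset.cons_swap (1 : F) s, Multiset.cons_swap s⁻¹ s]
  let β' : Fin (2 + 2) → F := ![1, 1, s, s⁻¹]
  let γ' : Fin (2 + 2) → F := ![1, 1, s⁻¹, s]
  have hs0 : s ≠ 0 := mul_ne_zero hlam hlam
  have hmβ : msOf β' = msOf β := by
    rw [hms]
    simp only [Multiset.replicate_succ, Multiset.replicate_zero]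
    simp [msOf, β', Fin.univ_val_map, List.ofFn_succ]
    exact Multiset.coe_eq_coe.2 (List.perm_append_comm (l₁ := [(1 : F), 1]) (l₂ := [s, s⁻¹]))
  have hgr : ∀ x y : F, x * y = 1 → Grouped (![1, 1, x, y] : Fin 4 → F) := by
    intro x y hxy i j l hij hjl h
    fin_cases i <;> fin_cases j <;> fin_cases l <;> simp at * <;> (try subst h) <;> simp_all
  have hmγ : msOf γ' = msOf β' := by
    simp [msOf, β', γ', Fin.univ_val_map, List.ofFn_succ]
    exact List.Perm.swap _ _ _
  have hβ'0 : ∀ i, β' i ≠ 0 := fun i => by fin_cases i <;> simp [β', hs0]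
  have hsplit : SplitBy T β' := eq_of_msOf hs hmβ
  have hmain : ∀ g : Matrix (Fin 4) (Fin 4) F, g.det = 1 → (NS g ∨ g = (1 : F) • 1) → g ∈ Prods (Cls A) 4 := by
    intro g hg h
    rw [← hD]
    refine cover_four hq (m := 2) le_rfl (cls_subset_sc A) (fun X hX => sc_det hX) hA hA0 hT hsplit
      (hgr s s⁻¹ (mul_inv_cancel₀ hs0)) (hgr s⁻¹ s (inv_mul_cancel₀ hs0)) hmγ hβ'0 (μ := (1 : F))
      (fun i => by fin_cases i <;> simp [β', γ', hs0]) hd hF (show 2 * 2 ≤ 4 by omega) (by rw [hg, hdA, one_pow]) ?_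
    rcases h with h | h
    exacts [Or.inl h, Or.inr (Or.inr h)]
  exact covered_of_ns (fun g hg hns => hmain g hg (Or.inl hns)) (one_pow 4)
    (hmain _ (by simp) (Or.inr rfl))

end Rec

end H89.CN
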