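import Cfsg.Agent.H89.CN.Cov

/-!
Every invertible matrix can be multiplied into a cyclic matrix by a member of a given split cyclic class.
-/

set_option autoImplicit false

namespace H89.CN

open Matrix Polynomial Module

variable {F : Type*} [Field F]

lemma RU.splitBy_left {ι : Type*} [Fintype ι] [DecidableEq ι] {M : Matrix ι ι F} {β : ι → F} (h : SplitBy M β)
    (i : ι) : ∃ l : ι → F, l ≠ 0 ∧ l ᵥ* M = β i • l := by
  have h' : SplitBy Mᵀ β := by rw [SplitBy, Matrix.charpoly_transpose, h]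
  obtain ⟨v, hv, he⟩ := h'.exists_eigen i
  exact ⟨v, hv, by rw [← he, Matrix.mulVec_transpose]⟩

/-- One companion block. -/
lemma exists_block [Fintype F] (hq : 4 ≤ Fintype.card F) {m : ℕ} (hm1 : 1 ≤ m) {f : F[X]} (hf : f.Monic)
    (hd : f.natDegree = m) (h0 : f.coeff 0 ≠ 0) (β : Fin m → F) (hβ : ∀ i, β i ≠ 0) (hg : Grouped β) :
    ∃ U, SplitBy U β ∧ RU U ∧ ∃ δ : Fin m → F, SplitBy (U * rComp m f) δ ∧ RU (U * rComp m f) ∧
      (∀ i, δ i ≠ 0) ∧ ∃ x y : F, ∀ i, δ i = x ∨ δ i = y := by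
  classical
  set D := (∏ i, β i) * ((-1) ^ m * f.coeff 0) with hD
  have hD0 : D ≠ 0 := mul_ne_zero (Finset.prod_ne_zero_iff.2 fun i _ => hβ i) (mul_ne_zero (pow_ne_zero _ (by simp)) h0)
  rcases (show m = 1 ∨ m = 2 ∨ 3 ≤ m by omega) with rfl | rfl | hm3
  · have hU : H41.IsLowerWith β (Matrix.diagonal β) :=
      ⟨fun i j h => by simp [h.ne], fun i => by simp⟩
    have htriv : ∀ (M : Matrix (Fin 1) (Fin 1) F), H41.IsLowerWith (fun i => M i i) M := fun M =>
      ⟨fun i j h => absurd h (by omega), fun i => rfl⟩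
    have hru : ∀ (M : Matrix (Fin 1) (Fin 1) F), RU M := fun M =>
      RU_lower (htriv M) (fun i j l h _ _ => absurd h (by omega)) (fun i j h => absurd h (by omega))
    set h := Matrix.diagonal β * rComp 1 f with hh
    refine ⟨_, splitBy_lower hU, hru _, fun i => h i i, splitBy_lower (htriv h), hru _, fun i => ?_,
      h 0 0, h 0 0, fun i => Or.inl ?_⟩
    · obtain rfl : i = 0 := Subsingleton.elim _ _
      simp [hh, rComp, hβ, h0]
    · rw [Subsingleton.elim i 0]
  · set a₀ := -f.coeff 0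
    set a₁ := -f.coeff 1
    obtain ⟨x, hx0, hx⟩ : ∃ x : F, x ≠ 0 ∧ x + D / x - β 1 * a₁ ≠ 0 := by
      by_contra hcon
      push Not at hcon
      have hsub : (Finset.univ : Finset F) ⊆ insert 0 ((X ^ 2 - C (β 1 * a₁) * X + C D).roots.toFinset) := by
        intro z _
        by_cases hz : z = 0
        · simp [hz]
        · refine Finset.mem_insert_of_mem ?_
          have hne : (X ^ 2 - C (β 1 * a₁) * X + C D : F[X]) ≠ 0 := by
            intro h
            have := congrArg (fun p => p.coeff 2) h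
            simp [coeff_X] at this
          rw [Multiset.mem_toFinset, mem_roots hne, IsRoot]
          have h1 := hcon z hz
          field_simp at h1
          simp
          linear_combination h1
      have := Finset.card_le_card hsub
      rw [Finset.card_univ] at this
      have h2 := (Finset.card_insert_le (0 : F) ((X ^ 2 - C (β 1 * a₁) * X + C D).roots.toFinset))
      have h3 := (Multiset.toFinset_card_le _).trans (Polynomial.card_roots' (X ^ 2 - C (β 1 * a₁) * X + C D))
      have h4 : (X ^ 2 - C (β 1 * a₁) * X + C D : F[X]).natDegree ≤ 2 := by compute_degree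
      omega
    set s := x + D / x - β 1 * a₁
    set L : Matrix (Fin 2) (Fin 2) F := !![β 0, 0; s, β 1] with hL
    have hLw : H41.IsLowerWith β L := by
      refine ⟨fun i j h => ?_, fun i => ?_⟩
      · fin_cases i <;> fin_cases j <;> simp_all
      · fin_cases i <;> simp [hL]
    set h := L * rComp 2 f with hh
    have hh' : h = !![0, β 0; β 1 * a₀, s + β 1 * a₁] := by
      rw [hh, hL]
      ext i j
      fin_cases i <;> fin_cases j <;> simp [rComp, Matrix.mul_apply, Fin.sum_univ_two, a₀, a₁]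
    have hcyc : Cyc h := by
      refine ⟨![1, 0], ?_⟩
      rw [Matrix.det_fin_two]
      simp [kry, hh', Matrix.vecMul, dotProduct, Fin.sum_univ_two, hβ 0]
    have hch : h.charpoly = ∏ i, (X - C (![x, D / x] i)) := by
      rw [Matrix.charpoly_fin_two, Fin.prod_univ_two, Matrix.trace_fin_two, Matrix.det_fin_two, hh']
      simp only [Matrix.of_apply, Matrix.cons_val', Matrix.cons_val_zero, Matrix.cons_val_one, Matrix.cons_val_fin_one,
        Matrix.empty_val']
      have e1 : (0 : F) + (s + β 1 * a₁) = x + D / x := by simp [s]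
      have e2 : 0 * (s + β 1 * a₁) - β 0 * (β 1 * a₀) = x * (D / x) := by
        simp only [hD, Fin.prod_univ_two, a₀]; field_simp; ring
      rw [e1, e2, C_add, C_mul]
      ring
    refine ⟨L, splitBy_lower hLw, RU_lower hLw hg ?_, ![x, D / x], hch, hcyc.toRU, ?_, x, D / x, ?_⟩
    · intro i j hij _
      have hi : i = 1 := by omega
      have hj : j = 0 := by omega
      subst hi; subst hj
      simpa [hL] using hx
    · intro i; fin_cases i <;> simp [hx0, hD0]
    · intro i; fin_cases i <;> simp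
  · let z : Fin m := ⟨0, by omega⟩
    set δ : Fin m → F := Function.update (fun _ => 1) z D with hδ
    set χ := ∏ i, (X - C (δ i)) with hχ
    have hχm : χ.Monic := monic_prod_of_monic _ _ fun i _ => monic_X_sub_C _
    have hχd : χ.natDegree = m := by
      rw [hχ, natDegree_prod_of_monic _ _ fun i _ => monic_X_sub_C _]
      simp
    have hχ0 : χ.coeff 0 = (-1) ^ m * D := by
      rw [coeff_zero_eq_eval_zero, hχ, eval_prod]
      simp only [eval_sub, eval_X, eval_C, zero_sub, Finset.prod_neg, Finset.card_univ, Fintype.card_fin]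
      congr 1
      rw [hδ, Finset.prod_update_of_mem (Finset.mem_univ z)]
      simp
    obtain ⟨L, hL, hLc, hLp⟩ := exists_lower_mul (by omega) hm3 β hβ hf hd h0 hχm hχd (by
      rw [hχ0, hD, ← mul_assoc, mul_comm _ (∏ i, β i), mul_assoc, ← mul_assoc ((-1 : F) ^ m), ← mul_pow]
      simp)
    refine ⟨L, splitBy_lower hL.1, RU_lower hL.1 hg hL.2, δ, hLp, hLc.toRU, ?_, 1, D, ?_⟩
    · intro i
      rw [hδ, Function.update_apply]
      split_ifs <;> [exact hD0; exact one_ne_zero]
    · intro i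
      rw [hδ, Function.update_apply]
      split_ifs <;> simp

/-- The main induction. -/
theorem exists_mul_split [Fintype F] (hq : 4 ≤ Fintype.card F) : ∀ (l : List F[X]) {n : ℕ}
    (g : Matrix (Fin n) (Fin n) F), Dec g l → g.det ≠ 0 → ∀ β : Fin n → F, (∀ i, β i ≠ 0) → Grouped β →
    ∃ U, SplitBy U β ∧ RU U ∧ ∃ δ : Fin n → F, SplitBy (U * g) δ ∧ (∀ i, δ i ≠ 0) ∧ RU (U * g) := by
  classical
  intro l
  induction l with
  | nil =>
    intro n g hdec _ β _ _
    obtain rfl : n = 0 := hdec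
    have hru : ∀ M : Matrix (Fin 0) (Fin 0) F, RU M := fun M a v v' hv => absurd (_root_.funext fun i : Fin 0 => i.elim0) hv
    have hs : ∀ M : Matrix (Fin 0) (Fin 0) F, SplitBy M β := fun M => by
      rw [SplitBy, Finset.univ_eq_empty, Finset.prod_empty]
      exact (Matrix.charpoly_monic M).natDegree_eq_zero.1 (by simp [charpoly_natDegree_fin])
    exact ⟨1, hs _, hru _, β, hs _, fun i => i.elim0, hru _⟩
  | cons f l ih =>
    intro n g hdec hg0 β hβ hgr
    obtain ⟨hfm, hfd, N, e, A₂, hsim, hdec₂⟩ := hdec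
    generalize hmdef : f.natDegree = m at e hsim hfd
    set C₁ := rComp m f with hC₁
    set G := Matrix.fromBlocks C₁ 0 0 A₂ with hG
    have hdG : g.det = C₁.det * A₂.det := by
      rw [hsim.det_eq, Matrix.det_reindex_self, Matrix.det_fromBlocks_zero₁₂]
    have hA₂ : A₂.det ≠ 0 := right_ne_zero_of_mul (hdG ▸ hg0)
    have hC0 : C₁.det ≠ 0 := left_ne_zero_of_mul (hdG ▸ hg0)
    have hf0 : f.coeff 0 ≠ 0 := by
      intro h
      apply hC0
      rw [hC₁, Matrix.det_eq_sign_charpoly_coeff, (cyc_rComp hfm hmdef).2, h, mul_zero]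
    have hn : m + N = n := by simpa using Fintype.card_congr e
    let e₀ : Fin m ⊕ Fin N ≃ Fin n := finSumFinEquiv.trans (finCongr hn)
    set β₁ : Fin m → F := fun i => β (e₀ (Sum.inl i)) with hβ₁
    set β₂ : Fin N → F := fun i => β (e₀ (Sum.inr i)) with hβ₂
    have hv1 : ∀ i, (e₀ (Sum.inl i)).val = i.val := fun i => by simp [e₀]
    have hv2 : ∀ i, (e₀ (Sum.inr i)).val = m + i.val := fun i => by simp [e₀]
    have hg₁ : Grouped β₁ := fun i j l hij hjl h =>
      hgr _ _ _ (show (e₀ (Sum.inl i)).val < (e₀ (Sum.inl j)).val by rw [hv1, hv1]; exact hij)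
        (show (e₀ (Sum.inl j)).val < (e₀ (Sum.inl l)).val by rw [hv1, hv1]; exact hjl) h
    have hg₂ : Grouped β₂ := fun i j l hij hjl h =>
      hgr _ _ _ (show (e₀ (Sum.inr i)).val < (e₀ (Sum.inr j)).val by
          rw [hv2, hv2]; have h' : i.val < j.val := hij; omega)
        (show (e₀ (Sum.inr j)).val < (e₀ (Sum.inr l)).val by
          rw [hv2, hv2]; have h' : j.val < l.val := hjl; omega) h
    have hcommon : ∀ i i' j j', β₁ i = β₂ j → β₁ i' = β₂ j' → β₁ i = β₁ i' := by
      have key : ∀ i i' j, i < i' → β₁ i = β₂ j → β₁ i' = β₁ i := fun i i' j hii h =>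
        hgr _ _ _ (show (e₀ (Sum.inl i)).val < (e₀ (Sum.inl i')).val by rw [hv1, hv1]; exact hii)
          (show (e₀ (Sum.inl i')).val < (e₀ (Sum.inr j)).val by rw [hv1, hv2]; omega) h
      intro i i' j j' h h'
      rcases lt_trichotomy i i' with hlt | heq | hgt
      · exact (key i i' j hlt h).symm
      · rw [heq]
      · exact key i' i j' hgt h'
    obtain ⟨U₁, hU₁, hU₁r, δ₁, hh₁, hh₁r, hδ₁, x, y, hxy⟩ :=
      exists_block hq (show 1 ≤ m by omega) hfm hmdef hf0 β₁ (fun i => hβ _) hg₁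
    obtain ⟨U₂, hU₂, hU₂r, δ₂, hh₂, hδ₂, hh₂r⟩ := ih A₂ hdec₂ hA₂ β₂ (fun i => hβ _) hg₂
    -- the glue avoids at most three hyperplanes
    let cand : List F := (((Finset.univ.image β₁) ∩ (Finset.univ.image β₂)).toList)
    have hcand : cand.length ≤ 1 := by
      rw [Finset.length_toList, Finset.card_le_one]
      intro a ha b hb
      simp only [Finset.mem_inter, Finset.mem_image, Finset.mem_univ, true_and] at ha hb
      obtain ⟨⟨i, rfl⟩, j, hj⟩ := ha
      obtain ⟨⟨i', rfl⟩, j', hj'⟩ := hb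
      exact hcommon i i' j j' hj.symm hj'.symm
    let fn (l' : Fin N → F) (v : Fin m → F) : Matrix (Fin N) (Fin m) F →ₗ[F] F :=
      { toFun := fun Z => l' ⬝ᵥ (Z *ᵥ v)
        map_add' := fun A B => by rw [Matrix.add_mulVec, dotProduct_add]
        map_smul' := fun c A => by rw [Matrix.smul_mulVec, dotProduct_smul]; rfl }
    have hfn : ∀ l' v, l' ≠ 0 → v ≠ 0 → LinearMap.ker (fn l' v) ≠ ⊤ := by
      intro l' v hl hv htop
      obtain ⟨i, hi⟩ := Function.ne_iff.1 hl
      obtain ⟨j, hj⟩ := Function.ne_iff.1 hv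
      have : Matrix.single i j (1 : F) ∈ (⊤ : Submodule F (Matrix (Fin N) (Fin m) F)) := trivial
      rw [← htop, LinearMap.mem_ker] at this
      simp [fn, Matrix.single_mulVec, dotProduct, Function.update_apply] at this
      rcases this with h | h
      exacts [hi h, hj h]
    let avoidU : F → Submodule F (Matrix (Fin N) (Fin m) F) := fun a =>
      if h : ∃ (v : Fin m → F) (l' : Fin N → F), v ≠ 0 ∧ U₁ *ᵥ v = a • v ∧ l' ≠ 0 ∧ l' ᵥ* U₂ = a • l'
      then LinearMap.ker (fn (Classical.choose (Classical.choose_spec h)) (Classical.choose h)) else ⊥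
    let avoidH : F → Submodule F (Matrix (Fin N) (Fin m) F) := fun a =>
      if h : ∃ (v : Fin m → F) (l' : Fin N → F), v ≠ 0 ∧ (U₁ * C₁) *ᵥ v = a • v ∧ l' ≠ 0 ∧ l' ᵥ* (U₂ * A₂) = a • l'
      then LinearMap.ker (fn (Classical.choose (Classical.choose_spec h)) (C₁ *ᵥ Classical.choose h)) else ⊥
    let bad := ((cand.map avoidU) ++ [avoidH x, avoidH y]).filter (fun A => decide (A ≠ ⊤))
    obtain ⟨e4⟩ : Nonempty (Fin 4 ↪ F) := Function.Embedding.nonempty_of_card_le (by simpa using hq)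
    obtain ⟨Z, hZ⟩ := H41.Reg.exists_notMem_list_four e4 bad
      ((List.length_filter_le _ _).trans (by simp; omega))
      (fun A hA => by simpa using (List.mem_filter.1 hA).2)
    have hinjC := Matrix.mulVec_injective_of_isUnit ((Matrix.isUnit_iff_isUnit_det C₁).2 (isUnit_iff_ne_zero.2 hC0))
    set U := Matrix.fromBlocks U₁ 0 Z U₂ with hU
    have hUs : SplitBy U (Sum.elim β₁ β₂) := hU₁.glue hU₂ Z
    have hUr : RU U := by
      refine RU_glue hU₁r hU₂r fun a v hv he hw => ?_
      obtain ⟨w, hw0, hwe⟩ := hw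
      obtain ⟨i, hi⟩ := hU₁.eigen_mem hv he
      obtain ⟨j, hj⟩ := hU₂.eigen_mem hw0 hwe
      obtain ⟨l', hl0, hle⟩ := RU.splitBy_left hU₂ j
      rw [hj] at hle
      have hex : ∃ (v : Fin m → F) (l' : Fin N → F), v ≠ 0 ∧ U₁ *ᵥ v = a • v ∧ l' ≠ 0 ∧ l' ᵥ* U₂ = a • l' :=
        ⟨v, l', hv, he, hl0, hle⟩
      obtain ⟨hv', hve', hl0', hle'⟩ := Classical.choose_spec (Classical.choose_spec hex)
      have hca : a ∈ cand := by
        simp only [cand, Finset.mem_toList, Finset.mem_inter, Finset.mem_image, Finset.mem_univ, true_and]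
        exact ⟨⟨i, hi⟩, j, hj⟩
      have hmem := hZ (avoidU a) (List.mem_filter.2 ⟨List.mem_append_left _ (List.mem_map.2 ⟨a, hca, rfl⟩),
        decide_eq_true (by simp only [avoidU, dif_pos hex]; exact hfn _ _ hl0' hv')⟩)
      simp only [avoidU, dif_pos hex, LinearMap.mem_ker] at hmem
      obtain ⟨c, hc⟩ := hU₁r a _ v hv' hve' he
      refine ⟨_, hle', ?_⟩
      rw [hc, Matrix.mulVec_smul, dotProduct_smul, smul_eq_mul]
      exact mul_ne_zero (fun h => hv (by rw [hc, h, zero_smul])) hmem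
    have hUG : U * G = Matrix.fromBlocks (U₁ * C₁) 0 (Z * C₁) (U₂ * A₂) := by
      rw [hU, hG, Matrix.fromBlocks_multiply]; simp
    have hHs : SplitBy (U * G) (Sum.elim δ₁ δ₂) := by rw [hUG]; exact hh₁.glue hh₂ _
    have hHr : RU (U * G) := by
      rw [hUG]
      refine RU_glue hh₁r hh₂r fun a v hv he hw => ?_
      obtain ⟨w, hw0, hwe⟩ := hw
      obtain ⟨i, hi⟩ := hh₁.eigen_mem hv he
      obtain ⟨j, hj⟩ := hh₂.eigen_mem hw0 hwe
      obtain ⟨l', hl0, hle⟩ := RU.splitBy_left hh₂ j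
      rw [hj] at hle
      have hex : ∃ (v : Fin m → F) (l' : Fin N → F),
          v ≠ 0 ∧ (U₁ * C₁) *ᵥ v = a • v ∧ l' ≠ 0 ∧ l' ᵥ* (U₂ * A₂) = a • l' := ⟨v, l', hv, he, hl0, hle⟩
      obtain ⟨hv', hve', hl0', hle'⟩ := Classical.choose_spec (Classical.choose_spec hex)
      have hne : LinearMap.ker (fn (Classical.choose (Classical.choose_spec hex)) (C₁ *ᵥ Classical.choose hex)) ≠ ⊤ :=
        hfn _ _ hl0' fun h => hv' (hinjC (h.trans (Matrix.mulVec_zero _).symm))
      have hmem := hZ (avoidH a) (List.mem_filter.2 ⟨List.mem_append_right _ (by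
          rcases hxy i with h | h <;> simp [← hi, h]), decide_eq_true (by simp only [avoidH, dif_pos hex]; exact hne)⟩)
      simp only [avoidH, dif_pos hex, LinearMap.mem_ker] at hmem
      obtain ⟨c, hc⟩ := hh₁r a _ v hv' hve' he
      refine ⟨_, hle', ?_⟩
      rw [hc, Matrix.mulVec_smul, dotProduct_smul, smul_eq_mul]
      refine mul_ne_zero (fun h => hv (by rw [hc, h, zero_smul])) fun h => hmem ?_
      show _ ⬝ᵥ (Z *ᵥ (C₁ *ᵥ _)) = 0
      rw [Matrix.mulVec_mulVec]; exact h
    -- transport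
    obtain ⟨P, hP, hPe⟩ := hsim.symm
    set U' := P * Matrix.reindex e e U * P⁻¹ with hU'
    have hsimU : Sim (Matrix.reindex e e U) U' := sim_conj hP hU'
    have hprod : Sim (Matrix.reindex e e (U * G)) (U' * g) := by
      refine sim_conj hP ?_
      rw [hU', eq_conj hP hPe, Matrix.mul_assoc (P * _) P⁻¹]
      simp only [Matrix.mul_assoc, Matrix.nonsing_inv_mul_cancel_left _ _ hP]
      simp only [← Matrix.mul_assoc, Matrix.reindex_apply, Matrix.submatrix_mul_equiv]
    have hperm : ∀ (a : Fin m → F) (b : Fin N → F) (M : Matrix (Fin m ⊕ Fin N) (Fin m ⊕ Fin N) F)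
        (M' : Matrix (Fin n) (Fin n) F), SplitBy M (Sum.elim a b) → Sim (Matrix.reindex e e M) M' →
        SplitBy M' ((Sum.elim a b) ∘ e₀.symm) := by
      intro a b M M' hM hs
      have := hM.reindex e
      rw [SplitBy, ← hs.charpoly_eq, this]
      rw [← Equiv.prod_comp e, ← Equiv.prod_comp e₀]
      simp
    refine ⟨U', ?_, hsimU.RU (hUr.reindex e), (Sum.elim δ₁ δ₂) ∘ e₀.symm, hperm _ _ _ _ hHs hprod, ?_,
      hprod.RU (hHr.reindex e)⟩
    · have h1 := hperm _ _ _ _ hUs hsimU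
      convert h1 using 1
      funext i
      obtain ⟨s, rfl⟩ := e₀.surjective i
      cases s <;> simp [hβ₁, hβ₂]
    · intro i
      simp only [Function.comp_apply]
      rcases e₀.symm i with j | j
      · exact hδ₁ j
      · exact hδ₂ j

/-- **Every invertible matrix is a product of a cyclic matrix and a member of a split cyclic class.** -/
theorem mem_three [Fintype F] (hq : 4 ≤ Fintype.card F) {n : ℕ} {S : Set (Matrix (Fin n) (Fin n) F)} {a b : ℕ}
    {T : Matrix (Fin n) (Fin n) F} {β : Fin n → F} (hT : Cyc T) (hs : SplitBy T β) (hβ : ∀ i, β i ≠ 0)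
    (hFT : Full (Prods S a) T) {d : F} (hall : AllCyc (Prods S b) d) {g : Matrix (Fin n) (Fin n) F}
    (hg : g.det = T.det * d) (hd : d ≠ 0) : g ∈ Prods S (b + a) := by
  obtain ⟨σ, hσ⟩ := exists_grouped β
  have hg0 : g.det ≠ 0 := by
    rw [hg]; refine mul_ne_zero ?_ hd
    rw [hs.det]; exact Finset.prod_ne_zero_iff.2 fun i _ => hβ i
  have hu : IsUnit g.det := isUnit_iff_ne_zero.2 hg0
  obtain ⟨l, hl⟩ := exists_dec g⁻¹
  obtain ⟨U, hU, hUr, δ, hh, hδ, hhr⟩ := exists_mul_split hq l g⁻¹ hl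
    (Matrix.isUnit_nonsing_inv_det _ hu).ne_zero (β ∘ σ) (fun i => hβ _) hσ
  have hUc : Cyc U := cyc_of_RU hU (fun i => hβ _) hUr
  have hhc : Cyc (U * g⁻¹) := cyc_of_RU hh hδ hhr
  have hhu : IsUnit (U * g⁻¹).det := by
    rw [hh.det, isUnit_iff_ne_zero]; exact Finset.prod_ne_zero_iff.2 fun i _ => hδ i
  have hUX : Sim T U := cyc_similar' hT hUc (by rw [splitBy_perm hs σ, hU])
  have hinv : Cyc (U * g⁻¹)⁻¹ := by
    have := cyc_inv hhc hhu (one_ne_zero : (1 : F) ≠ 0)
    rwa [one_smul] at this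
  have hdet : (U * g⁻¹)⁻¹.det = d := by
    rw [Matrix.det_nonsing_inv, Ring.inverse_eq_inv', Matrix.det_mul, Matrix.det_nonsing_inv, Ring.inverse_eq_inv',
      ← hUX.det_eq, hg]
    have : T.det ≠ 0 := left_ne_zero_of_mul (hg ▸ hg0)
    field_simp
  have hge : g = (U * g⁻¹)⁻¹ * U := by
    rw [Matrix.mul_inv_rev, Matrix.nonsing_inv_nonsing_inv _ hu, Matrix.mul_assoc,
      Matrix.nonsing_inv_mul _ (by rw [← hUX.det_eq, isUnit_iff_ne_zero]; exact left_ne_zero_of_mul (hg ▸ hg0)),
      Matrix.mul_one]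
  rw [hge]
  exact prods_mul (hall _ hinv hdet) (hFT U hUX)

end H89.CN
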