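import Cfsg.Agent.H89.CN.Pair
import Cfsg.Agent.H89.CN.MulCyclic

/-!
Classes under conjugation of determinant one; pairs of conjugates with a lower triangular product, and their glueing.
-/

set_option autoImplicit false

namespace H89.CN

open Matrix Polynomial

variable {F : Type*} [Field F] {ι κ : Type*} [Fintype ι] [DecidableEq ι] [Fintype κ] [DecidableEq κ]

/-- The conjugates by matrices of determinant one. -/
def Cls (A : Matrix ι ι F) : Set (Matrix ι ι F) := {X | ∃ R : Matrix ι ι F, R.det = 1 ∧ R * A = X * R}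

/-- A determinant of the centraliser. -/
def CDet (A : Matrix ι ι F) (d : F) : Prop := ∃ Z : Matrix ι ι F, Z * A = A * Z ∧ Z.det = d

/-- Two conjugates with the given product; `δ` is the determinant of the second conjugation. -/
def Pair2 (B : Matrix ι ι F) (δ : F) (X T : Matrix ι ι F) : Prop :=
  X ∈ Cls B ∧ ∃ Y P : Matrix ι ι F, P * X = Y * P ∧ P.det = δ ∧ T = X * Y

lemma cls_self (A : Matrix ι ι F) : A ∈ Cls A := ⟨1, by simp, by simp⟩

lemma cls_det {A X : Matrix ι ι F} (h : X ∈ Cls A) : X.det = A.det := by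
  obtain ⟨R, hR, he⟩ := h
  exact (Sim.det_eq ⟨R, by rw [hR]; exact isUnit_one, he⟩).symm

lemma cls_conj {A X R : Matrix ι ι F} (h : X ∈ Cls A) (hR : R.det = 1) : R * X * R⁻¹ ∈ Cls A := by
  obtain ⟨S, hS, he⟩ := h
  have hu : IsUnit R.det := by rw [hR]; exact isUnit_one
  refine ⟨R * S, by rw [Matrix.det_mul, hR, hS, mul_one], ?_⟩
  rw [Matrix.mul_assoc R S, he, Matrix.mul_assoc (R * X), Matrix.nonsing_inv_mul_cancel_left _ _ hu,
    Matrix.mul_assoc]

lemma sim_of_cls {A X : Matrix ι ι F} (h : X ∈ Cls A) : Sim A X := by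
  obtain ⟨R, hR, he⟩ := h
  exact ⟨R, by rw [hR]; exact isUnit_one, he⟩

/-- With a determinant of the centraliser both factors lie in the class. -/
lemma Pair2.mem {n : ℕ} {B X T : Matrix (Fin n) (Fin n) F} {δ : F} (h : Pair2 B δ X T) (hd : CDet B δ) (hδ : δ ≠ 0) :
    T ∈ Prods (Cls B) 2 := by
  obtain ⟨⟨R, hR, he⟩, Y, P, hP, hPd, rfl⟩ := h
  obtain ⟨Z, hZ, hZd⟩ := hd
  have hu : IsUnit Z.det := by rw [hZd]; exact isUnit_iff_ne_zero.2 hδ
  have hY : Y ∈ Cls B := by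
    refine ⟨P * R * Z⁻¹, ?_, ?_⟩
    · rw [Matrix.det_mul, Matrix.det_mul, hPd, hR, Matrix.det_nonsing_inv, Ring.inverse_eq_inv', hZd, mul_one,
        mul_inv_cancel₀ hδ]
    · have hZB : Z⁻¹ * B = B * Z⁻¹ := by
        calc Z⁻¹ * B = Z⁻¹ * (B * (Z * Z⁻¹)) := by rw [Matrix.mul_nonsing_inv _ hu, Matrix.mul_one]
          _ = Z⁻¹ * (Z * B * Z⁻¹) := by rw [hZ, Matrix.mul_assoc B]
          _ = B * Z⁻¹ := by rw [Matrix.mul_assoc Z, Matrix.nonsing_inv_mul_cancel_left _ _ hu]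
      rw [Matrix.mul_assoc (P * R), hZB, ← Matrix.mul_assoc, Matrix.mul_assoc P R, he, ← Matrix.mul_assoc, hP]
      simp only [Matrix.mul_assoc]
  exact ⟨X, ⟨R, hR, he⟩, Y, prods_one hY, rfl⟩

/-- Pairs with a regular split product, and the shared eigenvectors they avoid. -/
def Good (B : Matrix ι ι F) (δ : F) (β : ι → F) (L R : F → Prop) : Prop :=
  ∃ X T : Matrix ι ι F, Pair2 B δ X T ∧ RU T ∧ SplitBy T β ∧ (∀ a, L a → NoL X T a) ∧ ∀ a, R a → NoR X T a

lemma Good.mono {B : Matrix ι ι F} {δ : F} {β : ι → F} {L R L' R' : F → Prop} (h : Good B δ β L R)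
    (hL : ∀ a, L' a → L a) (hR : ∀ a, R' a → R a) : Good B δ β L' R' := by
  obtain ⟨X, T, h1, h2, h3, h4, h5⟩ := h
  exact ⟨X, T, h1, h2, h3, fun a ha => h4 a (hL a ha), fun a ha => h5 a (hR a ha)⟩

lemma Good.sim {B B' : Matrix ι ι F} {δ : F} {β : ι → F} {L R : F → Prop} (h : Good B δ β L R) (hs : Sim B B') :
    Good B' δ β L R := by
  obtain ⟨X, T, ⟨⟨S, hS, hSe⟩, Y, P, hP, hPd, hT⟩, hru, hsp, hL, hR⟩ := h
  obtain ⟨Q, hQ, hQe⟩ := hs
  have hc : ∀ M : Matrix ι ι F, Q * M = Q * M * Q⁻¹ * Q := fun M => by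
    rw [Matrix.mul_assoc (Q * M), Matrix.nonsing_inv_mul _ hQ, Matrix.mul_one]
  have hB' : B' = Q * B * Q⁻¹ := by rw [hQe, Matrix.mul_assoc, Matrix.mul_nonsing_inv _ hQ, Matrix.mul_one]
  have hm : ∀ M N : Matrix ι ι F, Q * M * Q⁻¹ * (Q * N * Q⁻¹) = Q * (M * N) * Q⁻¹ := fun M N => by
    rw [Matrix.mul_assoc (Q * M) Q⁻¹, Matrix.mul_assoc Q N, Matrix.nonsing_inv_mul_cancel_left _ _ hQ]
    simp only [Matrix.mul_assoc]
  have hd : ∀ M : Matrix ι ι F, (Q * M * Q⁻¹).det = M.det := fun M =>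
    Matrix.det_conj ((Matrix.isUnit_iff_isUnit_det Q).2 hQ) M
  have hinj := Matrix.mulVec_injective_of_isUnit ((Matrix.isUnit_iff_isUnit_det Q).2 hQ)
  refine ⟨Q * X * Q⁻¹, Q * T * Q⁻¹, ⟨⟨Q * S * Q⁻¹, by rw [hd, hS], by rw [hB', hm, hSe, hm]⟩,
    Q * Y * Q⁻¹, Q * P * Q⁻¹, by rw [hm, hP, hm], by rw [hd, hPd], by rw [hm, hT]⟩,
    (show Sim T (Q * T * Q⁻¹) from ⟨Q, hQ, hc T⟩).RU hru, ?_, ?_, ?_⟩
  · rw [SplitBy, ← (show Sim T (Q * T * Q⁻¹) from ⟨Q, hQ, hc T⟩).charpoly_eq]; exact hsp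
  · intro a ha l ν hl hlX hlT
    have hl' : l ᵥ* Q ≠ 0 := fun h0 => hl (by
      have := congrArg (fun x => x ᵥ* Q⁻¹) h0
      simpa [Matrix.vecMul_vecMul, Matrix.mul_nonsing_inv _ hQ] using this)
    refine hL a ha (l ᵥ* Q) ν hl' ?_ ?_
    · rw [Matrix.vecMul_vecMul, hc X, ← Matrix.vecMul_vecMul, hlX, Matrix.smul_vecMul]
    · rw [Matrix.vecMul_vecMul, hc T, ← Matrix.vecMul_vecMul, hlT, Matrix.smul_vecMul]
  · intro a ha v ν hv hvX hvT
    have key : ∀ (M : Matrix ι ι F) (b : F), (Q * M * Q⁻¹) *ᵥ v = b • v → M *ᵥ (Q⁻¹ *ᵥ v) = b • (Q⁻¹ *ᵥ v) := by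
      intro M b h
      apply hinj
      rw [Matrix.mulVec_mulVec, Matrix.mulVec_mulVec, h, Matrix.mulVec_smul, Matrix.mulVec_mulVec,
        Matrix.mul_nonsing_inv _ hQ, Matrix.one_mulVec]
    refine hR a ha (Q⁻¹ *ᵥ v) ν (fun h0 => hv ?_) (key X ν hvX) (key T a hvT)
    have := congrArg (fun x => Q *ᵥ x) h0
    simpa [Matrix.mulVec_mulVec, Matrix.mul_nonsing_inv _ hQ] using this

lemma Good.reindex {B : Matrix ι ι F} {δ : F} {β : ι → F} {L R : F → Prop} (h : Good B δ β L R) (e : ι ≃ κ) :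
    Good (Matrix.reindex e e B) δ (β ∘ e.symm) L R := by
  obtain ⟨X, T, ⟨⟨S, hS, hSe⟩, Y, P, hP, hPd, hT⟩, hru, hsp, hL, hR⟩ := h
  have hm : ∀ M N : Matrix ι ι F, Matrix.reindex e e M * Matrix.reindex e e N = Matrix.reindex e e (M * N) :=
    fun M N => by simp only [Matrix.reindex_apply, Matrix.submatrix_mul_equiv]
  refine ⟨Matrix.reindex e e X, Matrix.reindex e e T,
    ⟨⟨Matrix.reindex e e S, by rw [Matrix.det_reindex_self, hS], by rw [hm, hm, hSe]⟩,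
      Matrix.reindex e e Y, Matrix.reindex e e P, by rw [hm, hm, hP], by rw [Matrix.det_reindex_self, hPd],
      by rw [hm, hT]⟩, hru.reindex e, hsp.reindex e, ?_, ?_⟩
  · intro a ha l ν hl hlX hlT
    refine hL a ha (l ∘ e) ν (fun h0 => hl (funext fun x => by simpa using congrFun h0 (e.symm x))) ?_ ?_
    · have := congrArg (fun x => x ∘ e) hlX
      simp only [Matrix.reindex_apply, Matrix.submatrix_vecMul_equiv] at this
      simpa [Function.comp_def, Pi.smul_def] using this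
    · have := congrArg (fun x => x ∘ e) hlT
      simp only [Matrix.reindex_apply, Matrix.submatrix_vecMul_equiv] at this
      simpa [Function.comp_def, Pi.smul_def] using this
  · intro a ha v ν hv hvX hvT
    refine hR a ha (v ∘ e) ν (fun h0 => hv (funext fun x => by simpa using congrFun h0 (e.symm x))) ?_ ?_
    · have := congrArg (fun x => x ∘ e) hvX
      simp only [Matrix.reindex_apply, Matrix.submatrix_mulVec_equiv] at this
      simpa [Function.comp_def, Pi.smul_def] using this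
    · have := congrArg (fun x => x ∘ e) hvT
      simp only [Matrix.reindex_apply, Matrix.submatrix_mulVec_equiv] at this
      simpa [Function.comp_def, Pi.smul_def] using this

/-- A block of size one. -/
lemma good_one [Unique ι] {lam : F} {a₀ : F} (ha : a₀ = lam * lam) :
    Good (Matrix.diagonal fun _ : ι => lam) 1 (fun _ => a₀) (fun a => a ≠ a₀) (fun a => a ≠ a₀) := by
  have hD : (Matrix.diagonal fun _ : ι => lam) * (Matrix.diagonal fun _ : ι => lam) = Matrix.diagonal fun _ : ι => a₀ := by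
    rw [Matrix.diagonal_mul_diagonal, ha]
  refine ⟨_, Matrix.diagonal fun _ => a₀, ⟨cls_self _, _, 1, by rw [Matrix.one_mul, Matrix.mul_one], Matrix.det_one,
    hD.symm⟩, ?_, ?_, ?_, ?_⟩
  · intro a v v' hv _ _
    refine ⟨v' default / v default, funext fun x => ?_⟩
    obtain rfl : x = default := Subsingleton.elim _ _
    have : v default ≠ 0 := fun h => hv (funext fun y => by rw [Subsingleton.elim y default]; exact h)
    simp [this]
  · rw [SplitBy, Matrix.charpoly_diagonal]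
  · intro a ha l ν hl _ h
    have hld : l default ≠ 0 := fun h0 => hl (funext fun y => by rw [Subsingleton.elim y default]; exact h0)
    have h1 := congrFun h default
    rw [Matrix.vecMul_diagonal, Pi.smul_apply, smul_eq_mul, mul_comm] at h1
    exact ha (mul_right_cancel₀ hld h1.symm)
  · intro a ha v ν hv _ h
    have hld : v default ≠ 0 := fun h0 => hv (funext fun y => by rw [Subsingleton.elim y default]; exact h0)
    have h1 := congrFun h default
    rw [Matrix.mulVec_diagonal, Pi.smul_apply, smul_eq_mul] at h1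
    exact ha (mul_right_cancel₀ hld h1.symm)

/-- **Glueing.** -/
theorem Good.glue [Fintype F] {B₁ : Matrix ι ι F} {B₂ : Matrix κ κ F} {δ₁ δ₂ : F} {β : ι → F} {γ : κ → F}
    {L₁ R₁ L₂ R₂ : F → Prop} (h₁ : Good B₁ δ₁ β L₁ R₁) (h₂ : Good B₂ δ₂ γ L₂ R₂) (hβ : ∀ i, β i ≠ 0)
    (hc : ∀ i j, β i = γ j → R₁ (β i) ∨ L₂ (β i)) :
    Good (Matrix.fromBlocks B₁ 0 0 B₂) (δ₁ * δ₂) (Sum.elim β γ) (fun a => L₁ a ∧ L₂ a)
      (fun a => ((∃ j, γ j = a) → R₂ a) ∧ ((∀ j, γ j ≠ a) → R₁ a)) := by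
  classical
  obtain ⟨X₁, T₁, ⟨⟨S₁, hS₁, hSe₁⟩, Y₁, P₁, hP₁, hPd₁, hT₁⟩, hru₁, hsp₁, hL₁, hR₁⟩ := h₁
  obtain ⟨X₂, T₂, ⟨⟨S₂, hS₂, hSe₂⟩, Y₂, P₂, hP₂, hPd₂, hT₂⟩, hru₂, hsp₂, hL₂, hR₂⟩ := h₂
  let fn (l : κ → F) (v : ι → F) : Matrix κ ι F →ₗ[F] F :=
    { toFun := fun W => l ⬝ᵥ (((W * X₁ - X₂ * W) * Y₁) *ᵥ v)
      map_add' := fun A B => by
        rw [Matrix.add_mul, Matrix.mul_add, add_sub_add_comm, Matrix.add_mul, Matrix.add_mulVec, dotProduct_add]
      map_smul' := fun c A => by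
        rw [Matrix.smul_mul, Matrix.mul_smul, ← smul_sub, Matrix.smul_mul, Matrix.smul_mulVec, dotProduct_smul]
        rfl }
  have hfn : ∀ a l v, a ≠ 0 → l ≠ 0 → v ≠ 0 → l ᵥ* T₂ = a • l → T₁ *ᵥ v = a • v → (R₁ a ∨ L₂ a) →
      LinearMap.ker (fn l v) ≠ ⊤ := by
    intro a l v ha hl hv hle hve hor htop
    have hall : ∀ i j, a * l i * v j = (l ᵥ* X₂) i * (Y₁ *ᵥ v) j := by
      intro i j
      have hm : Matrix.single i j (1 : F) ∈ (⊤ : Submodule F (Matrix κ ι F)) := trivial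
      rw [← htop, LinearMap.mem_ker] at hm
      change l ⬝ᵥ (((Matrix.single i j 1 * X₁ - X₂ * Matrix.single i j 1) * Y₁) *ᵥ v) = 0 at hm
      rw [Matrix.sub_mul, Matrix.sub_mulVec, dotProduct_sub, Matrix.mul_assoc, ← hT₁, ← Matrix.mulVec_mulVec, hve,
        Matrix.mul_assoc, ← Matrix.mulVec_mulVec, Matrix.dotProduct_mulVec l X₂, ← Matrix.mulVec_mulVec] at hm
      simp only [Matrix.single_mulVec, one_mul, Pi.smul_apply, smul_eq_mul] at hm
      rw [sub_eq_zero] at hm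
      simp only [dotProduct, Function.update_apply, Pi.zero_apply, mul_ite, mul_zero, Finset.sum_ite_eq',
        Finset.mem_univ, if_true] at hm
      rw [← hm]; ring
    obtain ⟨i₀, hi₀⟩ := Function.ne_iff.1 hl
    obtain ⟨j₀, hj₀⟩ := Function.ne_iff.1 hv
    have hne := mul_ne_zero (mul_ne_zero ha (show l i₀ ≠ 0 from hi₀)) (show v j₀ ≠ 0 from hj₀)
    rw [hall] at hne
    rcases hor with hor | hor
    · obtain ⟨hx, hy⟩ := ne_zero_and_ne_zero_of_mul hne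
      have hY : Y₁ *ᵥ v = (a * l i₀ / (l ᵥ* X₂) i₀) • v := by
        funext j
        have := hall i₀ j
        rw [Pi.smul_apply, smul_eq_mul, div_mul_eq_mul_div, eq_div_iff hx, mul_comm, ← this]
      have hne' : a * l i₀ / (l ᵥ* X₂) i₀ ≠ 0 := div_ne_zero (mul_ne_zero ha hi₀) hx
      refine hR₁ a hor v (a / (a * l i₀ / (l ᵥ* X₂) i₀)) hv ?_ hve
      apply smul_right_injective (ι → F) hne'
      show (a * l i₀ / (l ᵥ* X₂) i₀) • (X₁ *ᵥ v) = (a * l i₀ / (l ᵥ* X₂) i₀) • _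
      rw [← Matrix.mulVec_smul, ← hY, Matrix.mulVec_mulVec, ← hT₁, hve, smul_smul, mul_div_cancel₀ _ hne']
    · obtain ⟨hx, hy⟩ := ne_zero_and_ne_zero_of_mul hne
      refine hL₂ a hor l (a * v j₀ / (Y₁ *ᵥ v) j₀) hl ?_ hle
      funext i
      have := hall i j₀
      rw [Pi.smul_apply, smul_eq_mul, div_mul_eq_mul_div, eq_div_iff hy, ← this]
      ring
  let avoid : F → Submodule F (Matrix κ ι F) := fun a =>
    if h : ∃ (v : ι → F) (l : κ → F), v ≠ 0 ∧ T₁ *ᵥ v = a • v ∧ l ≠ 0 ∧ l ᵥ* T₂ = a • l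
    then LinearMap.ker (fn (Classical.choose (Classical.choose_spec h)) (Classical.choose h)) else ⊥
  let bad := ((Finset.univ : Finset F).toList.map avoid).filter (fun A => decide (A ≠ ⊤))
  obtain ⟨e4⟩ : Nonempty (Fin bad.length ↪ F) := Function.Embedding.nonempty_of_card_le (by
    rw [Fintype.card_fin]
    exact (List.length_filter_le _ _).trans (by simp))
  obtain ⟨W, hW⟩ := H41.Reg.exists_notMem_list bad e4 (fun A hA => by simpa using (List.mem_filter.1 hA).2)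
  set Z := (W * X₁ - X₂ * W) * Y₁ with hZ
  set X := Matrix.fromBlocks X₁ 0 (W * X₁ - X₂ * W) X₂ with hX
  set T := Matrix.fromBlocks T₁ 0 Z T₂ with hT
  have hglue : ∀ (a : F) (v₁ : ι → F), v₁ ≠ 0 → T₁ *ᵥ v₁ = a • v₁ → (∃ j, γ j = a) →
      ∃ l : κ → F, l ᵥ* T₂ = a • l ∧ l ⬝ᵥ (Z *ᵥ v₁) ≠ 0 := by
    intro a v hv he hw
    obtain ⟨j, hj⟩ := hw
    obtain ⟨i, hi⟩ := hsp₁.eigen_mem hv he
    obtain ⟨l, hl0, hle⟩ := RU.splitBy_left hsp₂ j
    rw [hj] at hle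
    have hex : ∃ (v : ι → F) (l : κ → F), v ≠ 0 ∧ T₁ *ᵥ v = a • v ∧ l ≠ 0 ∧ l ᵥ* T₂ = a • l :=
      ⟨v, l, hv, he, hl0, hle⟩
    obtain ⟨hv', hve', hl0', hle'⟩ := Classical.choose_spec (Classical.choose_spec hex)
    have hor : R₁ a ∨ L₂ a := by
      have := hc i j (hi.trans hj.symm)
      rwa [hi] at this
    have hne := hfn a _ _ (hi ▸ hβ i) hl0' hv' hle' hve' hor
    have hmem := hW (avoid a) (List.mem_filter.2 ⟨List.mem_map.2 ⟨a, by simp, rfl⟩,
      decide_eq_true (by simp only [avoid, dif_pos hex]; exact hne)⟩)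
    simp only [avoid, dif_pos hex, LinearMap.mem_ker] at hmem
    obtain ⟨c, hc'⟩ := hru₁ a _ v hv' hve' he
    refine ⟨_, hle', ?_⟩
    rw [hc', Matrix.mulVec_smul, dotProduct_smul, smul_eq_mul]
    exact mul_ne_zero (fun h => hv (by rw [hc', h, zero_smul])) hmem
  have hXdef : X = Matrix.fromBlocks 1 0 W 1 * Matrix.fromBlocks X₁ 0 0 X₂ * Matrix.fromBlocks 1 0 (-W) 1 := by
    simp [hX, Matrix.fromBlocks_multiply, sub_eq_add_neg]
  have hdU : ∀ W : Matrix κ ι F, (Matrix.fromBlocks 1 0 W 1 : Matrix (ι ⊕ κ) (ι ⊕ κ) F).det = 1 := fun W => by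
    simp [Matrix.det_fromBlocks_zero₁₂]
  refine ⟨X, T, ⟨⟨Matrix.fromBlocks 1 0 W 1 * Matrix.fromBlocks S₁ 0 0 S₂, ?_, ?_⟩,
    Matrix.fromBlocks Y₁ 0 0 Y₂, Matrix.fromBlocks P₁ 0 0 P₂ * Matrix.fromBlocks 1 0 (-W) 1, ?_, ?_, ?_⟩,
    RU_glue hru₁ hru₂ (fun a v hv he hw => hglue a v hv he (by
      obtain ⟨w, hw0, hwe⟩ := hw; exact hsp₂.eigen_mem hw0 hwe)), hsp₁.glue hsp₂ Z, ?_, ?_⟩
  · simp [Matrix.det_fromBlocks_zero₁₂, hS₁, hS₂]
  · simp [hX, Matrix.fromBlocks_multiply, hSe₁, hSe₂]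
    rw [Matrix.mul_assoc W S₁, hSe₁, Matrix.sub_mul, Matrix.mul_assoc W X₁, Matrix.mul_assoc X₂ W]
    abel
  · simp [hX, Matrix.fromBlocks_multiply, hP₁, hP₂]
    rw [← Matrix.mul_assoc Y₂, ← hP₂]
    simp only [Matrix.mul_sub, Matrix.mul_assoc]
    abel
  · simp [Matrix.det_mul, Matrix.det_fromBlocks_zero₁₂, hPd₁, hPd₂]
  · simp [hT, hX, hZ, Matrix.fromBlocks_multiply, hT₁, hT₂]
  · rintro a ⟨ha₁, ha₂⟩ l ν hl hlX hlT
    rw [hX, Matrix.vecMul_fromBlocks] at hlX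
    rw [hT, Matrix.vecMul_fromBlocks] at hlT
    by_cases h2 : l ∘ Sum.inr = 0
    · refine hL₁ a ha₁ (l ∘ Sum.inl) ν (fun h1 => hl (funext fun x => ?_)) ?_ ?_
      · cases x with
        | inl i => exact congrFun h1 i
        | inr i => exact congrFun h2 i
      · funext i
        simpa [h2] using congrFun hlX (Sum.inl i)
      · funext i
        simpa [h2] using congrFun hlT (Sum.inl i)
    · refine hL₂ a ha₂ (l ∘ Sum.inr) ν h2 ?_ ?_
      · funext i
        simpa using congrFun hlX (Sum.inr i)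
      · funext i
        simpa using congrFun hlT (Sum.inr i)
  · rintro a ⟨ha₁, ha₂⟩ v ν hv hvX hvT
    rw [hX, Matrix.fromBlocks_mulVec] at hvX
    rw [hT, Matrix.fromBlocks_mulVec] at hvT
    have hT1 : T₁ *ᵥ (v ∘ Sum.inl) = a • (v ∘ Sum.inl) := by
      funext i; simpa using congrFun hvT (Sum.inl i)
    have hT2 : Z *ᵥ (v ∘ Sum.inl) + T₂ *ᵥ (v ∘ Sum.inr) = a • (v ∘ Sum.inr) := by
      funext i; simpa using congrFun hvT (Sum.inr i)
    by_cases h1 : v ∘ Sum.inl = 0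
    · have h2 : v ∘ Sum.inr ≠ 0 := fun h2 => hv (funext fun x => by
        cases x with
        | inl i => exact congrFun h1 i
        | inr i => exact congrFun h2 i)
      rw [h1, Matrix.mulVec_zero, zero_add] at hT2
      refine hR₂ a (ha₁ (hsp₂.eigen_mem h2 hT2)) _ ν h2 ?_ hT2
      funext i
      simpa [h1] using congrFun hvX (Sum.inr i)
    · by_cases hj : ∃ j, γ j = a
      · obtain ⟨l, hle, hl⟩ := hglue a _ h1 hT1 hj
        apply hl
        have h3 := congrArg (fun x => l ⬝ᵥ x) hT2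
        simp only [dotProduct_add, dotProduct_smul, Matrix.dotProduct_mulVec l T₂, hle, smul_dotProduct] at h3
        exact add_eq_right.1 h3
      · refine hR₁ a (ha₂ fun j h => hj ⟨j, h⟩) _ ν h1 ?_ hT1
        funext i
        simpa using congrFun hvX (Sum.inl i)

end H89.CN
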