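import Cfsg.Agent.H89.CN.Eig
import Cfsg.Agent.H41.RegFactor

/-!
Products of two cyclic classes reach all cyclic matrices and all rank one modifications of scalars.
-/

set_option autoImplicit false

namespace H89.CN

open Matrix Polynomial

variable {F : Type*} [Field F] {n : ℕ}

/-- Lower triangular, regular between equal diagonal neighbours. -/
def RegL (β : Fin n → F) (L : Matrix (Fin n) (Fin n) F) : Prop :=
  H41.IsLowerWith β L ∧ ∀ i j : Fin n, i.val = j.val + 1 → β i = β j → L i j ≠ 0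

/-- Upper triangular, regular between equal diagonal neighbours. -/
def RegU (β : Fin n → F) (U : Matrix (Fin n) (Fin n) F) : Prop :=
  H41.IsUpperWith β U ∧ ∀ i j : Fin n, j.val = i.val + 1 → β i = β j → U i j ≠ 0

/-- A linear arrangement with contiguous equal values. -/
lemma exists_grouped [Fintype F] (β : Fin n → F) : ∃ σ : Equiv.Perm (Fin n), Grouped (β ∘ σ) := by
  classical
  let e := Fintype.equivFin F
  refine ⟨Tuple.sort (e ∘ β), fun i j l hij hjl h => ?_⟩
  have hm := Tuple.monotone_sort (e ∘ β)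
  have h1 := hm hij.le
  have h2 := hm hjl.le
  simp only [Function.comp_apply] at h h1 h2 ⊢
  rw [← h] at h2
  exact e.injective (le_antisymm h2 h1)

lemma splitBy_perm {M : Matrix (Fin n) (Fin n) F} {β : Fin n → F} (h : SplitBy M β) (σ : Equiv.Perm (Fin n)) :
    SplitBy M (β ∘ σ) := by
  rw [SplitBy, h]
  exact (Equiv.prod_comp σ fun i => X - C (β i)).symm

lemma kry_det_of_upper {M : Matrix (Fin n) (Fin n) F} (φ : Fin n → F)
    (h0 : ∀ i j : Fin n, i.val < j.val → (φ ᵥ* M ^ (i : ℕ)) j = 0)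
    (h1 : ∀ i : Fin n, (φ ᵥ* M ^ (i : ℕ)) i ≠ 0) : (kry M φ).det ≠ 0 := by
  rw [Matrix.det_of_lowerTriangular (kry M φ) fun i j hij => h0 i j hij]
  exact Finset.prod_ne_zero_iff.2 fun i _ => h1 i

lemma cyc_rComp {χ : F[X]} (hm : χ.Monic) (hd : χ.natDegree = n) :
    Cyc (rComp n χ) ∧ (rComp n χ).charpoly = χ := by
  rcases Nat.eq_zero_or_pos n with rfl | hn
  · refine ⟨⟨0, by simp⟩, ?_⟩
    rw [(Polynomial.Monic.natDegree_eq_zero hm).1 hd]
    exact Polynomial.Monic.natDegree_eq_zero (Matrix.charpoly_monic _) |>.1 (by simp)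
  let z : Fin n := ⟨0, hn⟩
  have hpow : ∀ i : Fin n, (Pi.single z 1 : Fin n → F) ᵥ* rComp n χ ^ (i : ℕ) = Pi.single i 1 := by
    rintro ⟨i, hi⟩
    induction i with
    | zero => simp [z]
    | succ i ih =>
      rw [vecMul_pow_succ, ih (by omega)]
      funext k
      simp [Matrix.single_one_vecMul, rComp, hi, Pi.single_apply, Fin.ext_iff]
  have hk : (kry (rComp n χ) (Pi.single z 1)).det ≠ 0 := by
    have : kry (rComp n χ) (Pi.single z 1) = 1 := by
      ext i j
      rw [kry_row, hpow, Matrix.one_apply, Pi.single_apply]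
      simp only [eq_comm]
    rw [this, Matrix.det_one]; exact one_ne_zero
  refine ⟨⟨_, hk⟩, charpoly_eq hk hm hd ?_⟩
  rw [vecMul_aeval _ _ χ (show χ.natDegree < n + 1 by omega), Finset.sum_range_succ]
  have hlast : (Pi.single z 1 : Fin n → F) ᵥ* rComp n χ ^ n = fun k : Fin n => -χ.coeff (k : ℕ) := by
    have hthis : (Pi.single z 1 : Fin n → F) ᵥ* rComp n χ ^ (n - 1 + 1) = fun k : Fin n => -χ.coeff (k : ℕ) := by
      rw [vecMul_pow_succ, hpow ⟨n - 1, by omega⟩]
      funext k
      simp [Matrix.single_one_vecMul, rComp, show ¬ (n - 1 + 1 < n) by omega]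
    rwa [show n - 1 + 1 = n by omega] at hthis
  have hc1 : χ.coeff n = 1 := hd ▸ hm.coeff_natDegree
  funext k
  rw [hlast, hc1, one_smul, Pi.add_apply, Finset.sum_apply]
  rw [← Fin.sum_univ_eq_sum_range (fun i => (χ.coeff i • ((Pi.single z 1 : Fin n → F) ᵥ* rComp n χ ^ i)) k) n]
  simp only [hpow, Pi.smul_apply, Pi.single_apply, smul_eq_mul, mul_ite, mul_one, mul_zero, Finset.sum_ite_eq,
    Finset.mem_univ, if_true]
  simp

/-- **A regular triangular matrix times a companion matrix** has any prescribed characteristic polynomial. -/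
theorem exists_lower_mul [Fintype F] (hq : 3 ≤ Fintype.card F) {N : ℕ} (hN : 3 ≤ N) (γ : Fin N → F) (hγ : ∀ i, γ i ≠ 0)
    {χY χ : F[X]} (hmY : χY.Monic) (hdY : χY.natDegree = N) (hY0 : χY.coeff 0 ≠ 0)
    (hm : χ.Monic) (hd : χ.natDegree = N) (hdet : χ.coeff 0 = (∏ i, γ i) * χY.coeff 0) :
    ∃ L, RegL γ L ∧ Cyc (L * rComp N χY) ∧ (L * rComp N χY).charpoly = χ := by
  classical
  set Y := rComp N χY with hY
  let z : Fin N := ⟨0, by omega⟩
  let o : Fin N := ⟨1, by omega⟩
  let w : Fin N := ⟨2, by omega⟩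
  let L₀ : F → Matrix (Fin N) (Fin N) F := fun s => Matrix.of fun i j =>
    if i = j then γ i else if i.val = j.val + 1 ∧ j ≠ z then (if i = w then s else 1) else 0
  have hYrow : ∀ (i : ℕ) (hi : i + 1 < N), Y ⟨i, by omega⟩ = Pi.single (⟨i + 1, hi⟩ : Fin N) 1 := by
    intro i hi; funext k
    simp [Y, rComp, hi, Pi.single_apply, Fin.ext_iff]
  -- the Krylov vectors from the first basis vector
  have hkry : ∀ s, (kry (L₀ s * Y) (Pi.single z 1)).det ≠ 0 := by
    intro s
    have hp : ∀ i : ℕ, (hi : i < N) → ((Pi.single z 1 : Fin N → F) ᵥ* (L₀ s * Y) ^ i) ⟨i, hi⟩ ≠ 0 ∧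
        ∀ j : Fin N, i < j.val → ((Pi.single z 1 : Fin N → F) ᵥ* (L₀ s * Y) ^ i) j = 0 := by
      intro i
      induction i with
      | zero =>
        intro hi
        refine ⟨by simp [z], fun j hj => ?_⟩
        simp [z, Pi.single_apply, Fin.ext_iff]; omega
      | succ i ih =>
        intro hi
        obtain ⟨h1, h2⟩ := ih (by omega)
        set u := (Pi.single z 1 : Fin N → F) ᵥ* (L₀ s * Y) ^ i with hu
        have hv : ∀ j : Fin N, i ≤ j.val → (u ᵥ* L₀ s) j = if j.val = i then γ j * u j else 0 := by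
          intro j hj
          simp only [Matrix.vecMul, dotProduct]
          rw [Finset.sum_eq_single j]
          · by_cases he : j.val = i
            · rw [if_pos he]; simp [L₀, mul_comm]
            · rw [if_neg he, h2 j (by omega), zero_mul]
          · intro b _ hb
            by_cases hb' : i < b.val
            · rw [h2 b hb', zero_mul]
            · have : L₀ s b j = 0 := by
                simp only [L₀, Matrix.of_apply, if_neg hb]
                rw [if_neg]; rintro ⟨h3, -⟩; omega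
              rw [this, mul_zero]
          · simp
        have hval : ∀ j : Fin N, i + 1 ≤ j.val →
            ((Pi.single z 1 : Fin N → F) ᵥ* (L₀ s * Y) ^ (i + 1)) j =
              (u ᵥ* L₀ s) ⟨i, by omega⟩ * (if j.val = i + 1 then 1 else 0) := by
          intro j hj
          rw [vecMul_pow_succ, ← hu, ← Matrix.vecMul_vecMul]
          simp only [Matrix.vecMul, dotProduct]
          rw [Finset.sum_eq_single (⟨i, by omega⟩ : Fin N)]
          · congr 1
            simp [Y, rComp, show i + 1 < N by omega, Fin.ext_iff]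
          · intro b _ hb
            by_cases hb' : i ≤ b.val
            · have h3 := hv b hb'
              rw [if_neg (fun h => hb (Fin.ext h))] at h3
              rw [show (∑ x, u x * L₀ s x b) = 0 from h3, zero_mul]
            · have : Y b j = 0 := by
                simp [Y, rComp, show b.val + 1 < N by omega, Fin.ext_iff]; omega
              rw [this, mul_zero]
          · simp
        refine ⟨?_, fun j hj => ?_⟩
        · rw [hval _ le_rfl, if_pos rfl, mul_one, hv _ le_rfl, if_pos rfl]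
          exact mul_ne_zero (hγ _) h1
        · rw [hval j (by omega), if_neg (by omega), mul_zero]
    exact kry_det_of_upper _ (fun i j hij => (hp i.val i.2).2 j hij) (fun i => (hp i.val i.2).1)
  -- shift to the second basis vector
  have hfirst : ∀ s, (Pi.single z 1 : Fin N → F) ᵥ* (L₀ s * Y) = γ z • Pi.single o 1 := by
    intro s
    rw [← Matrix.vecMul_vecMul]
    have : (Pi.single z 1 : Fin N → F) ᵥ* L₀ s = γ z • Pi.single z 1 := by
      funext j
      simp [Matrix.single_one_vecMul, L₀, Pi.single_apply, z, Fin.ext_iff, eq_comm]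
    rw [this, Matrix.smul_vecMul, Matrix.single_one_vecMul]
    congr 1
    exact hYrow 0 (by omega)
  have hYdet : Y.det ≠ 0 := by
    rw [Matrix.det_eq_sign_charpoly_coeff, (cyc_rComp hmY hdY).2]
    exact mul_ne_zero (pow_ne_zero _ (by simp)) hY0
  have hdetM : ∀ s, (L₀ s * Y).det ≠ 0 := by
    intro s
    rw [Matrix.det_mul]
    refine mul_ne_zero ?_ hYdet
    rw [Matrix.det_of_lowerTriangular]
    · exact Finset.prod_ne_zero_iff.2 fun i _ => by simp [L₀, hγ i]
    · intro i j hij
      have h' : i.val < j.val := hij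
      simp only [L₀, Matrix.of_apply]
      rw [if_neg (fun h => by subst h; omega), if_neg (fun h => by omega)]
  have hkry1 : ∀ s, (kry (L₀ s * Y) (Pi.single o 1)).det ≠ 0 := by
    intro s
    have : kry (L₀ s * Y) (Pi.single z 1) * (L₀ s * Y) = γ z • kry (L₀ s * Y) (Pi.single o 1) := by
      ext i j
      rw [Matrix.mul_apply_eq_vecMul, kry_row, Matrix.vecMul_vecMul, ← pow_succ, pow_succ', ← Matrix.vecMul_vecMul,
        hfirst, Matrix.smul_vecMul]
      rfl
    intro h
    have h2 := congrArg Matrix.det this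
    rw [Matrix.det_mul, Matrix.det_smul, h, mul_zero] at h2
    exact mul_ne_zero (hkry s) (hdetM s) h2
  choose x hx hxk using fun s => exists_assign (hkry1 s) hm hd
  -- the trace fixes the entry below the first diagonal entry
  have htr : ∀ s, (L₀ s * Y).trace + x s o = -χ.coeff (N - 1) := by
    intro s
    have h : Matrix.trace (L₀ s * Y + vecMulVec (x s) (Pi.single o 1)) = -χ.coeff (N - 1) := by
      haveI : Nonempty (Fin N) := ⟨z⟩
      rw [Matrix.trace_eq_neg_charpoly_coeff, hx s, Fintype.card_fin]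
    rwa [Matrix.trace_add, Matrix.trace_vecMulVec, dotProduct_single, mul_one] at h
  have hts : ∀ s, (L₀ s * Y).trace = (L₀ 0 * Y).trace + s := by
    intro s
    have hdiff : L₀ s * Y - L₀ 0 * Y = (Matrix.single w o s) * Y := by
      rw [← Matrix.sub_mul]
      congr 1
      ext i j
      simp only [L₀, Matrix.sub_apply, Matrix.of_apply, Matrix.single_apply]
      by_cases hij : i = j
      · subst hij
        rw [if_pos rfl, if_pos rfl, sub_self, if_neg]
        rintro ⟨rfl, h⟩; simp [w, o, Fin.ext_iff] at h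
      · rw [if_neg hij, if_neg hij]
        by_cases hc : i.val = j.val + 1 ∧ j ≠ z
        · rw [if_pos hc, if_pos hc]
          by_cases hiw : i = w
          · rw [if_pos hiw, if_pos hiw, if_pos ⟨hiw.symm, Fin.ext (by subst hiw; simp [w, o] at hc ⊢; omega)⟩, sub_zero]
          · rw [if_neg hiw, if_neg hiw, sub_self, if_neg (fun h => hiw h.1.symm)]
        · rw [if_neg hc, if_neg hc, sub_self, if_neg]
          rintro ⟨rfl, rfl⟩
          exact hc ⟨by simp [w, o], by simp [o, z, Fin.ext_iff]⟩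
    have h2 := congrArg Matrix.trace hdiff
    rw [Matrix.trace_sub, Matrix.trace_single_mul] at h2
    have : Y o w = 1 := by simp [Y, rComp, o, w, show 1 + 1 < N by omega]
    rw [this] at h2
    linear_combination h2
  obtain ⟨s, hs0, hsK⟩ : ∃ s : F, s ≠ 0 ∧ s ≠ -χ.coeff (N - 1) - (L₀ 0 * Y).trace := by
    obtain ⟨s, hs⟩ := Finset.exists_mem_notMem_of_card_lt_card
      (s := ({0, -χ.coeff (N - 1) - (L₀ 0 * Y).trace} : Finset F)) (t := Finset.univ)
      (by rw [Finset.card_univ]; exact lt_of_le_of_lt Finset.card_le_two (by omega))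
    exact ⟨s, by simp at hs; exact hs.1, by simp at hs; exact hs.2⟩
  have hxo : x s o ≠ 0 := by
    intro h
    have := htr s
    rw [hts, h, add_zero] at this
    exact hsK (by linear_combination this)
  set L := L₀ s + vecMulVec (x s) (Pi.single z 1) with hL
  have hLY : L * Y = L₀ s * Y + vecMulVec (x s) (Pi.single o 1) := by
    rw [hL, Matrix.add_mul, Matrix.vecMulVec_mul, Matrix.single_one_vecMul]
    congr 2
    exact hYrow 0 (by omega)
  have hL00 : L z z = γ z + x s z := by simp [hL, L₀, Matrix.vecMulVec_apply]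
  have hLlow : ∀ i j : Fin N, i < j → L i j = 0 := by
    intro i j hij
    have h' : i.val < j.val := hij
    simp only [hL, Matrix.add_apply, L₀, Matrix.of_apply, Matrix.vecMulVec_apply]
    rw [if_neg (fun h => by subst h; omega), if_neg (fun h => by omega), Pi.single_eq_of_ne (fun h => by subst h; simp [z] at h'), mul_zero, add_zero]
  have hLdiag : ∀ i : Fin N, i ≠ z → L i i = γ i := by
    intro i hi; simp [hL, L₀, Matrix.vecMulVec_apply, Pi.single_eq_of_ne hi]
  have hxz : x s z = 0 := by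
    have h1 : (L * Y).det = (-1) ^ N * χ.coeff 0 := by
      rw [hLY, Matrix.det_eq_sign_charpoly_coeff, hx s, Fintype.card_fin]
    rw [Matrix.det_mul, Matrix.det_of_lowerTriangular L hLlow,
      Matrix.det_eq_sign_charpoly_coeff Y, (cyc_rComp hmY hdY).2, Fintype.card_fin, hdet] at h1
    rw [← Finset.mul_prod_erase (Finset.univ : Finset (Fin N)) (fun i => L i i) (Finset.mem_univ z), ← Finset.mul_prod_erase (Finset.univ : Finset (Fin N)) γ (Finset.mem_univ z),
      Finset.prod_congr rfl (fun i hi => hLdiag i (Finset.ne_of_mem_erase hi)), hL00] at h1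
    have hne : (∏ i ∈ Finset.univ.erase z, γ i) * ((-1) ^ N * χY.coeff 0) ≠ 0 :=
      mul_ne_zero (Finset.prod_ne_zero_iff.2 fun i _ => hγ i) (mul_ne_zero (pow_ne_zero _ (by simp)) hY0)
    have h2 : x s z * ((∏ i ∈ Finset.univ.erase z, γ i) * ((-1) ^ N * χY.coeff 0)) = 0 := by
      linear_combination h1
    exact (mul_eq_zero.1 h2).resolve_right hne
  refine ⟨L, ⟨⟨hLlow, fun i => ?_⟩, fun i j hij _ => ?_⟩, ⟨(Pi.single o 1 : Fin N → F), ?_⟩, ?_⟩
  · by_cases hi : i = z
    · subst hi; rw [hL00, hxz, add_zero]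
    · exact hLdiag i hi
  · simp only [hL, Matrix.add_apply, L₀, Matrix.of_apply, Matrix.vecMulVec_apply]
    rw [if_neg (fun h => by subst h; omega)]
    by_cases hj : j = z
    · subst hj
      have hi : i = o := Fin.ext (by simpa [z, o] using hij)
      subst hi
      rw [if_neg (fun h => h.2 rfl), Pi.single_eq_same, mul_one, zero_add]
      exact hxo
    · rw [if_pos ⟨hij, hj⟩, Pi.single_eq_of_ne hj, mul_zero, add_zero]
      split_ifs
      · exact hs0
      · exact one_ne_zero
  · rw [hLY]; exact hxk s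
  · rw [hLY]; exact hx s

lemma similar_trans {A B C P R : Matrix (Fin n) (Fin n) F} (h₁ : P * A = B * P) (h₂ : R * B = C * R) :
    (R * P) * A = C * (R * P) := by
  rw [Matrix.mul_assoc, h₁, ← Matrix.mul_assoc, h₂, Matrix.mul_assoc]

lemma cyc_inv {T : Matrix (Fin n) (Fin n) F} (hT : Cyc T) (hu : IsUnit T.det) {μ : F} (hμ : μ ≠ 0) :
    Cyc (μ • T⁻¹) := by
  classical
  obtain ⟨φ, hφ⟩ := hT
  refine ⟨φ ᵥ* T ^ (n - 1), ?_⟩
  have key : ∀ i : ℕ, i < n → (φ ᵥ* T ^ (n - 1)) ᵥ* (μ • T⁻¹) ^ i = μ ^ i • (φ ᵥ* T ^ (n - 1 - i)) := by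
    intro i
    induction i with
    | zero => intro _; simp
    | succ i ih =>
      intro hi
      rw [vecMul_pow_succ, ih (by omega), Matrix.smul_vecMul, Matrix.vecMul_smul, smul_smul, ← pow_succ]
      congr 1
      rw [show n - 1 - i = (n - 1 - (i + 1)) + 1 by omega, vecMul_pow_succ, Matrix.vecMul_vecMul,
        Matrix.mul_nonsing_inv _ hu, Matrix.vecMul_one]
  have he : kry (μ • T⁻¹) (φ ᵥ* T ^ (n - 1)) =
      Matrix.diagonal (fun i : Fin n => μ ^ (i : ℕ)) * (kry T φ).submatrix Fin.revPerm id := by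
    ext i j
    rw [Matrix.diagonal_mul, kry_row, key i i.2]
    simp [kry, Fin.val_rev, show n - 1 - i.val = n - (i.val + 1) by omega]
  rw [he, Matrix.det_mul, Matrix.det_diagonal, Matrix.det_permute]
  refine mul_ne_zero (Finset.prod_ne_zero_iff.2 fun i _ => pow_ne_zero _ hμ) (mul_ne_zero ?_ hφ)
  rcases Int.units_eq_one_or (Equiv.Perm.sign (Fin.revPerm : Equiv.Perm (Fin n))) with h | h <;> simp [h]

/-- Rank one maps with the same trace are similar. -/
lemma rankOne_similar [Fintype F] (hn : 2 ≤ n) {u ψ x φ : Fin n → F} (hu : u ≠ 0) (hψ : ψ ≠ 0) (hx : x ≠ 0)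
    (hφ : φ ≠ 0) (h : ψ ⬝ᵥ u = φ ⬝ᵥ x) :
    ∃ P : Matrix (Fin n) (Fin n) F, IsUnit P.det ∧ P * vecMulVec u ψ = vecMulVec x φ * P := by
  classical
  -- move the vectors
  have hmove : ∀ a b : Fin n → F, a ≠ 0 → b ≠ 0 → ∃ P : Matrix (Fin n) (Fin n) F, IsUnit P.det ∧ P *ᵥ a = b := by
    intro a b ha hb
    obtain ⟨Pa, hPa, hca⟩ := H41.Reg.exists_col a ha ⟨0, by omega⟩
    obtain ⟨Pb, hPb, hcb⟩ := H41.Reg.exists_col b hb ⟨0, by omega⟩
    have hinv : Pa⁻¹ *ᵥ a = Pi.single (⟨0, by omega⟩ : Fin n) 1 := by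
      have : Pa *ᵥ Pi.single (⟨0, by omega⟩ : Fin n) 1 = a := by
        funext k; simp [hca]
      rw [← this, Matrix.mulVec_mulVec, Matrix.nonsing_inv_mul _ hPa, Matrix.one_mulVec]
    refine ⟨Pb * Pa⁻¹, ?_, ?_⟩
    · rw [Matrix.det_mul]; exact hPb.mul (Matrix.isUnit_nonsing_inv_det _ hPa)
    · rw [← Matrix.mulVec_mulVec, hinv]
      funext k; simp [hcb]
  obtain ⟨P₁, hP₁, hP₁u⟩ := hmove u x hu hx
  set ψ' := ψ ᵥ* P₁⁻¹ with hψ'
  have hψ'0 : ψ' ≠ 0 := fun h0 => hψ (by
    have := congrArg (· ᵥ* P₁) h0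
    simpa [hψ', Matrix.vecMul_vecMul, Matrix.nonsing_inv_mul _ hP₁] using this)
  have hval : ψ' ⬝ᵥ x = φ ⬝ᵥ x := by
    rw [← h, ← hP₁u, hψ', ← Matrix.dotProduct_mulVec, Matrix.mulVec_mulVec, Matrix.nonsing_inv_mul _ hP₁,
      Matrix.one_mulVec]
  have h1 : P₁ * vecMulVec u ψ = vecMulVec x ψ' * P₁ := by
    rw [Matrix.mul_vecMulVec, hP₁u, Matrix.vecMulVec_mul, hψ', Matrix.vecMul_vecMul, Matrix.nonsing_inv_mul _ hP₁,
      Matrix.vecMul_one]
  -- fix `x`, move `ψ'` to `φ`
  have h2 : ∃ R : Matrix (Fin n) (Fin n) F, IsUnit R.det ∧ R *ᵥ x = x ∧ φ ᵥ* R = ψ' := by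
    by_cases hp : φ ⬝ᵥ x = 0
    · obtain ⟨y, hy1, hy2⟩ : ∃ y : Fin n → F, φ ⬝ᵥ y ≠ 0 ∧ ψ' ⬝ᵥ y ≠ 0 := by
        obtain ⟨i, hi⟩ := Function.ne_iff.1 hφ
        obtain ⟨j, hj⟩ := Function.ne_iff.1 hψ'0
        simp only [Pi.zero_apply] at hi hj
        by_cases h3 : ψ' i = 0
        · by_cases h4 : φ j = 0
          · exact ⟨Pi.single i 1 + Pi.single j 1, by simp [h4, hi], by simp [h3, hj]⟩
          · exact ⟨Pi.single j 1, by simp [h4], by simp [hj]⟩
        · exact ⟨Pi.single i 1, by simp [hi], by simp [h3]⟩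
      refine ⟨1 + vecMulVec ((φ ⬝ᵥ y)⁻¹ • y) (ψ' - φ), ?_, ?_, ?_⟩
      · rw [Matrix.vecMulVec_eq Unit, Matrix.det_one_add_replicateCol_mul_replicateRow, isUnit_iff_ne_zero,
          dotProduct_smul, sub_dotProduct, smul_eq_mul, mul_sub, inv_mul_cancel₀ hy1, add_sub_cancel]
        exact mul_ne_zero (inv_ne_zero hy1) hy2
      · rw [Matrix.add_mulVec, Matrix.one_mulVec, Matrix.vecMulVec_mulVec, sub_dotProduct, hval, sub_self]
        simp
      · rw [Matrix.vecMul_add, Matrix.vecMul_one, Matrix.vecMul_vecMulVec, dotProduct_smul, smul_eq_mul,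
          inv_mul_cancel₀ hy1, one_smul, add_sub_cancel]
    · refine ⟨1 + vecMulVec ((φ ⬝ᵥ x)⁻¹ • x) (ψ' - φ), ?_, ?_, ?_⟩
      · rw [Matrix.vecMulVec_eq Unit, Matrix.det_one_add_replicateCol_mul_replicateRow, dotProduct_smul,
          sub_dotProduct, hval, sub_self, smul_zero, add_zero]
        exact isUnit_one
      · rw [Matrix.add_mulVec, Matrix.one_mulVec, Matrix.vecMulVec_mulVec, sub_dotProduct, hval, sub_self]
        simp
      · rw [Matrix.vecMul_add, Matrix.vecMul_one, Matrix.vecMul_vecMulVec, dotProduct_smul, smul_eq_mul,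
          inv_mul_cancel₀ hp, one_smul, add_sub_cancel]
  obtain ⟨R, hR, hRx, hφR⟩ := h2
  refine ⟨R * P₁, by rw [Matrix.det_mul]; exact hR.mul hP₁, similar_trans h1 ?_⟩
  rw [Matrix.mul_vecMulVec, hRx, Matrix.vecMulVec_mul, hφR]

/-- The bidiagonal regular representative. -/
def bidiag (β : Fin n → F) : Matrix (Fin n) (Fin n) F :=
  Matrix.of fun i j => if i = j then β i else if i.val = j.val + 1 then 1 else 0

lemma bidiag_regL (β : Fin n → F) : RegL β (bidiag β) := by
  refine ⟨⟨fun i j hij => ?_, fun i => by simp [bidiag]⟩, fun i j hij _ => ?_⟩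
  · have h' : i.val < j.val := hij
    simp only [bidiag, Matrix.of_apply]
    rw [if_neg (fun h => by subst h; omega), if_neg (by omega)]
  · simp only [bidiag, Matrix.of_apply]
    rw [if_neg (fun h => by subst h; omega), if_pos hij]
    exact one_ne_zero

/-- **Rank one modifications of scalars** are products of two cyclic classes, one of them split. -/
theorem exists_prod_rankOne [Fintype F] {N : ℕ} (hN : 3 ≤ N) {T T' : Matrix (Fin N) (Fin N) F}
    {β : Fin N → F} (hT : Cyc T) (hs : SplitBy T β) (hβ : ∀ i, β i ≠ 0) (hT' : Cyc T') {μ : F} (hμ : μ ≠ 0)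
    {u ψ : Fin N → F} (hu : u ≠ 0) (hψ : ψ ≠ 0)
    (hdet : T.det * T'.det = (μ • (1 : Matrix (Fin N) (Fin N) F) + vecMulVec u ψ).det) :
    ∃ A B P R S : Matrix (Fin N) (Fin N) F, IsUnit P.det ∧ IsUnit R.det ∧ IsUnit S.det ∧
      P * T = A * P ∧ R * T' = B * R ∧ S * (μ • (1 : Matrix _ _ F) + vecMulVec u ψ) = (A * B) * S := by
  classical
  obtain ⟨σ, hσ⟩ := exists_grouped β
  set γ := β ∘ σ with hγ
  have hγ0 : ∀ i, γ i ≠ 0 := fun i => hβ _
  set L := bidiag γ with hL
  have hLc : Cyc L := cyc_lower (bidiag_regL γ).1 hγ0 hσ (bidiag_regL γ).2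
  have hsL : SplitBy L γ := splitBy_lower (bidiag_regL γ).1
  have hLdet : IsUnit L.det := by
    rw [hsL.det, isUnit_iff_ne_zero]; exact Finset.prod_ne_zero_iff.2 fun i _ => hγ0 i
  obtain ⟨P, hP, hPT⟩ := cyc_similar hT hLc (by rw [splitBy_perm hs σ, hsL])
  have hTL : T.det = L.det := by
    rw [hs.det, hsL.det]; exact (Equiv.prod_comp σ β).symm
  set M := μ • L⁻¹ with hM
  obtain ⟨φ, hφ⟩ := cyc_inv hLc hLdet hμ
  obtain ⟨x, hx, hxk⟩ := exists_assign hφ (Matrix.charpoly_monic T') (charpoly_natDegree_fin T')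
  have hφ0 : φ ≠ 0 := by
    intro h
    refine hφ (Matrix.det_eq_zero_of_row_eq_zero (⟨0, by omega⟩ : Fin N) fun j => ?_)
    rw [kry_row, h, Matrix.zero_vecMul]; rfl
  have hfac : ∀ (y : Fin N → F) (χ : Fin N → F),
      L * (M + vecMulVec y χ) = μ • (1 : Matrix (Fin N) (Fin N) F) + vecMulVec (L *ᵥ y) χ := by
    intro y χ
    rw [Matrix.mul_add, hM, Matrix.mul_smul, Matrix.mul_nonsing_inv _ hLdet, Matrix.mul_vecMulVec]
  have hd1 : ∀ a c : Fin N → F, (μ • (1 : Matrix (Fin N) (Fin N) F) + vecMulVec a c).det =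
      μ ^ (N - 1) * (μ + c ⬝ᵥ a) := by
    intro a c
    have : μ • (1 : Matrix (Fin N) (Fin N) F) + vecMulVec a c = μ • (1 + vecMulVec (μ⁻¹ • a) c) := by
      rw [smul_add, Matrix.smul_vecMulVec, smul_smul, mul_inv_cancel₀ hμ, one_smul]
    rw [this, Matrix.det_smul, Fintype.card_fin, Matrix.vecMulVec_eq Unit,
      Matrix.det_one_add_replicateCol_mul_replicateRow, dotProduct_smul, smul_eq_mul]
    rw [show μ ^ N = μ ^ (N - 1) * μ by rw [← pow_succ]; congr 1; omega, mul_assoc]
    congr 1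
    field_simp
  suffices h : ∃ (y χ : Fin N → F), y ≠ 0 ∧ χ ≠ 0 ∧
      Cyc (M + vecMulVec y χ) ∧ (M + vecMulVec y χ).charpoly = T'.charpoly by
    obtain ⟨y, χ, hy, hχ, hc, hch⟩ := h
    obtain ⟨R, hR, hRT⟩ := cyc_similar hT' hc hch.symm
    have hy' : L *ᵥ y ≠ 0 := fun h0 => hy (by
      have := congrArg (L⁻¹ *ᵥ ·) h0
      simpa [Matrix.mulVec_mulVec, Matrix.nonsing_inv_mul _ hLdet] using this)
    have hdet' : T.det * T'.det = (μ • (1 : Matrix (Fin N) (Fin N) F) + vecMulVec (L *ᵥ y) χ).det := by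
      rw [← hfac, Matrix.det_mul, hTL, Matrix.det_eq_sign_charpoly_coeff T',
        Matrix.det_eq_sign_charpoly_coeff (M + vecMulVec y χ), hch]
    rw [hdet, hd1, hd1] at hdet'
    obtain ⟨S, hS, hSg⟩ := rankOne_similar (by omega) hu hψ hy' hχ
      (by linear_combination mul_left_cancel₀ (pow_ne_zero _ hμ) hdet')
    refine ⟨L, M + vecMulVec y χ, P, R, S, hP, hR, hS, hPT, hRT, ?_⟩
    rw [hfac, Matrix.mul_add, Matrix.add_mul, hSg, Matrix.mul_smul, Matrix.smul_mul, Matrix.mul_one, Matrix.one_mul]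
  by_cases hx0 : x = 0
  swap
  · exact ⟨x, φ, hx0, hφ0, ⟨φ, hxk⟩, hx⟩
  · -- equal characteristic polynomials: use a corner
    subst hx0
    rw [Matrix.zero_vecMulVec, add_zero] at hx
    let lastN : Fin N := ⟨N - 1, by omega⟩
    let z : Fin N := ⟨0, by omega⟩
    have hlowM : H41.IsLowerWith (fun i => μ * (γ i)⁻¹) M := by
      haveI : Invertible L := Matrix.invertibleOfIsUnitDet L hLdet
      have hLt : Matrix.BlockTriangular L OrderDual.toDual := fun i j h => (bidiag_regL γ).1.1 i j h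
      have hinv := Matrix.blockTriangular_inv_of_blockTriangular hLt
      refine ⟨fun i j hij => ?_, fun i => ?_⟩
      · simp [hM, hinv (show OrderDual.toDual j < OrderDual.toDual i from hij)]
      · have h1 := congrFun (congrFun (Matrix.mul_nonsing_inv L hLdet) i) i
        rw [Matrix.mul_apply, Finset.sum_eq_single i] at h1
        · rw [show L i i = γ i from (bidiag_regL γ).1.2 i, Matrix.one_apply_eq] at h1
          rw [hM, Matrix.smul_apply, smul_eq_mul, eq_inv_of_mul_eq_one_right h1]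
        · intro b _ hb
          rcases lt_or_gt_of_ne hb with hb' | hb'
          · rw [hinv (show OrderDual.toDual i < OrderDual.toDual b from hb'), mul_zero]
          · rw [show L i b = 0 from (bidiag_regL γ).1.1 i b hb', zero_mul]
        · simp
    have hlow : H41.IsLowerWith (fun i => μ * (γ i)⁻¹) (M + vecMulVec (Pi.single lastN 1) (Pi.single z 1)) := by
      refine ⟨fun i j hij => ?_, fun i => ?_⟩
      · have hj : j ≠ z := fun h => by subst h; exact Nat.not_lt_zero _ (show i.val < z.val from hij)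
        simp [hlowM.1 i j hij, Matrix.vecMulVec_apply, Pi.single_eq_of_ne hj]
      · rw [Matrix.add_apply, hlowM.2, Matrix.vecMulVec_apply, Pi.single_apply, Pi.single_apply]
        by_cases hi : i = lastN
        · rw [if_neg (show i ≠ z by subst hi; simp [lastN, z, Fin.ext_iff]; omega), mul_zero, add_zero]
        · rw [if_neg hi, zero_mul, add_zero]
    refine ⟨Pi.single lastN 1, Pi.single z 1, by simp, by simp, ?_, ?_⟩
    · refine cyc_lower hlow (fun i => mul_ne_zero hμ (inv_ne_zero (hγ0 i))) ?_ ?_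
      · intro i j l hij hjl he
        have := hσ i j l hij hjl (inv_injective (mul_left_cancel₀ hμ he))
        show μ * (γ j)⁻¹ = μ * (γ i)⁻¹
        rw [show γ j = γ i from this]
      · intro i j hij he
        have hje : γ i = γ j := inv_injective (mul_left_cancel₀ hμ he)
        have hcorner : vecMulVec (Pi.single lastN (1 : F)) (Pi.single z 1) i j = 0 := by
          rw [Matrix.vecMulVec_apply, Pi.single_apply, Pi.single_apply]
          by_cases hi : i = lastN
          · rw [if_neg (show j ≠ z by subst hi; intro hj; subst hj; simp [lastN, z] at hij; omega), mul_zero]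
          · rw [if_neg hi, zero_mul]
        rw [Matrix.add_apply, hcorner, add_zero]
        -- the inverse of a bidiagonal matrix
        have h1 := congrFun (congrFun (Matrix.mul_nonsing_inv L hLdet) i) j
        have h2 : ∀ k, M k j = μ * L⁻¹ k j := fun k => by simp [hM]
        rw [h2]
        refine mul_ne_zero hμ fun h0 => ?_
        rw [Matrix.mul_apply, Finset.sum_eq_single j] at h1
        · rw [Matrix.one_apply_ne (fun h => by subst h; omega)] at h1
          have hjj := hlowM.2 j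
          rw [h2] at hjj
          rw [mul_left_cancel₀ hμ hjj] at h1
          exact mul_ne_zero ((bidiag_regL γ).2 i j hij hje) (inv_ne_zero (hγ0 j)) h1
        · intro b _ hb
          by_cases hbi : b = i
          · subst hbi; rw [h0, mul_zero]
          · have : L i b = 0 := by
              simp only [hL, bidiag, Matrix.of_apply]
              rw [if_neg (Ne.symm hbi), if_neg (fun h => hb (Fin.ext (by omega)))]
            rw [this, zero_mul]
        · simp
    · rw [splitBy_lower hlow, ← hx, splitBy_lower hlowM]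

end H89.CN
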