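import Cfsg.Agent.H89.CN.Cov

/-!
Two conjugates of a companion matrix with a lower triangular cyclic product.
-/

set_option autoImplicit false

namespace H89.CN

open Matrix Polynomial

variable {F : Type*} [Field F]

lemma vecMul_sum {m : ℕ} (u : Fin m → F) (M : Matrix (Fin m) (Fin m) F) (j : Fin m) :
    (u ᵥ* M) j = ∑ b, u b * M b j := rfl

/-- The column companion matrix. -/
def cComp (m : ℕ) (f : F[X]) : Matrix (Fin m) (Fin m) F := (rComp m f)ᵀ

/-- The sum of the indices below `m`. -/
def tri (m : ℕ) : ℕ := ∑ i ∈ Finset.range m, i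

lemma sign_revPerm : ∀ m : ℕ, (((Equiv.Perm.sign (Fin.revPerm : Equiv.Perm (Fin m))) : ℤ) : F) = (-1) ^ tri m
  | 0 => by simp [tri, Subsingleton.elim (Fin.revPerm : Equiv.Perm (Fin 0)) 1]
  | m + 1 => by
    have h1 : ((1 : Matrix (Fin (m + 1)) (Fin (m + 1)) F).submatrix Fin.revPerm id).det =
        (-1) ^ m * ((1 : Matrix (Fin m) (Fin m) F).submatrix Fin.revPerm id).det := by
      set A := (1 : Matrix (Fin (m + 1)) (Fin (m + 1)) F).submatrix Fin.revPerm id with hA
      have e1 : A (Fin.last m) 0 = 1 := by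
        show (1 : Matrix (Fin (m + 1)) (Fin (m + 1)) F) (Fin.last m).rev 0 = 1
        rw [Fin.rev_last, Matrix.one_apply_eq]
      have e0 : ∀ i, i ≠ Fin.last m → A i 0 = 0 := by
        intro i hi
        show (1 : Matrix (Fin (m + 1)) (Fin (m + 1)) F) i.rev 0 = 0
        exact Matrix.one_apply_ne fun h => hi (by rw [← Fin.rev_rev i, h, Fin.rev_zero])
      have e2 : A.submatrix (Fin.last m).succAbove Fin.succ =
          (1 : Matrix (Fin m) (Fin m) F).submatrix Fin.revPerm id := by
        ext i j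
        simp only [Fin.succAbove_last]
        show (1 : Matrix (Fin (m + 1)) (Fin (m + 1)) F) i.castSucc.rev j.succ = (1 : Matrix (Fin m) (Fin m) F) i.rev j
        rw [Fin.rev_castSucc, Matrix.one_apply, Matrix.one_apply]
        simp only [Fin.succ_inj]
      rw [Matrix.det_succ_column_zero, Finset.sum_eq_single (Fin.last m)]
      · rw [e1, e2, Fin.val_last, mul_one]
      · intro i _ hi
        rw [e0 i hi, mul_zero, zero_mul]
      · simp
    rw [Matrix.det_permute, Matrix.det_permute, Matrix.det_one, Matrix.det_one, mul_one, mul_one, sign_revPerm m] at h1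
    rw [h1, ← pow_add]
    congr 1
    rw [tri, tri, Finset.sum_range_succ]
    ring

lemma cyc_cComp {m : ℕ} {f : F[X]} (hf : f.Monic) (hd : f.natDegree = m) :
    (cComp m f).charpoly = f ∧ ∀ h : 0 < m, (kry (cComp m f) (Pi.single ⟨m - 1, by omega⟩ 1)).det = (-1) ^ tri m := by
  refine ⟨by rw [cComp, Matrix.charpoly_transpose, (cyc_rComp hf hd).2], fun h => ?_⟩
  set last : Fin m := ⟨m - 1, by omega⟩
  have key : ∀ i : ℕ, (hi : i < m) → ((Pi.single last 1 : Fin m → F) ᵥ* cComp m f ^ i) ⟨m - 1 - i, by omega⟩ = 1 ∧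
      ∀ j : Fin m, j.val < m - 1 - i → ((Pi.single last 1 : Fin m → F) ᵥ* cComp m f ^ i) j = 0 := by
    intro i
    induction i with
    | zero =>
      intro _
      refine ⟨by simp [last], fun j hj => ?_⟩
      simp only [pow_zero, Matrix.vecMul_one]
      exact Pi.single_eq_of_ne (fun he => by rw [he] at hj; simp [last] at hj) _
    | succ i ih =>
      intro hi
      obtain ⟨h1, h2⟩ := ih (by omega)
      have hstep : ∀ (u : Fin m → F) (j : Fin m) (hj : j.val + 1 < m), (u ᵥ* cComp m f) j = u ⟨j.val + 1, hj⟩ := by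
        intro u j hj
        simp only [Matrix.vecMul, dotProduct, cComp, Matrix.transpose_apply, rComp, Matrix.of_apply, if_pos hj]
        rw [Finset.sum_eq_single (⟨j.val + 1, hj⟩ : Fin m)]
        · simp
        · intro b _ hb; rw [if_neg (fun he => hb (Fin.ext he)), mul_zero]
        · simp
      refine ⟨?_, fun j hj => ?_⟩
      · rw [vecMul_pow_succ, hstep _ _ (by simp only; omega)]
        convert h1 using 3
        simp only; omega
      · rw [vecMul_pow_succ, hstep _ j (by omega)]
        exact h2 _ (by simp only; omega)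
  set K := kry (cComp m f) (Pi.single last 1) with hK
  have h1 : (K.submatrix Fin.revPerm id).det = 1 := by
    rw [Matrix.det_of_upperTriangular]
    · refine Finset.prod_eq_one fun i _ => ?_
      have := (key (Fin.rev i).val (Fin.rev i).2).1
      have e : (⟨m - 1 - (Fin.rev i).val, by omega⟩ : Fin m) = i := Fin.ext (by simp [Fin.val_rev]; omega)
      rw [e] at this
      exact this
    · intro i j hij
      have h' : j.val < i.val := hij
      exact (key (Fin.rev i).val (Fin.rev i).2).2 j (by simp [Fin.val_rev]; omega)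
  rw [Matrix.det_permute, sign_revPerm] at h1
  rcases neg_one_pow_eq_or F (tri m) with hs | hs <;> rw [hs] at h1 ⊢
  · linear_combination h1
  · linear_combination -h1

/-- Products of two conjugate companion matrices, in general form. -/
lemma exists_pair_core {m : ℕ} (hm : 2 ≤ m) {f : F[X]} (hf : f.Monic) (hd : f.natDegree = m) (h0 : f.coeff 0 ≠ 0)
    (β s : Fin m → F) (hβ : ∀ i, β i ≠ 0) :
    ∃ Y P : Matrix (Fin m) (Fin m) F, P * cComp m f = Y * P ∧
      P.det * (∏ j : Fin m, ∏ i ∈ Finset.univ.filter (fun i : Fin m => 1 ≤ i.val ∧ i.val ≤ j.val), β i) = (-1) ^ tri m ∧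
      (∀ i j : Fin m, i < j → (cComp m f * Y) i j = 0) ∧
      (∀ i : Fin m, 1 ≤ i.val → (cComp m f * Y) i i = β i) ∧
      (∀ i j : Fin m, i.val = j.val + 1 → 1 ≤ j.val → (cComp m f * Y) i j = s j) ∧
      (cComp m f * Y) ⟨1, by omega⟩ ⟨0, by omega⟩ =
        -f.coeff (m - 1) - (∑ j ∈ Finset.univ.filter (fun j : Fin m => 1 ≤ j.val ∧ j.val + 1 < m), s j) +
          f.coeff 1 * (cComp m f * Y) ⟨0, by omega⟩ ⟨0, by omega⟩ / f.coeff 0 := by
  classical
  set C := cComp m f with hC
  let z : Fin m := ⟨0, by omega⟩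
  let last : Fin m := ⟨m - 1, by omega⟩
  let Y₀ : Matrix (Fin m) (Fin m) F := Matrix.of fun i j =>
    if j = z then 0 else if i.val + 1 = j.val then β j else if i = j ∧ j.val + 1 < m then s j else 0
  have hY₀0 : ∀ b j : Fin m, b.val + 1 ≠ j.val → (b ≠ j ∨ ¬ j.val + 1 < m) → Y₀ b j = 0 := by
    intro b j hbj hne
    simp only [Y₀, Matrix.of_apply, if_neg hbj]
    split_ifs with h1 h2
    · rfl
    · exact absurd h2 (by rintro ⟨h3, h4⟩; rcases hne with h | h; exacts [h h3, h h4])
    · rfl
  have hp : ∀ i : ℕ, (hi : i < m) → ((Pi.single z 1 : Fin m → F) ᵥ* Y₀ ^ i) ⟨i, hi⟩ =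
      ∏ k ∈ Finset.univ.filter (fun k : Fin m => 1 ≤ k.val ∧ k.val ≤ i), β k ∧
      ∀ j : Fin m, i < j.val → ((Pi.single z 1 : Fin m → F) ᵥ* Y₀ ^ i) j = 0 := by
    intro i
    induction i with
    | zero =>
      intro hi
      refine ⟨?_, fun j hj => ?_⟩
      · rw [Finset.filter_false_of_mem (fun k _ => by omega)]; simp [z]
      · simp only [pow_zero, Matrix.vecMul_one]
        exact Pi.single_eq_of_ne (fun he => by rw [he] at hj; simp [z] at hj) _
    | succ i ih =>
      intro hi
      obtain ⟨h1, h2⟩ := ih (by omega)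
      refine ⟨?_, fun j hj => ?_⟩
      · rw [vecMul_pow_succ, vecMul_sum]
        rw [Finset.sum_eq_single (⟨i, by omega⟩ : Fin m)]
        · rw [h1]
          have hY : Y₀ ⟨i, by omega⟩ ⟨i + 1, hi⟩ = β ⟨i + 1, hi⟩ := by
            simp [Y₀, z, Fin.ext_iff]
          rw [hY]
          have : Finset.univ.filter (fun k : Fin m => 1 ≤ k.val ∧ k.val ≤ i + 1) =
              insert ⟨i + 1, hi⟩ (Finset.univ.filter (fun k : Fin m => 1 ≤ k.val ∧ k.val ≤ i)) := by
            ext k; simp [Fin.ext_iff]; omega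
          rw [this, Finset.prod_insert (by simp), mul_comm]
        · intro b _ hb
          by_cases hb' : i < b.val
          · rw [h2 b hb', zero_mul]
          · have : b.val < i := lt_of_le_of_ne (not_lt.1 hb') (fun h => hb (Fin.ext h))
            have hY : Y₀ b ⟨i + 1, hi⟩ = 0 :=
              hY₀0 _ _ (by simp only; omega) (.inl fun h => by rw [h] at this; simp at this)
            rw [hY, mul_zero]
        · simp
      · rw [vecMul_pow_succ, vecMul_sum]
        refine Finset.sum_eq_zero fun b _ => ?_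
        by_cases hb' : i < b.val
        · rw [h2 b hb', zero_mul]
        · have hY : Y₀ b j = 0 := hY₀0 _ _ (by omega) (.inl fun h => by rw [h] at hb'; omega)
          rw [hY, mul_zero]
  have hk₀ : (kry Y₀ (Pi.single z 1)).det ≠ 0 := by
    refine kry_det_of_upper _ (fun i j hij => (hp i.val i.2).2 j hij) fun i => ?_
    rw [show i = (⟨i.val, i.2⟩ : Fin m) from rfl, (hp i.val i.2).1]
    exact Finset.prod_ne_zero_iff.2 fun k _ => hβ k
  obtain ⟨hCc, hCk⟩ := cyc_cComp hf hd
  obtain ⟨x, hx, hxk⟩ := exists_assign hk₀ hf hd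
  set Y := Y₀ + vecMulVec x (Pi.single z 1) with hY
  have hrow : ∀ i : ℕ, i < m → ∀ j : Fin m, i ≤ j.val →
      ((Pi.single z 1 : Fin m → F) ᵥ* Y ^ i) j = ((Pi.single z 1 : Fin m → F) ᵥ* Y₀ ^ i) j := by
    intro i
    induction i with
    | zero => intros; simp
    | succ i ih =>
      intro hi j hj
      rw [vecMul_pow_succ, hY, Matrix.vecMul_add, Matrix.vecMul_vecMulVec, Pi.add_apply, Pi.smul_apply,
        Pi.single_eq_of_ne (fun he => by rw [he] at hj; simp [z] at hj), smul_zero, add_zero, ← hY, vecMul_pow_succ]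
      rw [vecMul_sum, vecMul_sum]
      refine Finset.sum_congr rfl fun b _ => ?_
      by_cases hb : i ≤ b.val
      · rw [ih (by omega) b hb]
      · have : Y₀ b j = 0 := hY₀0 _ _ (by omega) (.inl fun h => by rw [h] at hb; omega)
        rw [this, mul_zero, mul_zero]
  have hdY : (kry Y (Pi.single z 1)).det =
      ∏ j : Fin m, ∏ i ∈ Finset.univ.filter (fun i : Fin m => 1 ≤ i.val ∧ i.val ≤ j.val), β i := by
    rw [Matrix.det_of_lowerTriangular]
    · refine Finset.prod_congr rfl fun i _ => ?_
      show ((Pi.single z 1 : Fin m → F) ᵥ* Y ^ (i : ℕ)) i = _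
      rw [hrow i.val i.2 i le_rfl]
      exact (hp i.val i.2).1
    · intro i j hij
      have h' : i.val < j.val := hij
      show ((Pi.single z 1 : Fin m → F) ᵥ* Y ^ (i : ℕ)) j = 0
      rw [hrow i.val i.2 j (by omega)]
      exact (hp i.val i.2).2 j h'
  refine ⟨Y, (kry Y (Pi.single z 1))⁻¹ * kry C (Pi.single last 1), ?_, ?_, ?_⟩
  · exact kry_conj hxk (hCc.trans hx.symm)
  · rw [Matrix.det_mul, hCk (by omega), Matrix.det_nonsing_inv, Ring.inverse_eq_inv', ← hdY]
    rw [mul_comm ((kry Y _).det)⁻¹, mul_assoc, inv_mul_cancel₀ hxk, mul_one]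
  -- entries of the product
  have hCmul : ∀ (i j : Fin m), (C * Y) i j =
      (if h : 1 ≤ i.val then Y ⟨i.val - 1, by omega⟩ j else 0) + (-f.coeff i) * Y last j := by
    intro i j
    rw [Matrix.mul_apply]
    have hent : ∀ k : Fin m, C i k = (if k = last then -f.coeff i else 0) + (if k.val + 1 = i.val then 1 else 0) := by
      intro k
      simp only [hC, cComp, Matrix.transpose_apply, rComp, Matrix.of_apply]
      by_cases hk : k.val + 1 < m
      · rw [if_pos hk, if_neg (show k ≠ last from fun h => by rw [h] at hk; simp [last] at hk; omega), zero_add]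
        by_cases h' : k.val + 1 = i.val
        · rw [if_pos h', if_pos h'.symm]
        · rw [if_neg h', if_neg (fun h => h' h.symm)]
      · have : k = last := Fin.ext (by simp [last]; omega)
        rw [if_neg hk, if_pos this, if_neg (by omega), add_zero]
    simp only [hent, add_mul, Finset.sum_add_distrib, ite_mul, zero_mul, Finset.sum_ite_eq', Finset.mem_univ, if_true,
      one_mul]
    rw [add_comm]
    congr 1
    by_cases hi : 1 ≤ i.val
    · rw [dif_pos hi, Finset.sum_eq_single (⟨i.val - 1, by omega⟩ : Fin m)]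
      · rw [if_pos]; simp only; omega
      · intro b _ hb; rw [if_neg]; intro h; exact hb (Fin.ext (by simp only; omega))
      · simp
    · rw [dif_neg hi]
      exact Finset.sum_eq_zero fun b _ => if_neg (by omega)
  have hYne : ∀ i j : Fin m, j ≠ z → Y i j = Y₀ i j := by
    intro i j hj
    simp [hY, Matrix.vecMulVec_apply, Pi.single_eq_of_ne hj]
  have hYz : ∀ i : Fin m, Y i z = x i := by
    intro i; simp [hY, Y₀, Matrix.vecMulVec_apply]
  have hYlast : ∀ j : Fin m, j ≠ z → Y last j = 0 := by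
    intro j hj
    rw [hYne _ _ hj]
    have := j.2
    exact hY₀0 _ _ (by simp [last]; omega) (by
      by_cases h : last = j
      · right; rw [← h]; simp [last]; omega
      · exact .inl h)
  have hCYne : ∀ i j : Fin m, j ≠ z → (C * Y) i j = if h : 1 ≤ i.val then Y₀ ⟨i.val - 1, by omega⟩ j else 0 := by
    intro i j hj
    rw [hCmul, hYlast j hj, mul_zero, add_zero]
    by_cases hi : 1 ≤ i.val
    · rw [dif_pos hi, dif_pos hi, hYne _ _ hj]
    · rw [dif_neg hi, dif_neg hi]
  refine ⟨fun i j hij => ?_, fun i hi => ?_, fun i j hij hj => ?_, ?_⟩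
  · have h' : i.val < j.val := hij
    rw [hCYne i j (fun he => by rw [he] at h'; simp [z] at h')]
    by_cases hi : 1 ≤ i.val
    · rw [dif_pos hi]
      exact hY₀0 _ _ (by simp only; omega) (.inl fun h => by have := congrArg Fin.val h; simp only at this; omega)
    · rw [dif_neg hi]
  · rw [hCYne i i (fun he => by rw [he] at hi; simp [z] at hi), dif_pos hi]
    simp [Y₀, z, Fin.ext_iff, show i.val ≠ 0 by omega, show i.val - 1 + 1 = i.val by omega]
  · rw [hCYne i j (fun he => by rw [he] at hj; simp [z] at hj), dif_pos (by omega)]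
    simp [Y₀, z, Fin.ext_iff, show j.val ≠ 0 by omega, show i.val - 1 = j.val by omega,
      show j.val + 1 < m by omega]
  · have h00 : (C * Y) z z = -f.coeff 0 * x last := by
      rw [hCmul, dif_neg (by simp [z]), zero_add, hYz]
    have h10 : (C * Y) ⟨1, by omega⟩ z = x z + -f.coeff 1 * x last := by
      rw [hCmul, dif_pos le_rfl, hYz, hYz]
      rfl
    have htr : Y.trace = x z + ∑ j ∈ Finset.univ.filter (fun j : Fin m => 1 ≤ j.val ∧ j.val + 1 < m), s j := by
      rw [Matrix.trace, ← Finset.add_sum_erase _ _ (Finset.mem_univ z)]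
      congr 1
      · exact hYz z
      · rw [Finset.sum_filter, ← Finset.sum_erase (a := z) Finset.univ
          (f := fun a : Fin m => if 1 ≤ a.val ∧ a.val + 1 < m then s a else 0) (by simp [z])]
        refine Finset.sum_congr rfl fun j hj => ?_
        have hjz : j ≠ z := Finset.ne_of_mem_erase hj
        have hj1 : 1 ≤ j.val := by
          rcases Nat.eq_zero_or_pos j.val with h | h
          · exact absurd (Fin.ext h) hjz
          · exact h
        rw [Matrix.diag_apply, hYne _ _ hjz]
        simp [Y₀, hjz, hj1]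
    haveI : Nonempty (Fin m) := ⟨z⟩
    have h2 := Matrix.trace_eq_neg_charpoly_coeff Y
    rw [htr, hx, Fintype.card_fin] at h2
    show (C * Y) ⟨1, _⟩ z = _ - _ + _ * (C * Y) z z / _
    rw [h00, h10]
    field_simp
    linear_combination h2

/-- A left eigenvector shared with the first factor. -/
def NoL {ι : Type*} [Fintype ι] (X T : Matrix ι ι F) (a : F) : Prop :=
  ∀ (l : ι → F) (ν : F), l ≠ 0 → l ᵥ* X = ν • l → l ᵥ* T ≠ a • l

/-- A right eigenvector shared with the first factor. -/
def NoR {ι : Type*} [Fintype ι] (X T : Matrix ι ι F) (a : F) : Prop :=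
  ∀ (v : ι → F) (ν : F), v ≠ 0 → X *ᵥ v = ν • v → T *ᵥ v ≠ a • v

lemma cComp_left {m : ℕ} {f : F[X]} {l : Fin m → F} {ν : F} (h : l ᵥ* cComp m f = ν • l) (j : Fin m)
    (hj : j.val + 1 < m) : l ⟨j.val + 1, hj⟩ = ν * l j := by
  have h1 := congrFun h j
  simp only [Matrix.vecMul, dotProduct, cComp, Matrix.transpose_apply, rComp, Matrix.of_apply, if_pos hj,
    Pi.smul_apply, smul_eq_mul] at h1
  rw [Finset.sum_eq_single (⟨j.val + 1, hj⟩ : Fin m)] at h1
  · simpa using h1
  · intro b _ hb; rw [if_neg (fun he => hb (Fin.ext he)), mul_zero]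
  · simp

lemma cComp_left_ne {m : ℕ} (hm : 2 ≤ m) {f : F[X]} (hf : f.Monic) (hd : f.natDegree = m) (h0 : f.coeff 0 ≠ 0)
    {l : Fin m → F} {ν : F} (hl : l ≠ 0) (h : l ᵥ* cComp m f = ν • l) : ν ≠ 0 ∧ ∀ j, l j ≠ 0 := by
  have hν : ν ≠ 0 := by
    rintro rfl
    rw [zero_smul] at h
    have hdet : (cComp m f).det ≠ 0 := by
      rw [Matrix.det_eq_sign_charpoly_coeff, (cyc_cComp hf hd).1]
      exact mul_ne_zero (pow_ne_zero _ (by simp)) h0
    exact hdet (Matrix.exists_vecMul_eq_zero_iff.1 ⟨l, hl, h⟩)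
  have hpow : ∀ (i : ℕ) (hi : i < m), l ⟨i, hi⟩ = ν ^ i * l ⟨0, by omega⟩ := by
    intro i
    induction i with
    | zero => intro hi; simp
    | succ i ih =>
      intro hi
      rw [cComp_left h ⟨i, by omega⟩ hi, ih (by omega), pow_succ]; ring
  have hl0 : l ⟨0, by omega⟩ ≠ 0 := fun h0 => hl (_root_.funext fun j => by
    rw [hpow j.val j.2, h0, mul_zero]; rfl)
  exact ⟨hν, fun j => by rw [hpow j.val j.2]; exact mul_ne_zero (pow_ne_zero _ hν) hl0⟩

/-- **Large blocks.** -/
theorem exists_pair_big [Fintype F] (hq : 3 ≤ Fintype.card F) {m : ℕ} (hm : 3 ≤ m) {f : F[X]} (hf : f.Monic)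
    (hd : f.natDegree = m) (h0 : f.coeff 0 ≠ 0) {b c : F} (hb : b ≠ 0) (hc : c ≠ 0)
    (hbc : b * c ^ (m - 1) = (cComp m f).det ^ 2) :
    ∃ Y P : Matrix (Fin m) (Fin m) F, P * cComp m f = Y * P ∧ P.det * c ^ tri m = (-1) ^ tri m ∧
      H41.IsLowerWith (fun i : Fin m => if i.val = 0 then b else c) (cComp m f * Y) ∧
      RU (cComp m f * Y) ∧ (∀ a, NoL (cComp m f) (cComp m f * Y) a) ∧ NoR (cComp m f) (cComp m f * Y) c := by
  classical
  let z : Fin m := ⟨0, by omega⟩
  let o : Fin m := ⟨1, by omega⟩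
  set K := -f.coeff (m - 1) + f.coeff 1 * b / f.coeff 0 -
    ∑ j ∈ (Finset.univ.filter (fun j : Fin m => 1 ≤ j.val ∧ j.val + 1 < m)).erase o, (1 : F) with hK
  obtain ⟨σ, hσ⟩ := Finset.exists_mem_notMem_of_card_lt_card (s := ({0, K} : Finset F)) (t := Finset.univ)
    (by rw [Finset.card_univ]; exact lt_of_le_of_lt Finset.card_le_two (by omega))
  simp only [Finset.mem_univ, true_and, Finset.mem_insert, Finset.mem_singleton, not_or] at hσ
  set β : Fin m → F := fun i => if i.val = 0 then b else c with hβ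
  have hβ0 : ∀ i, β i ≠ 0 := fun i => by simp only [hβ]; split_ifs <;> assumption
  set s : Fin m → F := Function.update (fun _ => 1) o σ with hs
  have hs0 : ∀ j, s j ≠ 0 := fun j => by
    rw [hs, Function.update_apply]; split_ifs <;> [exact hσ.1; exact one_ne_zero]
  obtain ⟨Y, P, hP, hPd, hup, hdiag, hsub, h10⟩ := exists_pair_core (by omega) hf hd h0 β s hβ0
  set T := cComp m f * Y with hT
  have hPd' : P.det * c ^ tri m = (-1) ^ tri m := by
    rw [← hPd]
    congr 1
    have hin : ∀ j : Fin m, (∏ i ∈ Finset.univ.filter (fun i : Fin m => 1 ≤ i.val ∧ i.val ≤ j.val), β i) =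
        c ^ j.val := by
      intro j
      rw [Finset.prod_congr rfl (g := fun _ => c) fun i hi => by
        simp only [Finset.mem_filter, Finset.mem_univ, true_and] at hi
        simp only [hβ]; rw [if_neg (by omega)], Finset.prod_const]
      congr 1
      have : (Finset.univ.filter (fun i : Fin m => 1 ≤ i.val ∧ i.val ≤ j.val)).image (fun i : Fin m => i.val) =
          Finset.Icc 1 j.val := by
        ext k
        simp only [Finset.mem_image, Finset.mem_filter, Finset.mem_univ, true_and, Finset.mem_Icc]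
        exact ⟨by rintro ⟨i, hi, rfl⟩; exact hi, fun hk => ⟨⟨k, by omega⟩, hk, rfl⟩⟩
      have hcard := congrArg Finset.card this
      rw [Finset.card_image_of_injective _ Fin.val_injective, Nat.card_Icc] at hcard
      omega
    rw [Finset.prod_congr rfl fun j _ => hin j, Finset.prod_pow_eq_pow_sum]
    congr 1
    exact (Fin.sum_univ_eq_sum_range (fun i => i) m).symm
  have hdetP : IsUnit P.det := by
    rw [isUnit_iff_ne_zero]; intro h; rw [h, zero_mul] at hPd'; exact pow_ne_zero _ (by simp : (-1 : F) ≠ 0) hPd'.symm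
  have hT00 : T z z = b := by
    have h1 : T.det = T z z * c ^ (m - 1) := by
      rw [Matrix.det_of_lowerTriangular T hup, ← Finset.mul_prod_erase _ _ (Finset.mem_univ z)]
      congr 1
      rw [Finset.prod_congr rfl (g := fun _ => c) fun i hi => by
        have hne : i.val ≠ 0 := fun h => Finset.ne_of_mem_erase hi (Fin.ext h)
        rw [hdiag i (by omega)]; simp [hβ, hne], Finset.prod_const, Finset.card_erase_of_mem (Finset.mem_univ z),
        Finset.card_univ, Fintype.card_fin]
    have h2 : T.det = b * c ^ (m - 1) := by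
      rw [hT, Matrix.det_mul, ← (show Sim (cComp m f) Y from ⟨P, hdetP, hP⟩).det_eq, hbc, sq]
    exact mul_right_cancel₀ (pow_ne_zero _ hc) (h1.symm.trans h2)
  have hlow : H41.IsLowerWith β T := ⟨hup, fun i => by
    by_cases hi : i.val = 0
    · rw [show i = z from Fin.ext hi, hT00]; simp [hβ, z]
    · exact hdiag i (by omega)⟩
  have hsum : (∑ j ∈ Finset.univ.filter (fun j : Fin m => 1 ≤ j.val ∧ j.val + 1 < m), s j) =
      σ + ∑ j ∈ (Finset.univ.filter (fun j : Fin m => 1 ≤ j.val ∧ j.val + 1 < m)).erase o, (1 : F) := by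
    rw [← Finset.add_sum_erase _ _ (show o ∈ Finset.univ.filter (fun j : Fin m => 1 ≤ j.val ∧ j.val + 1 < m) by
      simp [o]; omega)]
    rw [show s o = σ by simp [hs]]
    congr 1
    exact Finset.sum_congr rfl fun j hj => by rw [hs, Function.update_of_ne (Finset.ne_of_mem_erase hj)]
  have hT10 : T o z ≠ 0 := by
    rw [show T o z = _ from h10, hsum, show T ⟨0, _⟩ ⟨0, _⟩ = b from hT00]
    intro h
    exact hσ.2 (by rw [hK]; linear_combination -h)
  have hgr : Grouped β := by
    intro i j l hij hjl h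
    have h1 : i.val < j.val := hij
    have h2 : j.val < l.val := hjl
    simp only [hβ, show j.val ≠ 0 by omega, show l.val ≠ 0 by omega, if_false] at h ⊢
    exact h.symm
  have hru : RU T := by
    refine RU_lower hlow hgr fun i j hij _ => ?_
    by_cases hj : j.val = 0
    · rw [show i = o from Fin.ext (by simp [o]; omega), show j = z from Fin.ext hj]
      exact hT10
    · rw [hsub i j hij (by omega)]; exact hs0 j
  refine ⟨Y, P, hP, hPd', hlow, hru, ?_, ?_⟩
  · intro a l ν hl hX hTl
    change l ᵥ* T = a • l at hTl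
    obtain ⟨hν, hne⟩ := cComp_left_ne (by omega) hf hd h0 hl hX
    let p : Fin m := ⟨m - 1, by omega⟩
    let q : Fin m := ⟨m - 2, by omega⟩
    have hp := congrFun hTl p
    simp only [Matrix.vecMul, dotProduct, Pi.smul_apply, smul_eq_mul] at hp
    rw [Finset.sum_eq_single p] at hp
    · rw [hlow.2 p] at hp
      have hac : a = c := by
        have : β p = c := by simp [hβ, p]; omega
        rw [this, mul_comm] at hp
        exact (mul_right_cancel₀ (hne p) hp).symm
      have hq' := congrFun hTl q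
      simp only [Matrix.vecMul, dotProduct, Pi.smul_apply, smul_eq_mul] at hq'
      have hpq : p ≠ q := by simp [p, q, Fin.ext_iff]; omega
      rw [← Finset.add_sum_erase _ _ (Finset.mem_univ q), Finset.sum_eq_single p] at hq'
      · rw [hlow.2 q, hsub p q (by simp [p, q]; omega) (by simp [q]; omega)] at hq'
        have hβq : β q = c := by simp [hβ, q]; omega
        rw [hβq, hac] at hq'
        exact mul_ne_zero (hne p) (hs0 q) (by linear_combination hq')
      · intro i hi hip
        have h1 : i ≠ q := Finset.ne_of_mem_erase hi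
        have : i < q := by
          rw [Fin.lt_def]
          have : i.val ≠ m - 2 := fun h => h1 (Fin.ext h)
          have : i.val ≠ m - 1 := fun h => hip (Fin.ext h)
          have := i.2
          simp [q]; omega
        rw [hlow.1 i q this, mul_zero]
      · intro h; exact absurd (Finset.mem_erase.2 ⟨hpq, Finset.mem_univ _⟩) h
    · intro i _ hip
      have : i < p := by
        rw [Fin.lt_def]
        have : i.val ≠ m - 1 := fun h => hip (Fin.ext h)
        have := i.2
        simp [p]; omega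
      rw [hlow.1 i p this, mul_zero]
    · simp
  · intro v ν hv hX hTv
    change T *ᵥ v = c • v at hTv
    let p : Fin m := ⟨m - 1, by omega⟩
    have he : T *ᵥ Pi.single p 1 = c • Pi.single p 1 := by
      funext i
      rw [Matrix.mulVec_single_one, Matrix.col_apply, Pi.smul_apply, Pi.single_apply, smul_eq_mul]
      by_cases hi : i = p
      · rw [hi, hlow.2 p, if_pos rfl, mul_one]; simp [hβ, p]; omega
      · rw [if_neg hi, mul_zero, hlow.1 i p (lt_of_le_of_ne (Fin.le_def.2 (by simp [p]; have := i.2; omega)) hi)]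
    obtain ⟨t, rfl⟩ := hru c (Pi.single p 1) v (by simp) he hTv
    have ht : t ≠ 0 := fun h => hv (by rw [h, zero_smul])
    have h1 := congrFun hX z
    rw [Matrix.mulVec_smul, Pi.smul_apply, Matrix.mulVec_single_one, Matrix.col_apply] at h1
    simp [cComp, rComp, z, p, show ¬ (m - 1 + 1 < m) by omega, Fin.ext_iff, show (0 : ℕ) ≠ m - 1 by omega] at h1
    exact h0 (h1.resolve_left ht)

/-- **Blocks of size two.** -/
theorem exists_pair_two {f : F[X]} (hf : f.Monic) (hd : f.natDegree = 2) (h0 : f.coeff 0 ≠ 0) {w : F} (hw : w ≠ 0)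
    (hok : w ^ 2 ≠ (cComp 2 f).det ^ 2 ∨ (w = -(cComp 2 f).det ∧ f.coeff 1 * 2 ≠ 0)) :
    ∃ Y P : Matrix (Fin 2) (Fin 2) F, P * cComp 2 f = Y * P ∧ P.det * w = -1 ∧
      H41.IsLowerWith (![(cComp 2 f).det ^ 2 / w, w]) (cComp 2 f * Y) ∧
      RU (cComp 2 f * Y) ∧ (∀ a, a ≠ w → NoL (cComp 2 f) (cComp 2 f * Y) a) ∧
      (∀ a, a ≠ (cComp 2 f).det ^ 2 / w → NoR (cComp 2 f) (cComp 2 f * Y) a) ∧
      (w = -(cComp 2 f).det → w ^ 2 = (cComp 2 f).det ^ 2 →
        (∀ a, NoL (cComp 2 f) (cComp 2 f * Y) a) ∧ ∀ a, NoR (cComp 2 f) (cComp 2 f * Y) a) := by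
  classical
  set C := cComp 2 f with hC
  set d := C.det with hdd
  have hd0 : d = f.coeff 0 := by
    rw [hdd, Matrix.det_eq_sign_charpoly_coeff, hC, (cyc_cComp hf hd).1]; simp
  set b := d ^ 2 / w with hb
  have hbne : b ≠ 0 := div_ne_zero (pow_ne_zero _ (by rw [hd0]; exact h0)) hw
  obtain ⟨Y, P, hP, hPd, hup, hdiag, -, h10⟩ :=
    exists_pair_core le_rfl hf hd h0 ![b, w] (fun _ => 0) (fun i => by fin_cases i <;> simp [hbne, hw])
  set T := C * Y with hT
  have hPd' : P.det * w = -1 := by
    have e : ∏ j : Fin 2, ∏ i ∈ Finset.univ.filter (fun i : Fin 2 => 1 ≤ i.val ∧ i.val ≤ j.val), ![b, w] i = w := by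
      rw [Fin.prod_univ_two]
      rw [show Finset.univ.filter (fun i : Fin 2 => 1 ≤ i.val ∧ i.val ≤ (0 : Fin 2).val) = ∅ by decide,
        show Finset.univ.filter (fun i : Fin 2 => 1 ≤ i.val ∧ i.val ≤ (1 : Fin 2).val) = {1} by decide]
      simp
    rw [e] at hPd
    rw [hPd, tri, Finset.sum_range_succ, Finset.sum_range_one]; norm_num
  have hdetP : IsUnit P.det := by
    rw [isUnit_iff_ne_zero]; intro h; rw [h, zero_mul] at hPd'; simp at hPd'
  have hT11 : T 1 1 = w := hdiag 1 (by simp)
  have hT01 : T 0 1 = 0 := hup 0 1 (by simp)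
  have hT00 : T 0 0 = b := by
    have h1 : T.det = T 0 0 * w := by rw [Matrix.det_fin_two, hT01, hT11]; ring
    have h2 : T.det = b * w := by
      rw [hT, Matrix.det_mul, ← (show Sim C Y from ⟨P, hdetP, hP⟩).det_eq, hb, div_mul_cancel₀ _ hw, sq]
    exact mul_right_cancel₀ hw (h1.symm.trans h2)
  have hlow : H41.IsLowerWith ![b, w] T := ⟨fun i j h => hup i j h, fun i => by fin_cases i <;> simp [hT00, hT11]⟩
  have hT10 : b = w → T 1 0 ≠ 0 := by
    intro hbw
    rcases hok with h | ⟨h1, h2⟩
    · refine absurd ?_ h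
      rw [hb, div_eq_iff hw] at hbw
      rw [sq w]; exact hbw.symm
    · have h3 : T (1 : Fin 2) (0 : Fin 2) = -f.coeff 1 * 2 := by
        rw [show T (1 : Fin 2) (0 : Fin 2) = _ from h10]
        rw [show T (⟨0, _⟩ : Fin 2) ⟨0, _⟩ = b from hT00, hbw, h1, hd0]
        simp
        field_simp
        ring
      rw [h3]
      simpa [neg_mul] using h2
  refine ⟨Y, P, hP, hPd', hlow, RU_lower hlow (fun i j l hij hjl h => by omega) ?_, ?_, ?_, ?_⟩
  · intro i j hij he
    have hi : i = 1 := by omega
    have hj : j = 0 := by omega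
    subst hi; subst hj
    exact hT10 (by simpa using he.symm)
  · intro a ha l ν hl hX hTl
    change l ᵥ* T = a • l at hTl
    obtain ⟨hν, hne⟩ := cComp_left_ne le_rfl hf hd h0 hl hX
    have h1 := congrFun hTl 1
    simp [Matrix.vecMul, dotProduct, Fin.sum_univ_two, hT01, hT11] at h1
    exact ha (mul_right_cancel₀ (hne 1) (by rw [mul_comm w]; exact h1.symm))
  · intro a ha v ν hv hX hTv
    change T *ᵥ v = a • v at hTv
    have h1 := congrFun hTv 0
    simp [Matrix.mulVec, dotProduct, Fin.sum_univ_two, hT01, hT00] at h1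
    rcases h1 with h1 | h1
    · exact ha h1.symm
    · have h2 := congrFun hX 0
      simp [hC, cComp, rComp, Matrix.mulVec, dotProduct, Fin.sum_univ_two, h1, h0] at h2
      exact hv (by ext i; fin_cases i <;> simp [h1, h2])
  · intro hwd hsq
    have hbw : b = w := by
      rw [hb, ← hsq, sq, mul_div_assoc, div_self hw, mul_one]
    have h10' := hT10 hbw
    refine ⟨fun a l ν hl hX hTl => ?_, fun a v ν hv hX hTv => ?_⟩
    · change l ᵥ* T = a • l at hTl
      obtain ⟨hν, hne⟩ := cComp_left_ne le_rfl hf hd h0 hl hX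
      have h1 := congrFun hTl 1
      have h2 := congrFun hTl 0
      simp [Matrix.vecMul, dotProduct, Fin.sum_univ_two, hT01, hT11, hT00, hbw] at h1 h2
      have ha : a = w := mul_right_cancel₀ (hne 1) (by rw [mul_comm w]; exact h1.symm)
      rw [ha] at h2
      exact mul_ne_zero (hne 1) h10' (by linear_combination h2)
    · change T *ᵥ v = a • v at hTv
      have h1 := congrFun hTv 0
      have h2 := congrFun hTv 1
      simp [Matrix.mulVec, dotProduct, Fin.sum_univ_two, hT01, hT00, hT11, hbw] at h1 h2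
      have hv0 : v 0 ≠ 0 := by
        intro hv0
        have h3 := congrFun hX 0
        simp [hC, cComp, rComp, Matrix.mulVec, dotProduct, Fin.sum_univ_two, hv0, h0] at h3
        exact hv (by ext i; fin_cases i <;> simp [hv0, h3])
      have ha : a = w := by
        rcases h1 with h1 | h1
        · exact h1.symm
        · exact absurd h1 hv0
      rw [ha] at h2
      exact mul_ne_zero h10' hv0 (by linear_combination h2)

end H89.CN
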