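import Cfsg.Agent.H89.CN.Glue

/-!
Pairs for block diagonal matrices of companion matrices.
-/

set_option autoImplicit false

namespace H89.CN

open Matrix Polynomial

variable {F : Type*} [Field F]

/-- The first diagonal value of the pair attached to a block. -/
noncomputable def bv (p : F[X] × F) : F := ((-1) ^ p.1.natDegree * p.1.coeff 0) ^ 2 / p.2 ^ (p.1.natDegree - 1)

/-- The determinant of the conjugation of the pair attached to a block. -/
noncomputable def bd (p : F[X] × F) : F := (-1) ^ tri p.1.natDegree / p.2 ^ tri p.1.natDegree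

/-- The symmetric choice for a block of size two. -/
def Mono (p : F[X] × F) : Prop := p.1.natDegree = 2 ∧ p.2 = -p.1.coeff 0 ∧ p.1.coeff 1 * 2 ≠ 0

/-- An admissible block. -/
def Valid (p : F[X] × F) : Prop :=
  p.1.Monic ∧ 2 ≤ p.1.natDegree ∧ p.1.coeff 0 ≠ 0 ∧ p.2 ≠ 0 ∧
    (p.1.natDegree = 2 → p.2 ^ 2 ≠ p.1.coeff 0 ^ 2 ∨ Mono p)

/-- Admissible order of two blocks. -/
def OkPair (p q : F[X] × F) : Prop :=
  q.1.natDegree = 2 → p.1.natDegree = 2 ∧ (Mono p ∨ Mono q ∨ bv p ≠ q.2)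

/-- The diagonal values of a block. -/
noncomputable def blockVals (p : F[X] × F) : Multiset F :=
  bv p ::ₘ Multiset.replicate (p.1.natDegree - 1) p.2

/-- The diagonal values of a list of blocks. -/
noncomputable def listVals (l : List (F[X] × F)) : Multiset F := (l.map blockVals).sum

/-- The values of a function as a multiset. -/
def msOf {ι : Type*} [Fintype ι] (β : ι → F) : Multiset F := Finset.univ.val.map β

lemma msOf_mem {ι : Type*} [Fintype ι] (β : ι → F) (a : F) : a ∈ msOf β ↔ ∃ i, β i = a := by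
  simp [msOf]

lemma msOf_comp {ι κ : Type*} [Fintype ι] [Fintype κ] (β : ι → F) (e : κ ≃ ι) : msOf (β ∘ e) = msOf β := by
  rw [msOf, msOf, ← Finset.map_univ_equiv e, Finset.map_val, Multiset.map_map]
  rfl

lemma msOf_elim {ι κ : Type*} [Fintype ι] [Fintype κ] (β : ι → F) (γ : κ → F) :
    msOf (Sum.elim β γ) = msOf β + msOf γ := by
  rw [msOf, ← Finset.univ_disjSum_univ, Finset.val_disjSum, Multiset.disjSum, Multiset.map_add, Multiset.map_map,
    Multiset.map_map]
  rfl

lemma listVals_mem : ∀ {l : List (F[X] × F)} {p : F[X] × F}, p ∈ l → ∀ {a : F}, a ∈ blockVals p → a ∈ listVals l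
  | q :: l, p, hp, a, ha => by
    rw [listVals, List.map_cons, List.sum_cons, Multiset.mem_add]
    rcases List.mem_cons.1 hp with rfl | hp
    · exact Or.inl ha
    · exact Or.inr (listVals_mem hp ha)

lemma blockVals_ne {p : F[X] × F} (h : Valid p) : ∀ a ∈ blockVals p, a ≠ 0 := by
  obtain ⟨-, -, h0, hc, -⟩ := h
  intro a ha
  rw [blockVals, Multiset.mem_cons] at ha
  rcases ha with rfl | ha
  · exact div_ne_zero (pow_ne_zero _ (mul_ne_zero (pow_ne_zero _ (by simp)) h0)) (pow_ne_zero _ hc)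
  · rw [Multiset.eq_of_mem_replicate ha]; exact hc

lemma cComp_det {m : ℕ} {f : F[X]} (hf : f.Monic) (hd : f.natDegree = m) :
    (cComp m f).det = (-1) ^ m * f.coeff 0 := by
  rw [Matrix.det_eq_sign_charpoly_coeff, (cyc_cComp hf hd).1, Fintype.card_fin]

lemma sim_cComp {m : ℕ} {f : F[X]} (hm : 0 < m) (hf : f.Monic) (hd : f.natDegree = m) :
    Sim (cComp m f) (rComp m f) := by
  obtain ⟨h1, h2⟩ := cyc_cComp hf hd
  exact cyc_similar ⟨_, by rw [h2 hm]; exact pow_ne_zero _ (by simp)⟩ (cyc_rComp hf hd).1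
    (h1.trans (cyc_rComp hf hd).2.symm)

/-- The pair of one block. -/
theorem good_block [Fintype F] (hq : 3 ≤ Fintype.card F) {m : ℕ} {f : F[X]} {c : F} (hd : f.natDegree = m)
    (h : Valid (f, c)) :
    ∃ β : Fin m → F, msOf β = blockVals (f, c) ∧
      Good (rComp m f) (bd (f, c)) β (fun a => m = 2 → Mono (f, c) ∨ a ≠ c)
        (fun a => (3 ≤ m ∧ a = c) ∨ (m = 2 ∧ (Mono (f, c) ∨ a ≠ bv (f, c)))) := by
  obtain ⟨hf, hm2, h0, hc, hval⟩ := h
  simp only at hf hm2 h0 hc hval
  rw [hd] at hm2 hval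
  have hcd := cComp_det hf hd
  rcases (show m = 2 ∨ 3 ≤ m by omega) with hm | hm
  · subst hm
    have hcd' : (cComp 2 f).det = f.coeff 0 := by rw [hcd]; ring
    have hok : c ^ 2 ≠ (cComp 2 f).det ^ 2 ∨ (c = -(cComp 2 f).det ∧ f.coeff 1 * 2 ≠ 0) := by
      rw [hcd']
      rcases hval rfl with h | ⟨-, h1, h2⟩
      · exact Or.inl h
      · exact Or.inr ⟨h1, h2⟩
    obtain ⟨Y, P, hP, hPd, hlow, hru, hL, hR, hmono⟩ := exists_pair_two hf hd h0 hc hok
    have hb : (cComp 2 f).det ^ 2 / c = bv (f, c) := by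
      simp [bv, hd, hcd']
    rw [hb] at hlow hR
    refine ⟨![bv (f, c), c], ?_, Good.sim ⟨cComp 2 f, cComp 2 f * Y,
      ⟨cls_self _, Y, P, hP, ?_, rfl⟩, hru, splitBy_lower hlow, ?_, ?_⟩ (sim_cComp (by omega) hf hd)⟩
    · simp [msOf, blockVals, hd, Fin.univ_val_map, List.ofFn_succ]
      rfl
    · have ht : tri 2 = 1 := by simp [tri, Finset.sum_range_succ]
      rw [bd, hd, ht, pow_one, pow_one, ← hPd]
      field_simp
    · intro a ha
      rcases ha rfl with ⟨-, h1, -⟩ | h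
      · simp only at h1
        exact (hmono (by rw [hcd']; exact h1) (by rw [hcd', h1]; ring)).1 a
      · exact hL a h
    · rintro a (⟨h, -⟩ | ⟨-, h | h⟩)
      · omega
      · simp only [Mono] at h
        exact (hmono (by rw [hcd']; exact h.2.1) (by rw [hcd', h.2.1]; ring)).2 a
      · exact hR a h
  · set d := (cComp m f).det with hd'
    have hb : bv (f, c) * c ^ (m - 1) = d ^ 2 := by
      rw [bv, hd, hcd, div_mul_cancel₀ _ (pow_ne_zero _ hc)]
    have hbne : bv (f, c) ≠ 0 := by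
      intro h
      rw [h, zero_mul] at hb
      exact pow_ne_zero 2 (by rw [hcd]; exact mul_ne_zero (pow_ne_zero _ (by simp)) h0) hb.symm
    obtain ⟨Y, P, hP, hPd, hlow, hru, hL, hR⟩ := exists_pair_big hq hm hf hd h0 hbne hc hb
    refine ⟨fun i => if i.val = 0 then bv (f, c) else c, ?_, Good.sim ⟨cComp m f, cComp m f * Y,
      ⟨cls_self _, Y, P, hP, ?_, rfl⟩, hru, splitBy_lower hlow, fun a _ => hL a, ?_⟩ (sim_cComp (by omega) hf hd)⟩
    · obtain ⟨k, rfl⟩ : ∃ k, m = k + 1 := ⟨m - 1, by omega⟩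
      simp [msOf, blockVals, hd, Fin.univ_val_map, List.ofFn_succ, List.ofFn_const]
      rfl
    · rw [bd, hd, eq_div_iff (pow_ne_zero _ hc), hPd]
    · rintro a (⟨-, rfl⟩ | ⟨h, -⟩)
      · exact hR
      · omega

/-- **The pair of a list of blocks.** -/
theorem good_list [Fintype F] (hq : 3 ≤ Fintype.card F) : ∀ (l : List (F[X] × F)) {n : ℕ}
    (B : Matrix (Fin n) (Fin n) F), Dec B (l.map Prod.fst) → (∀ p ∈ l, Valid p) → l.Pairwise OkPair →
    ∃ β : Fin n → F, (∀ i, β i ≠ 0) ∧ msOf β = listVals l ∧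
      Good B (l.map bd).prod β (fun a => ∀ p ∈ l, p.1.natDegree = 2 → Mono p ∨ a ≠ p.2)
        (fun a => ∃ p, l.getLast? = some p ∧ 3 ≤ p.1.natDegree ∧ a = p.2) := by
  intro l
  induction l with
  | nil =>
    intro n B hdec _ _
    obtain rfl : n = 0 := hdec
    refine ⟨Fin.elim0, fun i => i.elim0, rfl, B, B * B,
      ⟨cls_self _, B, 1, by rw [Matrix.one_mul, Matrix.mul_one], by simp, rfl⟩,
      fun a v v' hv => absurd (funext fun i : Fin 0 => i.elim0) hv, ?_,
      fun a _ l ν hl => absurd (funext fun i : Fin 0 => i.elim0) hl,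
      fun a _ v ν hv => absurd (funext fun i : Fin 0 => i.elim0) hv⟩
    rw [SplitBy, Finset.univ_eq_empty, Finset.prod_empty]
    exact (Matrix.charpoly_monic _).natDegree_eq_zero.1 (by simp [charpoly_natDegree_fin])
  | cons p l ih =>
    intro n B hdec hv hok
    obtain ⟨f, c⟩ := p
    rw [List.map_cons] at hdec
    obtain ⟨hf, hfd, N, e, A₂, hsim, hdec₂⟩ := hdec
    rw [List.pairwise_cons] at hok
    obtain ⟨β₂, hβ₂, hms₂, hG₂⟩ := ih A₂ hdec₂ (fun q hq => hv q (List.mem_cons_of_mem _ hq)) hok.2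
    obtain ⟨β₁, hms₁, hG₁⟩ := good_block hq (c := c) rfl (hv _ List.mem_cons_self)
    have hβ₁ : ∀ i, β₁ i ≠ 0 := fun i =>
      blockVals_ne (hv _ List.mem_cons_self) _ (by rw [← hms₁]; exact (msOf_mem _ _).2 ⟨i, rfl⟩)
    have hcond : ∀ i j, β₁ i = β₂ j →
        ((3 ≤ f.natDegree ∧ β₁ i = c) ∨ (f.natDegree = 2 ∧ (Mono (f, c) ∨ β₁ i ≠ bv (f, c)))) ∨
          (∀ q ∈ l, q.1.natDegree = 2 → Mono q ∨ β₁ i ≠ q.2) := by
      intro i j _
      by_cases h2 : f.natDegree = 2
      · by_cases hb : Mono (f, c) ∨ β₁ i ≠ bv (f, c)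
        · exact Or.inl (Or.inr ⟨h2, hb⟩)
        · push Not at hb
          refine Or.inr fun q hq hq2 => ?_
          rcases (hok.1 q hq hq2).2 with h | h | h
          · exact absurd h hb.1
          · exact Or.inl h
          · exact Or.inr (by rw [hb.2]; exact h)
      · refine Or.inr fun q hq hq2 => absurd (hok.1 q hq hq2).1 h2
    refine ⟨Sum.elim β₁ β₂ ∘ e.symm, fun i => ?_, ?_, ?_⟩
    · simp only [Function.comp_apply]
      rcases e.symm i with j | j
      exacts [hβ₁ j, hβ₂ j]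
    · rw [msOf_comp, msOf_elim, hms₁, hms₂]
      simp [listVals]
    · have := (((hG₁.glue hG₂ hβ₁ hcond).reindex e).sim hsim.symm)
      rw [List.map_cons, List.prod_cons]
      refine this.mono (fun a ha => ⟨fun h2 => ha _ List.mem_cons_self h2,
        fun q hq => ha q (List.mem_cons_of_mem _ hq)⟩) fun a ha => ?_
      obtain ⟨q, hq', hq3, rfl⟩ := ha
      cases l with
      | nil =>
        simp only [List.getLast?_singleton, Option.some.injEq] at hq'
        subst hq'
        refine ⟨fun ⟨j, _⟩ => ?_, fun _ => Or.inl ⟨hq3, rfl⟩⟩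
        have : N = 0 := hdec₂
        subst this
        exact j.elim0
      | cons q' l' =>
        rw [List.getLast?_cons_cons] at hq'
        refine ⟨fun _ => ⟨q, hq', hq3, rfl⟩, fun h => ?_⟩
        have hmem : q ∈ q' :: l' := List.mem_of_getLast? hq'
        have : q.2 ∈ msOf β₂ := by
          rw [hms₂]
          refine listVals_mem hmem ?_
          rw [blockVals, Multiset.mem_cons]
          exact Or.inr (Multiset.mem_replicate.2 ⟨by omega, rfl⟩)
        obtain ⟨j, hj⟩ := (msOf_mem _ _).1 this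
        exact absurd hj (h j)

/-- A scalar block in front. -/
theorem good_head [Fintype F] {N n : ℕ} {B : Matrix (Fin N) (Fin N) F} {δ : F} {γ : Fin N → F} {L R : F → Prop}
    (h : Good B δ γ L R) {lam : F} (hlam : lam ≠ 0) (hL : (∃ j, γ j = lam * lam) → L (lam * lam))
    (e : Fin 1 ⊕ Fin N ≃ Fin n) {M : Matrix (Fin n) (Fin n) F}
    (hs : Sim M (Matrix.reindex e e (Matrix.fromBlocks (Matrix.diagonal fun _ => lam) 0 0 B))) :
    ∃ β : Fin n → F, msOf β = (lam * lam) ::ₘ msOf γ ∧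
      Good M δ β (fun a => L a ∧ a ≠ lam * lam) (fun a => R a ∧ ∃ j, γ j = a) := by
  refine ⟨Sum.elim (fun _ => lam * lam) γ ∘ e.symm, ?_, ?_⟩
  · rw [msOf_comp, msOf_elim]
    simp [msOf]
  · have := ((((good_one (ι := Fin 1) (lam := lam) rfl).glue h (fun _ => mul_ne_zero hlam hlam)
      (fun _ j hj => Or.inr (hL ⟨j, hj.symm⟩))).reindex e).sim hs.symm)
    rw [one_mul] at this
    exact this.mono (fun a ha => ⟨ha.2, ha.1⟩) fun a ⟨ha, hj⟩ => ⟨fun _ => ha, fun h => absurd hj.choose_spec (h _)⟩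

/-- A scalar block at the end. -/
theorem good_last [Fintype F] {N n : ℕ} {B : Matrix (Fin N) (Fin N) F} {δ : F} {β : Fin N → F} {L R : F → Prop}
    (h : Good B δ β L R) (hβ : ∀ i, β i ≠ 0) {lam : F} (hR : (∃ i, β i = lam * lam) → R (lam * lam))
    (e : Fin N ⊕ Fin 1 ≃ Fin n) {M : Matrix (Fin n) (Fin n) F}
    (hs : Sim M (Matrix.reindex e e (Matrix.fromBlocks B 0 0 (Matrix.diagonal fun _ => lam)))) :
    ∃ β' : Fin n → F, msOf β' = msOf β + {lam * lam} ∧
      Good M δ β' (fun _ => False) (fun _ => False) := by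
  refine ⟨Sum.elim β (fun _ => lam * lam) ∘ e.symm, ?_, ?_⟩
  · rw [msOf_comp, msOf_elim]
    simp [msOf]
  · have := (((h.glue (good_one (ι := Fin 1) (lam := lam) rfl) hβ
      (fun i _ hi => Or.inl (by rw [hi]; exact hR ⟨i, hi⟩))).reindex e).sim hs.symm)
    rw [mul_one] at this
    exact this.mono (fun a ha => ha.elim) fun a ha => ha.elim

end H89.CN
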