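import Cfsg.Agent.H89.CN.Chain
import Cfsg.Agent.H89.CN.Engine

/-!
The shape of a matrix and the regular split element of the square of its class.
-/

set_option autoImplicit false

namespace H89.CN

open Matrix Polynomial

variable {F : Type*} [Field F]

/-- `t` scalar blocks `lam` followed by a divisibility chain of larger blocks. -/
def Shape {n : ℕ} (A : Matrix (Fin n) (Fin n) F) (t : ℕ) (lam : F) (l : List F[X]) : Prop :=
  Dec A (List.replicate t (X - C lam) ++ l) ∧ (∀ f ∈ l, f.Monic ∧ 2 ≤ f.natDegree ∧ f.coeff 0 ≠ 0) ∧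
    l.Pairwise (· ∣ ·) ∧ (0 < t → lam ≠ 0 ∧ ∀ f ∈ l, X - C lam ∣ f) ∧ l ≠ []

lemma Dec.coeff_ne : ∀ (l : List F[X]) {n : ℕ} {A : Matrix (Fin n) (Fin n) F}, Dec A l → A.det ≠ 0 →
    ∀ f ∈ l, f.coeff 0 ≠ 0
  | f :: l, n, A, ⟨hf, hd, N, e, A₂, hs, hdec⟩, h0, g, hg => by
    rw [hs.det_eq, Matrix.det_reindex_self, Matrix.det_fromBlocks_zero₁₂] at h0
    rcases List.mem_cons.1 hg with rfl | hg
    · intro hz
      apply left_ne_zero_of_mul h0
      rw [Matrix.det_eq_sign_charpoly_coeff, (cyc_rComp hf rfl).2, hz, mul_zero]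
    · exact Dec.coeff_ne l hdec (right_ne_zero_of_mul h0) g hg

lemma Dec.dim : ∀ (l : List F[X]) {n : ℕ} {A : Matrix (Fin n) (Fin n) F}, Dec A l →
    n = (l.map Polynomial.natDegree).sum
  | [], n, A, h => h
  | f :: l, n, A, ⟨_, _, N, e, A₂, _, hdec⟩ => by
    have h1 := Fintype.card_congr e
    simp at h1
    rw [List.map_cons, List.sum_cons, ← Dec.dim l hdec, h1]

/-- **Every non-scalar invertible matrix has a shape.** -/
theorem exists_shape [Fintype F] {n : ℕ} (A : Matrix (Fin n) (Fin n) F) (hA : NS A) (h0 : A.det ≠ 0) :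
    ∃ t lam l, Shape A t lam l := by
  classical
  obtain ⟨N, p, e, hp, hs⟩ := H41.exists_model (rowEnd A)
  obtain ⟨M, g, hg, hchain, -, hsim⟩ := exists_chain_factors N (Fintype.card_fin N) p e hp
  have hs' := hs.trans hsim
  have hrev : H41.Similar (H41.modelEnd g) (H41.modelEnd (g ∘ Fin.rev)) :=
    H41.similar_reindex g (g ∘ Fin.rev) Fin.rev Fin.rev_bijective fun k => rfl
  set gr := g ∘ Fin.rev with hgr
  have hdec := dec_of_similar A gr (fun i => hg _) (hs'.trans hrev)
  set L := List.ofFn gr with hL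
  have hLp : L.Pairwise (· ∣ ·) := by
    rw [hL, List.pairwise_ofFn]
    exact fun i j hij => hchain _ _ (Fin.rev_lt_rev.2 hij)
  have hLm : ∀ f ∈ L, f.Monic ∧ 0 < f.natDegree := fun f hf => by
    obtain ⟨i, rfl⟩ := List.mem_ofFn.1 hf
    exact hg _
  have hc0 := Dec.coeff_ne L hdec h0
  let P : F[X] → Bool := fun f => decide (f.natDegree = 1)
  -- the linear part
  obtain ⟨lam, hlam⟩ : ∃ lam : F, ∀ f ∈ L, f.natDegree = 1 → f = X - C lam ∧ lam ≠ 0 ∧ ∀ g ∈ L, f ∣ g := by
    by_cases h1 : ∃ f ∈ L, f.natDegree = 1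
    · obtain ⟨f, hf, hf1⟩ := h1
      have hfX : f = X - C (-f.coeff 0) := by
        rw [map_neg, sub_neg_eq_add]; exact (hLm f hf).1.eq_X_add_C hf1
      have key : ∀ f' ∈ L, f'.natDegree = 1 → f' = f ∧ ∀ g ∈ L, f' ∣ g := by
        have haux : ∀ (L : List F[X]), L.Pairwise (· ∣ ·) → (∀ f ∈ L, f.Monic ∧ 0 < f.natDegree) →
            ∀ a ∈ L, a.natDegree = 1 → ∀ g ∈ L, a ∣ g := by
          intro L
          induction L with
          | nil => simp
          | cons x L ih =>
            intro hp hm a ha ha1 g hg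
            rw [List.pairwise_cons] at hp
            have hxa : a ∈ L → x = a := fun ha' =>
              eq_of_monic_of_dvd_of_natDegree_le (hm x List.mem_cons_self).1 (hm a ha).1 (hp.1 a ha')
                (by rw [ha1]; exact (hm x List.mem_cons_self).2) |>.symm
            rcases List.mem_cons.1 ha with rfl | ha'
            · rcases List.mem_cons.1 hg with rfl | hg'
              exacts [dvd_rfl, hp.1 g hg']
            · rcases List.mem_cons.1 hg with rfl | hg'
              · rw [hxa ha']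
              · exact ih hp.2 (fun f hf => hm f (List.mem_cons_of_mem _ hf)) a ha' ha1 g hg'
        intro f' hf' hf'1
        have hdv := haux L hLp hLm f' hf' hf'1
        exact ⟨eq_of_monic_of_associated (hLm f' hf').1 (hLm f hf).1
          (associated_of_dvd_dvd (hdv f hf) (haux L hLp hLm f hf hf1 f' hf')), hdv⟩
      refine ⟨-f.coeff 0, fun f' hf' hf'1 => ?_⟩
      obtain ⟨rfl, hdv⟩ := key f' hf' hf'1
      exact ⟨hfX, neg_ne_zero.2 (hc0 _ hf'), hdv⟩
    · exact ⟨0, fun f hf h => absurd ⟨f, hf, h⟩ h1⟩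
  obtain ⟨t, l, hsplit, hl⟩ : ∃ t l, L = List.replicate t (X - C lam) ++ l ∧ ∀ f ∈ l, 2 ≤ f.natDegree := by
    clear_value L
    clear hL hdec hc0
    induction L with
    | nil => exact ⟨0, [], rfl, by simp⟩
    | cons x L ih =>
      rw [List.pairwise_cons] at hLp
      have hm' : ∀ f ∈ L, f.Monic ∧ 0 < f.natDegree := fun f hf => hLm f (List.mem_cons_of_mem _ hf)
      by_cases hx : x.natDegree = 1
      · obtain ⟨t, l, he, hl⟩ := ih hLp.2 hm' (fun f hf h1 =>
          ⟨(hlam f (List.mem_cons_of_mem _ hf) h1).1, (hlam f (List.mem_cons_of_mem _ hf) h1).2.1,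
            fun g hg => (hlam f (List.mem_cons_of_mem _ hf) h1).2.2 g (List.mem_cons_of_mem _ hg)⟩)
        refine ⟨t + 1, l, ?_, hl⟩
        rw [(hlam x List.mem_cons_self hx).1, he, List.replicate_succ, List.cons_append]
      · refine ⟨0, x :: L, rfl, fun f hf => ?_⟩
        rcases List.mem_cons.1 hf with rfl | hf'
        · have := (hLm f List.mem_cons_self).2; omega
        · have h1 := natDegree_le_of_dvd (hLp.1 f hf') (hm' f hf').1.ne_zero
          have := (hLm x List.mem_cons_self).2; omega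
  refine ⟨t, lam, l, hsplit ▸ hdec, fun f hf => ?_, ?_, fun ht => ?_, ?_⟩
  · have hfL : f ∈ L := hsplit ▸ List.mem_append_right _ hf
    exact ⟨(hLm f hfL).1, hl f hf, hc0 f hfL⟩
  · exact (List.pairwise_append.1 (hsplit ▸ hLp)).2.1
  · have hx : X - C lam ∈ L := hsplit ▸ List.mem_append_left _ (List.mem_replicate.2 ⟨by omega, rfl⟩)
    obtain ⟨-, h1, h2⟩ := hlam _ hx (natDegree_X_sub_C lam)
    exact ⟨h1, fun f hf => h2 f (hsplit ▸ List.mem_append_right _ hf)⟩
  · intro hnil
    rw [hnil, List.append_nil] at hsplit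
    have hz : Polynomial.aeval (rowEnd A) (X - C lam) = 0 := by
      rw [(hs'.trans hrev).aeval_eq_zero_iff, H41.aeval_modelEnd_eq_zero_iff]
      intro i
      rw [List.eq_of_mem_replicate (show gr i ∈ List.replicate t (X - C lam) from hsplit ▸ List.mem_ofFn.2 ⟨i, rfl⟩)]
    refine hA lam (Matrix.transpose_injective (Matrix.toLin'.injective ?_))
    rw [map_sub, aeval_X, aeval_C, sub_eq_zero] at hz
    rw [show Matrix.toLin' Aᵀ = rowEnd A from rfl, hz, Matrix.transpose_smul, Matrix.transpose_one, map_smul,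
      Matrix.toLin'_one, Algebra.algebraMap_eq_smul_one]
    rfl

lemma rComp_linear (lam : F) (h : (X - C lam).natDegree = 1) :
    Matrix.reindex (finCongr h) (finCongr h) (rComp (X - C lam).natDegree (X - C lam)) =
      Matrix.diagonal fun _ => lam := by
  ext i j
  obtain rfl : i = 0 := Subsingleton.elim _ _
  obtain rfl : j = 0 := Subsingleton.elim _ _
  simp [rComp]

/-- A leading linear block is a scalar block. -/
lemma dec_head {n : ℕ} {A : Matrix (Fin n) (Fin n) F} {lam : F} {l : List F[X]} (h : Dec A ((X - C lam) :: l)) :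
    ∃ (N : ℕ) (e : Fin 1 ⊕ Fin N ≃ Fin n) (A₂ : Matrix (Fin N) (Fin N) F),
      Sim A (Matrix.reindex e e (Matrix.fromBlocks (Matrix.diagonal fun _ => lam) 0 0 A₂)) ∧ Dec A₂ l := by
  obtain ⟨-, -, N, e, A₂, hs, hdec⟩ := h
  have h1 : (X - C lam).natDegree = 1 := natDegree_X_sub_C lam
  refine ⟨N, (Equiv.sumCongr (finCongr h1) (Equiv.refl _)).symm.trans e, A₂, ?_, hdec⟩
  convert hs using 1
  rw [← rComp_linear lam h1]
  ext i j
  simp only [Matrix.reindex_apply, Matrix.submatrix_apply, Equiv.symm_trans_apply, Equiv.symm_symm]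
  rcases e.symm i with a | a <;> rcases e.symm j with b | b <;> simp

lemma reindex_swap {ι κ μ : Type*} [Fintype ι] [Fintype κ] (e : ι ⊕ κ ≃ μ) (A : Matrix ι ι F) (B : Matrix κ κ F) :
    Matrix.reindex e e (Matrix.fromBlocks A 0 0 B) = Matrix.reindex ((Equiv.sumComm κ ι).trans e)
      ((Equiv.sumComm κ ι).trans e) (Matrix.fromBlocks B 0 0 A) := by
  ext i j
  simp only [Matrix.reindex_apply, Matrix.submatrix_apply, Equiv.symm_trans_apply]
  rcases e.symm i with a | a <;> rcases e.symm j with b | b <;> simp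

lemma chain_okPair {l : List F[X]} (hl : ∀ f ∈ l, f.Monic ∧ 2 ≤ f.natDegree ∧ f.coeff 0 ≠ 0)
    (hp : l.Pairwise (· ∣ ·)) (φ : F[X] → F) (hv : ∀ f ∈ l, Valid (f, φ f)) :
    (l.map fun f => (f, φ f)).Pairwise OkPair := by
  rw [List.pairwise_map]
  refine hp.imp_of_mem fun {f g} hf hg hfg h2 => ?_
  simp only at h2
  have hdeg : f.natDegree = 2 := by
    have := natDegree_le_of_dvd hfg (hl g hg).1.ne_zero
    have := (hl f hf).2.1
    omega
  have hfeq : f = g :=
    (eq_of_monic_of_dvd_of_natDegree_le (hl f hf).1 (hl g hg).1 hfg (by omega)).symm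
  subst hfeq
  refine ⟨hdeg, ?_⟩
  rcases (hv f hf).2.2.2.2 hdeg with h | h
  · refine Or.inr (Or.inr fun he => h ?_)
    have hc := (hv f hf).2.2.2.1
    simp only [bv, hdeg] at he
    simp only at hc ⊢
    field_simp at he
    linear_combination -he
  · exact Or.inl h

/-- **The regular split element for at most two scalar blocks.** -/
theorem exists_good [Fintype F] (hq : 3 ≤ Fintype.card F) {n t : ℕ} {A : Matrix (Fin n) (Fin n) F} {lam : F}
    {l : List F[X]} (h : Shape A t lam l) (φ : F[X] → F) (hv : ∀ f ∈ l, Valid (f, φ f))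
    (hlam : 0 < t → ∀ f ∈ l, f.natDegree = 2 → Mono (f, φ f) ∨ φ f ≠ lam * lam)
    (ht : t ≤ 1 ∨ (t = 2 ∧ ∃ f, l.getLast? = some f ∧ 3 ≤ f.natDegree ∧ φ f = lam * lam)) :
    ∃ β : Fin n → F, (∀ i, β i ≠ 0) ∧
      msOf β = Multiset.replicate t (lam * lam) + listVals (l.map fun f => (f, φ f)) ∧
      Good A ((l.map fun f => (f, φ f)).map bd).prod β (fun _ => False) (fun _ => False) := by
  obtain ⟨hdec, hl, hp, hlam0, -⟩ := h
  set ps := l.map fun f => (f, φ f) with hps
  have hok := chain_okPair hl hp φ hv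
  have hvs : ∀ p ∈ ps, Valid p := fun p hp => by
    obtain ⟨f, hf, rfl⟩ := List.mem_map.1 hp
    exact hv f hf
  have hfst : ps.map Prod.fst = l := by simp [hps, Function.comp_def]
  rcases (show t = 0 ∨ t = 1 ∨ t = 2 by omega) with rfl | rfl | rfl
  · obtain ⟨β, hβ, hms, hG⟩ := good_list hq ps A (by rw [hfst]; simpa using hdec) hvs hok
    exact ⟨β, hβ, by rw [hms]; simp, hG.mono (fun a h => h.elim) fun a h => h.elim⟩
  all_goals simp only [List.replicate_succ, List.replicate_zero, List.cons_append, List.nil_append] at hdec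
  · obtain ⟨N, e, A₂, hs, hdec₂⟩ := dec_head hdec
    obtain ⟨β, hβ, hms, hG⟩ := good_list hq ps A₂ (by rw [hfst]; exact hdec₂) hvs hok
    obtain ⟨β', hms', hG'⟩ := good_head hG (hlam0 (by omega)).1 (fun _ p hp hp2 => by
      obtain ⟨f, hf, rfl⟩ := List.mem_map.1 hp
      exact (hlam (by omega) f hf hp2).imp_right Ne.symm) e hs
    refine ⟨β', fun i => ?_, by rw [hms', hms]; simp, hG'.mono (fun a h => h.elim) fun a h => h.elim⟩
    have := (msOf_mem β' _).2 ⟨i, rfl⟩
    rw [hms', Multiset.mem_cons] at this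
    rcases this with h | h
    · rw [h]; exact mul_ne_zero (hlam0 (by omega)).1 (hlam0 (by omega)).1
    · obtain ⟨j, hj⟩ := (msOf_mem β _).1 h
      rw [← hj]; exact hβ j
  · obtain ⟨N, e, A₂, hs, hdec₂⟩ := dec_head hdec
    obtain ⟨N', e', A₃, hs', hdec₃⟩ := dec_head hdec₂
    obtain ⟨β, hβ, hms, hG⟩ := good_list hq ps A₃ (by rw [hfst]; exact hdec₃) hvs hok
    obtain ⟨β', hms', hG'⟩ := good_head hG (hlam0 (by omega)).1 (fun _ p hp hp2 => by
      obtain ⟨f, hf, rfl⟩ := List.mem_map.1 hp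
      exact (hlam (by omega) f hf hp2).imp_right Ne.symm) e' hs'
    obtain ⟨f, hlast, hf3, hfc⟩ := (ht.resolve_left (by omega)).2
    have hmem : (f, φ f) ∈ ps := List.mem_map.2 ⟨f, List.mem_of_getLast? hlast, rfl⟩
    have hjc : ∃ j, β j = lam * lam := (msOf_mem β _).1 (by
      rw [hms]
      refine listVals_mem hmem ?_
      rw [blockVals, Multiset.mem_cons]
      exact Or.inr (Multiset.mem_replicate.2 ⟨by simp only; omega, hfc.symm⟩))
    have hβ' : ∀ i, β' i ≠ 0 := fun i => by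
      have := (msOf_mem β' _).2 ⟨i, rfl⟩
      rw [hms', Multiset.mem_cons] at this
      rcases this with h | h
      · rw [h]; exact mul_ne_zero (hlam0 (by omega)).1 (hlam0 (by omega)).1
      · obtain ⟨j, hj⟩ := (msOf_mem β _).1 h
        rw [← hj]; exact hβ j
    obtain ⟨β'', hms'', hG''⟩ := good_last hG' hβ' (lam := lam)
      (fun _ => ⟨⟨(f, φ f), by simp [hps, hlast], hf3, hfc.symm⟩, hjc⟩)
      ((Equiv.sumComm _ _).trans e) (by rw [← reindex_swap]; exact hs)
    refine ⟨β'', fun i => ?_, by rw [hms'', hms', hms]; simp [Multiset.replicate_succ, add_comm], hG''⟩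
    have := (msOf_mem β'' _).2 ⟨i, rfl⟩
    rw [hms'', Multiset.mem_add, Multiset.mem_singleton] at this
    rcases this with h | h
    · obtain ⟨j, hj⟩ := (msOf_mem β' _).1 h
      rw [← hj]; exact hβ' j
    · rw [h]; exact mul_ne_zero (hlam0 (by omega)).1 (hlam0 (by omega)).1

/-- The element of the square of the similarity class. -/
theorem Good.elem [Fintype F] {n : ℕ} {A : Matrix (Fin n) (Fin n) F} {δ : F} {β : Fin n → F} {L R : F → Prop}
    (h : Good A δ β L R) (hδ : δ ≠ 0) (hβ : ∀ i, β i ≠ 0) :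
    ∃ T : Matrix (Fin n) (Fin n) F, Cyc T ∧ SplitBy T β ∧ T.det = A.det ^ 2 ∧ T ∈ Prods (Sc A) 2 ∧
      (CDet A δ → T ∈ Prods (Cls A) 2) := by
  obtain ⟨X, T, hP, hru, hsp, -, -⟩ := h
  obtain ⟨hX, Y, P, hPe, hPd, hT⟩ := id hP
  have hXY : Sim X Y := ⟨P, by rw [hPd]; exact isUnit_iff_ne_zero.2 hδ, hPe⟩
  refine ⟨T, cyc_of_RU hsp hβ hru, hsp, ?_, ⟨X, sim_of_cls hX, Y, prods_one ((sim_of_cls hX).trans hXY), hT⟩,
    fun hc => hP.mem hc hδ⟩
  rw [hT, Matrix.det_mul, ← hXY.det_eq, cls_det hX, sq]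

end H89.CN
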