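import Cfsg.Agent.H89.CN.Pair

/-!
Lower triangular matrices with nowhere vanishing subdiagonal are cyclic; the determinant of their Krylov matrix.
-/

set_option autoImplicit false

namespace H89.CN

open Matrix Polynomial

variable {F : Type*} [Field F]

/-- Lower triangular. -/
def Low {n : ℕ} (T : Matrix (Fin n) (Fin n) F) : Prop := ∀ i j : Fin n, i < j → T i j = 0

/-- The subdiagonal has no zero. -/
def SubNe {n : ℕ} (T : Matrix (Fin n) (Fin n) F) : Prop := ∀ i j : Fin n, i.val = j.val + 1 → T i j ≠ 0

/-- The weighted product of the subdiagonal. -/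
def subProd {n : ℕ} (T : Matrix (Fin n) (Fin n) F) (a : ℕ) : F :=
  ∏ j : Fin n, if h : j.val + 1 < n then T ⟨j.val + 1, h⟩ j ^ (a + j.val + 1) else 1

lemma subProd_ne {n : ℕ} {T : Matrix (Fin n) (Fin n) F} (h : SubNe T) (a : ℕ) : subProd T a ≠ 0 :=
  Finset.prod_ne_zero_iff.2 fun j _ => by
    split_ifs with hj
    · exact pow_ne_zero _ (h _ _ rfl)
    · exact one_ne_zero

section Kry

variable {n : ℕ} (T : Matrix (Fin n) (Fin n) F) (φ : Fin n → F) (a : ℕ → F)

/-- The Newton vectors. -/
def newt : ℕ → (Fin n → F)
  | 0 => φ
  | i + 1 => newt i ᵥ* T - a i • newt i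

/-- The coordinates of the powers in the Newton vectors. -/
def newtCoef : ℕ → ℕ → F
  | 0, 0 => 1
  | 0, _ + 1 => 0
  | i + 1, 0 => a 0 * newtCoef i 0
  | i + 1, k + 1 => newtCoef i k + a (k + 1) * newtCoef i (k + 1)

lemma newtCoef_zero : ∀ i k : ℕ, i < k → newtCoef a i k = 0
  | 0, 0, h => absurd h (Nat.lt_irrefl 0)
  | 0, k + 1, _ => rfl
  | i + 1, 0, h => absurd h (Nat.not_lt_zero _)
  | i + 1, k + 1, h => by
    show newtCoef a i k + a (k + 1) * newtCoef a i (k + 1) = 0
    rw [newtCoef_zero i k (by omega), newtCoef_zero i (k + 1) (by omega), mul_zero, add_zero]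

lemma newtCoef_self : ∀ i : ℕ, newtCoef a i i = 1
  | 0 => rfl
  | i + 1 => by
    show newtCoef a i i + a (i + 1) * newtCoef a i (i + 1) = 1
    rw [newtCoef_self i, newtCoef_zero a i (i + 1) (by omega), mul_zero, add_zero]

lemma newt_pow : ∀ i : ℕ, φ ᵥ* T ^ i = ∑ k ∈ Finset.range (i + 1), newtCoef a i k • newt T φ a k
  | 0 => by simp [newt, newtCoef]
  | i + 1 => by
    rw [vecMul_pow_succ, newt_pow i, Matrix.sum_vecMul]
    have h1 : ∀ k, newt T φ a k ᵥ* T = newt T φ a (k + 1) + a k • newt T φ a k := fun k => by
      simp [newt]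
    simp only [Matrix.smul_vecMul, h1, smul_add, smul_smul, Finset.sum_add_distrib]
    rw [Finset.sum_range_succ' (fun k => newtCoef a (i + 1) k • newt T φ a k)]
    simp only [newtCoef, add_smul, Finset.sum_add_distrib]
    rw [Finset.sum_range_succ' (fun k => (newtCoef a i k * a k) • newt T φ a k)]
    rw [Finset.sum_range_succ (fun k => (a (k + 1) * newtCoef a i (k + 1)) • newt T φ a (k + 1)),
      newtCoef_zero a i (i + 1) (by omega), mul_zero, zero_smul, add_zero, add_assoc]
    simp only [mul_comm (a _)]

lemma det_kry_newt : (kry T φ).det = (Matrix.of fun i : Fin n => newt T φ a i.val).det := by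
  have h : kry T φ =
      (Matrix.of fun i k : Fin n => newtCoef a i.val k.val) * (Matrix.of fun i : Fin n => newt T φ a i.val) := by
    ext i j
    show (φ ᵥ* T ^ (i : ℕ)) j = _
    rw [newt_pow, Matrix.mul_apply, Finset.sum_apply,
      Finset.sum_subset (Finset.range_subset_range.2 (show i.val + 1 ≤ n from i.2)) fun k _ hk => by
        rw [newtCoef_zero a i.val k (by simpa using hk)]; simp,
      ← Fin.sum_univ_eq_sum_range fun k => (newtCoef a i.val k • newt T φ a k) j]
    rfl
  rw [h, Matrix.det_mul, Matrix.det_of_isLowerTriangular]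
  · simp [newtCoef_self]
  · intro i k hik
    exact newtCoef_zero a _ _ hik

end Kry

/-- The last coordinate functional. -/
def eLast (n : ℕ) : Fin n → F := fun j => if j.val + 1 = n then 1 else 0

/-- **The Krylov determinant of a lower triangular matrix with a single diagonal value.** -/
theorem kry_sub {n : ℕ} {T : Matrix (Fin n) (Fin n) F} (hT : Low T) {c : F} (hc : ∀ i, T i i = c) :
    (kry T (eLast n)).det = (-1) ^ tri n * subProd T 0 := by
  classical
  let sb : ℕ → F := fun j => if h : j + 1 < n then T ⟨j + 1, h⟩ ⟨j, by omega⟩ else 1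
  set v := newt T (eLast n : Fin n → F) (fun _ => c) with hv
  have key : ∀ i, (hi : i < n) → (∀ j : Fin n, n - 1 - i < j.val → v i j = 0) ∧
      v i ⟨n - 1 - i, by omega⟩ = ∏ k ∈ Finset.Ico (n - 1 - i) (n - 1), sb k := by
    intro i
    induction i with
    | zero =>
      intro hi
      refine ⟨fun j hj => ?_, ?_⟩
      · show (eLast n : Fin n → F) j = 0
        rw [eLast, if_neg (by omega)]
      · show (eLast n : Fin n → F) _ = _
        rw [eLast, if_pos (by simp only; omega)]
        simp
    | succ i ih =>
      intro hi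
      obtain ⟨h0, h1⟩ := ih (by omega)
      let p : Fin n := ⟨n - 1 - i, by omega⟩
      have hstep : ∀ j : Fin n, n - 1 - (i + 1) ≤ j.val →
          v (i + 1) j = if j.val = n - 1 - (i + 1) then v i p * T p j else 0 := by
        intro j hj
        show (v i ᵥ* T - c • v i) j = _
        rw [Pi.sub_apply, vecMul_sum, Pi.smul_apply, smul_eq_mul, ← Finset.add_sum_erase _ _ (Finset.mem_univ j),
          hc j]
        by_cases hj' : j.val = n - 1 - (i + 1)
        · rw [if_pos hj', Finset.sum_eq_single p]
          · ring
          · intro b hb hbp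
            have hbj : b.val ≠ j.val := fun h => Finset.ne_of_mem_erase hb (Fin.ext h)
            have hbp' : b.val ≠ n - 1 - i := fun h => hbp (Fin.ext h)
            rcases Nat.lt_or_ge b.val j.val with hb' | hb'
            · rw [hT b j hb', mul_zero]
            · rw [h0 b (by omega), zero_mul]
          · intro h
            refine absurd (Finset.mem_erase.2 ⟨fun he => ?_, Finset.mem_univ _⟩) h
            have := congrArg Fin.val he
            simp only [p] at this
            omega
        · rw [if_neg hj', Finset.sum_eq_zero]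
          · ring
          · intro b hb
            have hbj : b.val ≠ j.val := fun h => Finset.ne_of_mem_erase hb (Fin.ext h)
            rcases Nat.lt_or_ge b.val j.val with hb' | hb'
            · rw [hT b j hb', mul_zero]
            · rw [h0 b (by omega), zero_mul]
      refine ⟨fun j hj => by rw [hstep j (by omega), if_neg (by omega)], ?_⟩
      rw [hstep _ le_rfl, if_pos rfl, h1]
      have hlo : n - 1 - (i + 1) + 1 = n - 1 - i := by omega
      rw [← Finset.insert_Ico_add_one_left_eq_Ico (show n - 1 - (i + 1) < n - 1 by omega), hlo,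
        Finset.prod_insert (by simp only [Finset.mem_Ico]; omega), mul_comm]
      congr 1
      have hh : n - 1 - (i + 1) + 1 < n := by omega
      simp only [sb, dif_pos hh]
      congr 1
      exact Fin.ext hlo.symm
  rw [det_kry_newt T (eLast n) (fun _ => c), ← hv]
  set N : Matrix (Fin n) (Fin n) F := Matrix.of fun i => v i.val with hN
  have hperm : (N.submatrix Fin.revPerm id).det = ∏ j : Fin n, ∏ k ∈ Finset.Ico j.val (n - 1), sb k := by
    rw [Matrix.det_of_isLowerTriangular]
    · refine Finset.prod_congr rfl fun j _ => ?_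
      have := (key (n - 1 - j.val) (by omega)).2
      have he : n - 1 - (n - 1 - j.val) = j.val := by omega
      simp only [he] at this
      show v j.rev.val j = _
      rw [Fin.val_rev, show n - (j.val + 1) = n - 1 - j.val by omega]
      exact this
    · intro i j hij
      have h' : i.val < j.val := hij
      show v i.rev.val j = 0
      exact (key i.rev.val i.rev.2).1 j (by rw [Fin.val_rev]; omega)
  rw [Matrix.det_permute, sign_revPerm] at hperm
  have hprod : (∏ j : Fin n, ∏ k ∈ Finset.Ico j.val (n - 1), sb k) = subProd T 0 := by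
    rw [Finset.prod_comm' (t' := (Finset.univ : Finset (Fin n)).image Fin.val)
      (s' := fun k => Finset.univ.filter fun j : Fin n => j.val ≤ k ∧ k < n - 1)]
    · rw [Finset.prod_image (fun x _ y _ h => Fin.ext h)]
      refine Finset.prod_congr rfl fun k _ => ?_
      rw [Finset.prod_const]
      by_cases hk : k.val + 1 < n
      · rw [dif_pos hk, Nat.zero_add]
        have hcard : (Finset.univ.filter fun j : Fin n => j.val ≤ k.val ∧ k.val < n - 1) = Finset.Iic k := by
          ext j
          simp only [Finset.mem_filter, Finset.mem_univ, true_and, Finset.mem_Iic, Fin.le_def]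
          omega
        rw [hcard, Fin.card_Iic]
        simp only [sb, dif_pos hk]
      · rw [dif_neg hk, Finset.filter_false_of_mem (fun j _ => by omega), Finset.card_empty, pow_zero]
    · intro j k
      simp only [Finset.mem_univ, true_and, Finset.mem_Ico, Finset.mem_filter, Finset.mem_image]
      constructor
      · rintro ⟨h1, h2⟩
        exact ⟨⟨h1, h2⟩, ⟨⟨k, by omega⟩, rfl⟩⟩
      · rintro ⟨h, -⟩
        exact h
  rw [hprod] at hperm
  rw [← hperm, ← mul_assoc, ← mul_pow]
  simp

end H89.CN
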