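import Cfsg.Agent.H89.CN.Pos
import Cfsg.Agent.H89.CN.Elem0

/-!
Coverage in dimension three.
-/

set_option autoImplicit false

namespace H89.CN

open Matrix Polynomial

variable {F : Type*} [Field F]

/-! ### Three by three -/

/-- The sum of the principal minors of size two. -/
def minTwo (M : Matrix (Fin 3) (Fin 3) F) : F :=
  M 0 0 * M 1 1 - M 0 1 * M 1 0 + (M 0 0 * M 2 2 - M 0 2 * M 2 0) + (M 1 1 * M 2 2 - M 1 2 * M 2 1)

lemma charpoly_three (M : Matrix (Fin 3) (Fin 3) F) :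
    M.charpoly = X ^ 3 - C (M 0 0 + M 1 1 + M 2 2) * X ^ 2 + C (minTwo M) * X - C M.det := by
  simp only [Matrix.charpoly, Matrix.det_fin_three, minTwo]
  simp
  ring

lemma split_three (M : Matrix (Fin 3) (Fin 3) F) (β : Fin 3 → F) (h1 : M 0 0 + M 1 1 + M 2 2 = β 0 + β 1 + β 2)
    (h2 : minTwo M = β 0 * β 1 + β 0 * β 2 + β 1 * β 2) (h3 : M.det = β 0 * β 1 * β 2) : SplitBy M β := by
  rw [SplitBy, charpoly_three, h1, h2, h3, Fin.prod_univ_three]
  simp only [map_add, map_mul]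
  ring

/-- The third power of a matrix of charpoly `X ^ 3 - det`. -/
lemma cube_scalar (M : Matrix (Fin 3) (Fin 3) F) (h1 : M 0 0 + M 1 1 + M 2 2 = 0) (h2 : minTwo M = 0) :
    M * M * M = M.det • 1 := by
  have h := Matrix.aeval_self_charpoly M
  rw [charpoly_three, h1, h2] at h
  simp [Algebra.algebraMap_eq_smul_one, pow_succ, sub_eq_zero] at h
  exact h

/-- Lower unitriangular. -/
def Lm (x y z : F) : Matrix (Fin 3) (Fin 3) F := !![1, 0, 0; x, 1, 0; z, y, 1]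

/-- Upper unitriangular. -/
def Um (p r s : F) : Matrix (Fin 3) (Fin 3) F := !![1, p, s; 0, 1, r; 0, 0, 1]

lemma lm_det (x y z : F) : (Lm x y z).det = 1 := by simp [Lm, Matrix.det_fin_three]

lemma um_det (p r s : F) : (Um p r s).det = 1 := by simp [Um, Matrix.det_fin_three]

lemma lm_mul (x y z x' y' z' : F) : Lm x y z * Lm x' y' z' = Lm (x + x') (y + y') (z + z' + y * x') := by
  ext i j
  fin_cases i <;> fin_cases j <;> simp [Lm, Matrix.mul_apply, Fin.sum_univ_three] <;> ring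

lemma lm_zero : Lm (0 : F) 0 0 = 1 := by
  ext i j
  fin_cases i <;> fin_cases j <;> simp [Lm]

/-- Classes of lower unitriangular matrices. -/
lemma lm_cls {x y x₀ y₀ t : F} (hx₀ : x₀ ≠ 0) (hy₀ : y₀ ≠ 0) (ht : t ≠ 0) (hy : y ≠ 0) (z z₀ : F)
    (h : x ^ 2 * y = x₀ ^ 2 * y₀ * t ^ 3) : Lm x y z ∈ Cls (Lm x₀ y₀ z₀) := by
  set d₁ := t⁻¹ * x / x₀ with hd₁
  set d₂ := d₁ * y / y₀ with hd₂
  refine ⟨!![t⁻¹, 0, 0; (d₂ * z₀ - z * t⁻¹) / y, d₁, 0; 0, 0, d₂], ?_, ?_⟩
  · simp [Matrix.det_fin_three, hd₂, hd₁]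
    field_simp
    linear_combination h
  · ext i j
    fin_cases i <;> fin_cases j <;> simp [Lm, Matrix.mul_apply, Fin.sum_univ_three, hd₂, hd₁] <;> field_simp <;> ring

/-- Classes of upper unitriangular matrices. -/
lemma um_cls {p r x₀ y₀ t : F} (hx₀ : x₀ ≠ 0) (hy₀ : y₀ ≠ 0) (ht : t ≠ 0) (hp : p ≠ 0) (s z₀ : F)
    (h : r ^ 2 * p = x₀ ^ 2 * y₀ * t ^ 3) : Um p r s ∈ Cls (Lm x₀ y₀ z₀) := by
  obtain ⟨R, hR, he⟩ := lm_cls hx₀ hy₀ ht hp s z₀ h
  refine ⟨!![0, 0, -1; 0, -1, 0; -1, 0, 0] * R, by rw [Matrix.det_mul, hR, mul_one]; simp [Matrix.det_fin_three], ?_⟩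
  rw [Matrix.mul_assoc, he, ← Matrix.mul_assoc, ← Matrix.mul_assoc]
  congr 1
  ext i j
  fin_cases i <;> fin_cases j <;> simp [Lm, Um, Matrix.mul_apply, Fin.sum_univ_three]

lemma cls_prods {A X : Matrix (Fin 3) (Fin 3) F} {S : Matrix (Fin 3) (Fin 3) F} {k : ℕ}
    (hS : S ∈ Prods (Cls A) k) (hX : X ∈ Cls S) : X ∈ Prods (Cls A) k := by
  obtain ⟨R, hR, he⟩ := hX
  have hu : IsUnit R.det := by rw [hR]; exact isUnit_one
  rw [eq_conj hu he]
  exact prods_map hu (fun Y hY => cls_conj hY hR) hS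

/-! ### Determinants of centralisers and the forms -/

lemma sim_single {A : Matrix (Fin 3) (Fin 3) F} {f : F[X]} (h : Dec A [f]) :
    f.Monic ∧ f.natDegree = 3 ∧ Sim A (rComp 3 f) := by
  have hdim := Dec.dim _ h
  obtain ⟨hf, -, N, e, A₂, hs, hN⟩ := h
  have hd : f.natDegree = 3 := by simpa using hdim.symm
  refine ⟨hf, hd, ?_⟩
  obtain rfl : N = 0 := hN
  revert e hs
  rw [hd]
  intro e hs
  refine hs.trans ((sim_reindex_any e (Equiv.sumEmpty (Fin 3) (Fin 0)) _).trans ?_)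
  have : Matrix.reindex (Equiv.sumEmpty (Fin 3) (Fin 0)) (Equiv.sumEmpty (Fin 3) (Fin 0))
      (Matrix.fromBlocks (rComp 3 f) 0 0 A₂) = rComp 3 f := by
    ext i j
    simp [Equiv.sumEmpty]
  rw [this]
  exact Sim.refl _

/-- All determinants, or a single eigenvalue with one block. -/
theorem cdet_or_uni [Fintype F] (A : Matrix (Fin 3) (Fin 3) F) :
    (∀ a : F, a ≠ 0 → CDet A a) ∨ ∃ μ : F, Sim A (rComp 3 ((X - C μ) ^ 3)) := by
  obtain ⟨N, p, e, hp, hs⟩ := H41.exists_model (rowEnd A)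
  have hp' : ∀ i, (p i).Monic ∧ Irreducible (p i) ∧ 0 < e i := hp
  by_cases h1 : ∃ i, e i = 1
  · obtain ⟨i, hi⟩ := h1
    left
    intro a _
    obtain ⟨Z, hZ, hd⟩ := exists_comm_det A p e hp' hs i a
    exact ⟨Z, hZ, by rw [hd, hi, pow_one]⟩
  right
  push Not at h1
  have hdec := dec_of_similar A (fun i => p i ^ e i) (fun i => ⟨(hp' i).1.pow _, by
    rw [Polynomial.natDegree_pow]; exact Nat.mul_pos (hp' i).2.2 (hp' i).2.1.natDegree_pos⟩) hs
  have hdim := Dec.dim _ hdec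
  rw [List.map_ofFn, List.sum_ofFn] at hdim
  simp only [Function.comp_apply, Polynomial.natDegree_pow] at hdim
  have h2 : ∀ i, 2 ≤ e i * (p i).natDegree := fun i => by
    have := (hp' i).2.2
    have := h1 i
    have h3 := (hp' i).2.1.natDegree_pos
    calc 2 = 2 * 1 := rfl
      _ ≤ e i * (p i).natDegree := Nat.mul_le_mul (by omega) h3
  obtain rfl : N = 1 := by
    match N, p, e, h2, hdim with
    | 0, _, _, _, h => simp at h
    | 1, _, _, _, _ => rfl
    | n + 2, p, e, h2, h =>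
      exfalso
      rw [Fin.sum_univ_succ, Fin.sum_univ_succ] at h
      have := h2 0
      have := h2 (Fin.succ 0)
      omega
  rw [Fin.sum_univ_one] at hdim
  have hdvd : e 0 ∣ 3 := ⟨_, hdim⟩
  have he : e 0 = 3 := by
    rcases (Nat.dvd_prime Nat.prime_three).1 hdvd with h | h
    exacts [absurd h (h1 0), h]
  have hdeg : (p 0).natDegree = 1 := by rw [he] at hdim; omega
  refine ⟨-(p 0).coeff 0, ?_⟩
  have hX : X - C (-(p 0).coeff 0) = p 0 := by
    rw [map_neg, sub_neg_eq_add]; exact ((hp' 0).1.eq_X_add_C hdeg).symm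
  rw [hX]
  obtain ⟨-, -, h⟩ := sim_single (f := p 0 ^ e 0) (by simpa [List.ofFn_succ] using hdec)
  rwa [he] at h

/-- A scalar plus a matrix of rank one. -/
def RankOneShift {ι : Type*} [DecidableEq ι] (M : Matrix ι ι F) (μ : F) : Prop :=
  ∃ u ψ : ι → F, M = μ • (1 : Matrix ι ι F) + vecMulVec u ψ

lemma RankOneShift.sim {ι : Type*} [Fintype ι] [DecidableEq ι] {M M' : Matrix ι ι F} {μ : F}
    (h : RankOneShift M μ) (hs : Sim M M') : RankOneShift M' μ := by
  obtain ⟨u, ψ, rfl⟩ := h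
  obtain ⟨P, hP, he⟩ := hs
  refine ⟨P *ᵥ u, ψ ᵥ* P⁻¹, ?_⟩
  have : M' = P * (μ • (1 : Matrix ι ι F) + vecMulVec u ψ) * P⁻¹ := by
    rw [he, Matrix.mul_assoc, Matrix.mul_nonsing_inv _ hP, Matrix.mul_one]
  rw [this, Matrix.mul_add, Matrix.add_mul, Matrix.mul_smul, Matrix.mul_one, Matrix.smul_mul,
    Matrix.mul_nonsing_inv _ hP, Matrix.mul_vecMulVec, Matrix.vecMulVec_mul]

lemma RankOneShift.reindex {ι κ : Type*} [Fintype ι] [DecidableEq ι] [Fintype κ] [DecidableEq κ]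
    {M : Matrix ι ι F} {μ : F} (h : RankOneShift M μ) (e : ι ≃ κ) : RankOneShift (Matrix.reindex e e M) μ := by
  obtain ⟨u, ψ, rfl⟩ := h
  refine ⟨u ∘ e.symm, ψ ∘ e.symm, ?_⟩
  ext i j
  simp [Matrix.one_apply, Matrix.vecMulVec_apply]

lemma RankOneShift.left {ι κ : Type*} [DecidableEq ι] [DecidableEq κ]
    {M : Matrix ι ι F} {μ : F} (h : RankOneShift M μ) :
    RankOneShift (Matrix.fromBlocks M 0 0 (μ • (1 : Matrix κ κ F))) μ := by
  obtain ⟨u, ψ, rfl⟩ := h
  refine ⟨Sum.elim u 0, Sum.elim ψ 0, ?_⟩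
  ext (i | i) (j | j) <;> simp [Matrix.one_apply, Matrix.vecMulVec_apply]

lemma RankOneShift.right {ι κ : Type*} [DecidableEq ι] [DecidableEq κ]
    {M : Matrix ι ι F} {μ : F} (h : RankOneShift M μ) :
    RankOneShift (Matrix.fromBlocks (μ • (1 : Matrix κ κ F)) 0 0 M) μ := by
  obtain ⟨u, ψ, rfl⟩ := h
  refine ⟨Sum.elim 0 u, Sum.elim 0 ψ, ?_⟩
  ext (i | i) (j | j) <;> simp [Matrix.one_apply, Matrix.vecMulVec_apply]

/-- Non-scalar matrices of size three are cyclic or a scalar plus rank one. -/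
theorem cyc_or_rankOne [Fintype F] {g : Matrix (Fin 3) (Fin 3) F} (hg : NS g) (h0 : g.det ≠ 0) :
    Cyc g ∨ ∃ μ : F, μ ≠ 0 ∧ RankOneShift g μ := by
  obtain ⟨t, lam, l, hsh⟩ := exists_shape g hg h0
  have hdim := shape_dim hsh
  obtain ⟨hdec, hl, -, hlam, hne⟩ := hsh
  obtain ⟨f, rfl⟩ : ∃ f, l = [f] := by
    match l, hne with
    | [f], _ => exact ⟨f, rfl⟩
    | a :: b :: l', _ =>
      exfalso
      have h1 := (hl a (by simp)).2.1
      have h2 := (hl b (by simp)).2.1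
      simp only [List.map_cons, List.sum_cons] at hdim
      omega
  obtain ⟨hf, hf2, -⟩ := hl f (by simp)
  simp only [List.map_singleton, List.sum_singleton] at hdim
  rcases (show t = 0 ∨ (t = 1 ∧ f.natDegree = 2) by omega) with rfl | ⟨rfl, hd⟩
  · left
    obtain ⟨-, hd, hs⟩ := sim_single (A := g) (f := f) (by simpa using hdec)
    exact Cyc.of_sim hs.symm (cyc_rComp hf hd).1
  right
  obtain ⟨hlam0, hdvd⟩ := hlam (by omega)
  obtain ⟨N, e, A₂, hs, -, -, N', e', A₃, hs', hN'⟩ :=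
    dec_head (A := g) (lam := lam) (l := [f]) (by simpa using hdec)
  refine ⟨lam, hlam0, ?_⟩
  have hroot : f.eval lam = 0 := by
    obtain ⟨q, hq⟩ := hdvd f (by simp)
    rw [hq]; simp
  have hA₃ : A₃ = lam • (1 : Matrix (Fin N') (Fin N') F) := by
    obtain rfl : N' = 0 := hN'
    exact Subsingleton.elim _ _
  have hc : RankOneShift (rComp f.natDegree f) lam := by
    rw [hd]
    have he : f.eval lam = f.coeff 0 + f.coeff 1 * lam + lam ^ 2 := by
      rw [Polynomial.eval_eq_sum_range, hd]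
      simp [Finset.sum_range_succ, show f.coeff 2 = 1 from hd ▸ hf.coeff_natDegree]
    rw [hroot] at he
    refine ⟨![1, -(f.coeff 1 + lam)], ![-lam, 1], ?_⟩
    ext i j
    fin_cases i <;> fin_cases j <;> simp [rComp, Matrix.vecMulVec_apply]
    linear_combination -he
  subst hA₃
  have h1 : RankOneShift A₂ lam := ((hc.left (κ := Fin N')).reindex e').sim hs'.symm
  have hdiag : Matrix.diagonal (fun _ : Fin 1 => lam) = lam • (1 : Matrix (Fin 1) (Fin 1) F) := by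
    ext i j; simp [Matrix.diagonal, Matrix.one_apply]
  have h2 := (h1.right (κ := Fin 1)).reindex e
  rw [← hdiag] at h2
  exact h2.sim hs.symm

/-- Products of representatives of a split class and a cyclic class. -/
theorem mem_sim [Fintype F] (hq : 4 ≤ Fintype.card F) {T A g : Matrix (Fin 3) (Fin 3) F} {β : Fin 3 → F}
    (hT : Cyc T) (hs : SplitBy T β) (hgr : Grouped β) (hβ : ∀ i, β i ≠ 0) (hA : Cyc A) (hA0 : A.det ≠ 0)
    (hdet : g.det = T.det * A.det) (hg : NS g) : ∃ X Y, Sim T X ∧ Sim A Y ∧ Sim (X * Y) g := by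
  have hT0 : T.det ≠ 0 := by rw [hs.det]; exact Finset.prod_ne_zero_iff.2 fun i _ => hβ i
  have hg0 : g.det ≠ 0 := by rw [hdet]; exact mul_ne_zero hT0 hA0
  rcases cyc_or_rankOne hg hg0 with hc | ⟨μ, hμ, u, ψ, he⟩
  · obtain ⟨L, hL, hLc, hLp⟩ := exists_lower_mul (by omega) le_rfl β hβ (Matrix.charpoly_monic A)
      (charpoly_natDegree_fin A) (by rw [coeff_zero_eq]; exact mul_ne_zero (pow_ne_zero _ (by simp)) hA0)
      (Matrix.charpoly_monic g) (charpoly_natDegree_fin g)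
      (by rw [coeff_zero_eq, coeff_zero_eq, ← hs.det, hdet]; ring)
    have hY := cyc_rComp (Matrix.charpoly_monic A) (charpoly_natDegree_fin A)
    exact ⟨L, _, cyc_similar' hT (cyc_lower hL.1 hβ hgr hL.2) (by rw [hs, splitBy_lower hL.1]),
      cyc_similar' hA hY.1 hY.2.symm, cyc_similar' hLc hc hLp⟩
  · have hu : u ≠ 0 := fun h => hg μ (by rw [he, h, Matrix.zero_vecMulVec, add_zero])
    have hψ : ψ ≠ 0 := fun h => hg μ (by rw [he, h, Matrix.vecMulVec_zero, add_zero])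
    obtain ⟨X, Y, P, R, Q, hP, hR, hQ, e1, e2, e3⟩ := exists_prod_rankOne le_rfl hT hs hβ hA hμ hu hψ
      (by rw [← he, hdet])
    rw [← he] at e3
    exact ⟨X, Y, ⟨P, hP, e1⟩, ⟨R, hR, e2⟩, Sim.symm ⟨Q, hQ, e3⟩⟩

/-- Members with every determinant in the centraliser. -/
lemma mem_free {A T X Y g : Matrix (Fin 3) (Fin 3) F} (hT : Full (Prods (Cls A) 2) T) (hX : Sim T X)
    (hY : Sim A Y) (hg : Sim (X * Y) g) (hD : ∀ a : F, a ≠ 0 → CDet g a) : g ∈ Prods (Cls A) 3 := by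
  obtain ⟨R, hR, heR⟩ := hY
  obtain ⟨Q, hQ, heQ⟩ := hg
  set W : Matrix (Fin 3) (Fin 3) F := Matrix.diagonal ![(R.det)⁻¹, 1, 1] with hW
  have hWd : W.det = (R.det)⁻¹ := by simp [hW, Fin.prod_univ_three]
  have hWu : IsUnit W.det := by rw [hWd]; exact isUnit_iff_ne_zero.2 (inv_ne_zero hR.ne_zero)
  have hY' : W * Y * W⁻¹ ∈ Cls A := by
    refine ⟨W * R, by rw [Matrix.det_mul, hWd, inv_mul_cancel₀ hR.ne_zero], ?_⟩
    rw [Matrix.mul_assoc, heR, Matrix.mul_assoc (W * Y), Matrix.nonsing_inv_mul_cancel_left _ _ hWu]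
    simp only [Matrix.mul_assoc]
  have hX' : W * X * W⁻¹ ∈ Prods (Cls A) 2 := hT _ (hX.trans (sim_conj hWu rfl))
  refine cls_prods (prods_mul hX' (prods_one hY')) ?_
  set S := Q * W⁻¹ with hS
  have hSu : IsUnit S.det := by
    rw [hS, Matrix.det_mul]; exact hQ.mul (Matrix.isUnit_nonsing_inv_det _ hWu)
  obtain ⟨Z, hZ, hZd⟩ := hD (S.det)⁻¹ (inv_ne_zero hSu.ne_zero)
  refine ⟨Z * S, by rw [Matrix.det_mul, hZd, inv_mul_cancel₀ hSu.ne_zero], ?_⟩
  have h1 : S * (W * X * W⁻¹ * (W * Y * W⁻¹)) = g * S := by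
    simp only [hS, Matrix.mul_assoc, Matrix.nonsing_inv_mul_cancel_left _ _ hWu]
    rw [← Matrix.mul_assoc X, ← Matrix.mul_assoc Q, heQ]
    simp only [Matrix.mul_assoc]
  rw [Matrix.mul_assoc, h1, ← Matrix.mul_assoc, hZ, Matrix.mul_assoc]

/-- The scalar one is a product of three similar matrices. -/
theorem one_mem_three [Fintype F] (hq : 4 ≤ Fintype.card F) {A : Matrix (Fin 3) (Fin 3) F} (hA : Cyc A)
    (hdA : A.det = 1) : (1 : Matrix (Fin 3) (Fin 3) F) ∈ Prods (Sc A) 3 := by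
  classical
  set f := A.charpoly with hf
  have hfm := Matrix.charpoly_monic A
  have hfd := charpoly_natDegree_fin A
  set c₁ := f.coeff 1
  set c₂ := f.coeff 2
  have hc₀ : f.coeff 0 = -1 := by rw [hf, coeff_zero_eq, hdA]; norm_num
  have hC : cComp 3 f = !![0, 0, 1; 1, 0, -c₁; 0, 1, -c₂] := by
    ext i j
    fin_cases i <;> fin_cases j <;> simp [cComp, rComp, hc₀, c₁, c₂]
  have hsim : Sim A (cComp 3 f) := by
    obtain ⟨h1, h2⟩ := cyc_cComp hfm hfd
    exact cyc_similar' hA ⟨_, by rw [h2 (by omega)]; exact pow_ne_zero _ (by simp)⟩ h1.symm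
  -- a matrix whose product with the companion has the same cube
  suffices h : ∃ P : Matrix (Fin 3) (Fin 3) F, P.det ≠ 0 ∧ P * P * P = P.det • 1 ∧
      cComp 3 f * P * (cComp 3 f * P) * (cComp 3 f * P) = P.det • 1 by
    obtain ⟨P, hP, h1, h2⟩ := h
    generalize cComp 3 f = D at hsim h2
    have hu : IsUnit P.det := isUnit_iff_ne_zero.2 hP
    have hu2 : IsUnit (P * P).det := by rw [Matrix.det_mul]; exact hu.mul hu
    have hm : P * D * P⁻¹ ∈ Sc A := sc_conj hsim hu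
    have hm2 : P * P * D * (P * P)⁻¹ ∈ Sc A := sc_conj hsim hu2
    have hinv : (P * P)⁻¹ = (P.det)⁻¹ • P := by
      apply Matrix.inv_eq_right_inv
      rw [Matrix.mul_smul, h1, smul_smul, inv_mul_cancel₀ hP, one_smul]
    have key : D * (P * D * P⁻¹ * (P * P * D * (P * P)⁻¹)) = 1 := by
      rw [hinv]
      simp only [Matrix.mul_smul, Matrix.mul_assoc, Matrix.nonsing_inv_mul_cancel_left _ _ hu]
      simp only [Matrix.mul_assoc] at h2
      rw [h2, smul_smul, inv_mul_cancel₀ hP, one_smul]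
    rw [← key]
    exact prods_mul (prods_one hsim) (prods_mul (prods_one hm) (prods_one hm2))
  have mk : ∀ P : Matrix (Fin 3) (Fin 3) F, P.det ≠ 0 → P 0 0 + P 1 1 + P 2 2 = 0 → minTwo P = 0 →
      (let M := cComp 3 f * P; M 0 0 + M 1 1 + M 2 2 = 0 ∧ minTwo M = 0) →
      ∃ P : Matrix (Fin 3) (Fin 3) F, P.det ≠ 0 ∧ P * P * P = P.det • 1 ∧
      cComp 3 f * P * (cComp 3 f * P) * (cComp 3 f * P) = P.det • 1 := by
    intro P hP h1 h2 h34
    refine ⟨P, hP, cube_scalar P h1 h2, ?_⟩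
    rw [cube_scalar _ h34.1 h34.2, Matrix.det_mul, ← hsim.det_eq, hdA, one_mul]
  by_cases h2 : c₂ = 0
  · -- no term of degree two
    obtain ⟨x, v, hv, hxv⟩ : ∃ x v : F, v ≠ 0 ∧ x ^ 2 * v + c₁ = 0 ∧ (x = 0 ∨ x = 1) := by
      by_cases h1 : c₁ = 0
      · exact ⟨0, 1, one_ne_zero, by simp [h1], Or.inl rfl⟩
      · exact ⟨1, -c₁, neg_ne_zero.2 h1, by ring, Or.inr rfl⟩
    refine mk !![x * v, -(x ^ 2 * v), 1; v, -(x * v), 0; 0, 1, 0] ?_ ?_ ?_ ⟨?_, ?_⟩
    · simp [Matrix.det_fin_three, hv]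
    · simp
    · simp [minTwo]; ring
    · simp [hC, Matrix.mul_apply, Fin.sum_univ_three, h2]
      linear_combination -hxv.1
    · simp [minTwo, hC, Matrix.mul_apply, Fin.sum_univ_three, h2]
  · obtain ⟨x, -, hx⟩ := Finset.exists_mem_notMem_of_card_lt_card (s := ({0, c₁} : Finset F))
      (t := Finset.univ) (lt_of_le_of_lt Finset.card_le_two (by rw [Finset.card_univ]; omega))
    simp only [Finset.mem_insert, Finset.mem_singleton, not_or] at hx
    have hx1 : x ≠ 0 := hx.1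
    set v := (x - c₁) / x with hv
    set u := (x - c₁) ^ 2 / c₂ with hu
    have hxc : x - c₁ ≠ 0 := sub_ne_zero.2 hx.2
    have hv0 : v ≠ 0 := div_ne_zero hxc hx.1
    have hu0 : u ≠ 0 := div_ne_zero (pow_ne_zero _ hxc) h2
    refine mk !![0, x, u; v, 0, -(x * v); 0, 1, 0] ?_ ?_ ?_ ⟨?_, ?_⟩
    · simp [Matrix.det_fin_three, hv0, hu0]
    · simp
    · simp [minTwo]
    · simp [hC, Matrix.mul_apply, Fin.sum_univ_three, hv]
      field_simp
      ring
    · simp [minTwo, hC, Matrix.mul_apply, Fin.sum_univ_three, hv, hu]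
      field_simp
      ring

/-! ### The unipotent class -/

/-- A single block with a triple eigenvalue, up to a conjugation of determinant one. -/
lemma uni_form [Fintype F] {g : Matrix (Fin 3) (Fin 3) F} {μ : F} (hg : g.det = 1)
    (h : Sim g (rComp 3 ((X - C μ) ^ 3))) : μ ^ 3 = 1 ∧ ∃ k : F, k ≠ 0 ∧ g ∈ Cls (μ • Lm 1 k 0) := by
  have hm : ((X - C μ) ^ 3).Monic := (monic_X_sub_C μ).pow _
  have hd : ((X - C μ) ^ 3).natDegree = 3 := by rw [natDegree_pow, natDegree_X_sub_C]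
  obtain ⟨hc, hch⟩ := cyc_rComp hm hd
  have hgc : g.charpoly = (X - C μ) ^ 3 := h.charpoly_eq.trans hch
  have hμ : μ ^ 3 = 1 := by
    have h1 := coeff_zero_eq g
    rw [hgc, hg, coeff_zero_eq_eval_zero] at h1
    simp at h1
    linear_combination -h1
  have hμ0 : μ ≠ 0 := fun h0 => by rw [h0] at hμ; simp at hμ
  refine ⟨hμ, ?_⟩
  set M : Matrix (Fin 3) (Fin 3) F := μ • Lm 1 1 0 with hM
  have hlow : H41.IsLowerWith (fun _ : Fin 3 => μ) M := by
    refine ⟨fun i j hij => ?_, fun i => ?_⟩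
    · fin_cases i <;> fin_cases j <;> simp_all [Lm]
    · fin_cases i <;> simp [hM, Lm]
  have hMc : Cyc M := cyc_lower hlow (fun _ => hμ0) (fun _ _ _ _ _ _ => rfl) fun i j hij _ => by
    fin_cases i <;> fin_cases j <;> simp_all [Lm]
  obtain ⟨Q, hQ, he⟩ := cyc_similar' (Cyc.of_sim h.symm hc) hMc
    (by rw [hgc, splitBy_lower hlow, Finset.prod_const, Finset.card_univ, Fintype.card_fin])
  refine ⟨(Q.det)⁻¹, inv_ne_zero hQ.ne_zero, ?_⟩
  set D : Matrix (Fin 3) (Fin 3) F := Matrix.diagonal ![1, 1, (Q.det)⁻¹] with hD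
  set R := D * Q with hR
  have hRd : R.det = 1 := by simp [hR, hD, Fin.prod_univ_three, hQ.ne_zero]
  have hRu : IsUnit R.det := by rw [hRd]; exact isUnit_one
  have hDM : D * M = μ • Lm 1 (Q.det)⁻¹ 0 * D := by
    ext i j
    fin_cases i <;> fin_cases j <;> simp [hD, hM, Lm, Matrix.mul_apply, Fin.sum_univ_three, mul_comm]
  have hRg : R * g = μ • Lm 1 (Q.det)⁻¹ 0 * R := by
    rw [hR, Matrix.mul_assoc, he, ← Matrix.mul_assoc, hDM, Matrix.mul_assoc]
  refine ⟨R⁻¹, by rw [Matrix.det_nonsing_inv, hRd, Ring.inverse_one], ?_⟩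
  calc R⁻¹ * (μ • Lm 1 (Q.det)⁻¹ 0) = R⁻¹ * (μ • Lm 1 (Q.det)⁻¹ 0 * (R * R⁻¹)) := by
        rw [Matrix.mul_nonsing_inv _ hRu, Matrix.mul_one]
    _ = R⁻¹ * (R * g * R⁻¹) := by rw [hRg, Matrix.mul_assoc _ R]
    _ = g * R⁻¹ := by rw [Matrix.mul_assoc R, Matrix.nonsing_inv_mul_cancel_left _ _ hRu]

/-- A regular element of the product of the class with another one. -/
lemma exists_low_split [Fintype F] {k k' b τ : F} (hk : k ≠ 0) (hk' : k' ≠ 0) (hb : b ≠ 0) (hb1 : b ≠ 1)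
    (hτ : τ ≠ 0) (hne : k' * τ ^ 3 + k ≠ 0) :
    ∃ M ∈ Cls (Lm 1 k' 0), Cyc (M * Lm 1 k k) ∧ SplitBy (M * Lm 1 k k) ![b⁻¹, 1, b] := by
  set r := (b + b⁻¹ - 2) / (k' * τ ^ 3 + k) with hr
  have hd : b + b⁻¹ - 2 ≠ 0 := fun h => by
    field_simp at h
    exact hb1 (sub_eq_zero.1 (pow_eq_zero_iff (n := 2) (by omega) |>.1 (by linear_combination h)))
  have hr0 : r ≠ 0 := div_ne_zero hd hne
  have hsum : k' * τ ^ 3 * r + r * k = b + b⁻¹ - 2 := by
    rw [show k' * τ ^ 3 * r + r * k = r * (k' * τ ^ 3 + k) by ring, hr, div_mul_cancel₀ _ hne]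
  refine ⟨Um (k' * τ ^ 3 * r) r 0, um_cls one_ne_zero hk' (mul_ne_zero hr0 hτ) (by simp [hk', hτ, hr0]) 0 0
    (by ring), ⟨Pi.single 2 1, ?_⟩, split_three _ _ ?_ ?_ ?_⟩
  · rw [Matrix.det_fin_three]
    simp [kry, Um, Lm, Matrix.mul_apply, Matrix.vecMul, dotProduct, Fin.sum_univ_three, pow_succ, Pi.single_apply]
    intro h
    refine pow_ne_zero 2 hk ?_
    linear_combination -h
  · simp [Um, Lm, Matrix.mul_apply, Fin.sum_univ_three]
    linear_combination hsum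
  · simp [minTwo, Um, Lm, Matrix.mul_apply, Fin.sum_univ_three, hb]
    linear_combination hsum
  · rw [Matrix.det_mul, um_det, lm_det]
    simp [hb]

/-- **The class of a regular unipotent element.** -/
theorem covered_uni [Fintype F] (hq : 4 ≤ Fintype.card F) {k : F} (hk : k ≠ 0) : Covered (Lm 1 k 0) := by
  classical
  set J := Lm 1 k 0 with hJ
  have hmem : ∀ {x : F}, x ≠ 0 → ∀ z, Lm x (k * x) z ∈ Cls J := fun {x} hx z =>
    lm_cls one_ne_zero hk hx (mul_ne_zero hk hx) z 0 (by ring)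
  have hL : Lm 1 k k ∈ Cls J := by simpa using hmem one_ne_zero k
  obtain ⟨b, -, hb⟩ := Finset.exists_mem_notMem_of_card_lt_card (s := ({0, 1, -1} : Finset F))
    (t := Finset.univ) (lt_of_le_of_lt Finset.card_le_three (by rw [Finset.card_univ]; omega))
  simp only [Finset.mem_insert, Finset.mem_singleton, not_or] at hb
  obtain ⟨hb0, hb1, hb1'⟩ := hb
  have hbb : b ≠ b⁻¹ := fun h => by
    have : b * b = 1 := by nth_rw 2 [h]; exact mul_inv_cancel₀ hb0
    exact (mul_self_eq_one_iff.1 this).elim hb1 hb1'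
  set β : Fin 3 → F := ![b⁻¹, 1, b] with hβ
  have hβ0 : ∀ i, β i ≠ 0 := fun i => by fin_cases i <;> simp [hβ, hb0]
  -- a regular split element of the square
  obtain ⟨T, hTm, hT, hs⟩ : ∃ T, T ∈ Prods (Cls J) 2 ∧ Cyc T ∧ SplitBy T β := by
    by_cases hex : ∃ τ : F, τ ≠ 0 ∧ k * τ ^ 3 + k ≠ 0
    · obtain ⟨τ, hτ, hne⟩ := hex
      obtain ⟨M, hM, hc, hs⟩ := exists_low_split hk hk hb0 hb1 hτ hne
      exact ⟨_, ⟨M, hM, _, prods_one hL, rfl⟩, hc, hs⟩
    push Not at hex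
    have hcube : ∀ τ : F, τ ≠ 0 → τ ^ 3 = -1 := fun τ hτ =>
      mul_left_cancel₀ hk (by linear_combination hex τ hτ)
    have h2 : (2 : F) = 0 := by linear_combination hcube 1 one_ne_zero
    have hw : b ^ 2 + b + 1 = 0 := mul_left_cancel₀ (sub_ne_zero.2 hb1)
      (by linear_combination hcube b hb0 - h2)
    have hbi : b⁻¹ = b ^ 2 := inv_eq_of_mul_eq_one_right (by linear_combination (b - 1) * hw)
    refine ⟨Um 1 k⁻¹ (k * b)⁻¹ * Lm 1 k (k * b), ⟨_, um_cls one_ne_zero hk (inv_ne_zero hk) one_ne_zero _ 0 ?_, _,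
      prods_one (by simpa using hmem one_ne_zero (k * b)), rfl⟩, ⟨![1, 1, 0], ?_⟩, split_three _ _ ?_ ?_ ?_⟩
    · field_simp
    · rw [Matrix.det_fin_three]
      simp [kry, Um, Lm, Matrix.mul_apply, Matrix.vecMul, dotProduct, Fin.sum_univ_three, pow_succ]
      field_simp
      grind
    · simp [hβ, Um, Lm, Matrix.mul_apply, Fin.sum_univ_three, hb0, hk, hbi]
      grind
    · simp [hβ, minTwo, Um, Lm, Matrix.mul_apply, Fin.sum_univ_three, hb0, hk, hbi]
      grind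
    · rw [Matrix.det_mul, um_det, lm_det]
      simp [hβ, hb0]
  have hTd : T.det = 1 := by rw [prods_det (fun X hX => cls_det hX) hTm, hJ, lm_det, one_pow]
  have hF : Full (Prods (Cls J) 2) T := full_of_mult hT hs hβ0 hTm b fun κ hκ => ⟨1, κ, cdet_one J, by
    have : (msOf β).count b = 1 := by
      simp [hβ, msOf, Fin.univ_val_map, List.ofFn_succ, List.count_cons, hbb.symm, Ne.symm hb1]
    rw [this, pow_one, one_mul]⟩
  have hgr : Grouped β := fun i j l hij hjl h => by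
    obtain rfl : i = 0 := Fin.ext (by have := Fin.lt_def.1 hij; have := Fin.lt_def.1 hjl; simp; omega)
    obtain rfl : l = 2 := Fin.ext (by have := Fin.lt_def.1 hij; have := Fin.lt_def.1 hjl; simp; omega)
    exact absurd (by simpa [hβ] using h) hbb.symm
  have hJc : Cyc J := cyc_lower (β := fun _ : Fin 3 => (1 : F)) ⟨fun i j hij => by
      fin_cases i <;> fin_cases j <;> simp_all [Lm], fun i => by fin_cases i <;> simp [hJ, Lm]⟩
    (fun _ => one_ne_zero) (fun _ _ _ _ _ _ => rfl) fun i j hij _ => by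
      fin_cases i <;> fin_cases j <;> simp_all [Lm]
  -- every unipotent class
  have hall : ∀ k' : F, k' ≠ 0 → Lm 1 k' 0 ∈ Prods (Cls J) 3 := by
    intro k' hk'
    by_cases hex : ∃ τ : F, τ ≠ 0 ∧ k' * τ ^ 3 + k ≠ 0
    · obtain ⟨τ, hτ, hne⟩ := hex
      obtain ⟨M, hM, hc, hsp⟩ := exists_low_split hk hk' hb0 hb1 hτ hne
      have hT' : M * Lm 1 k k ∈ Prods (Cls J) 2 := hF _ (cyc_similar' hT hc (by rw [hs, hsp]))
      have hinv : Lm (-1) (-k) 0 ∈ Cls J := by simpa using hmem (neg_ne_zero.2 (one_ne_zero' F)) 0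
      have hone : Lm 1 k k * Lm (-1) (-k) 0 = 1 := by rw [lm_mul, ← lm_zero]; congr 1 <;> ring
      have hMm : M ∈ Prods (Cls J) 3 := by
        have := prods_mul hT' (prods_one hinv)
        rwa [Matrix.mul_assoc, hone, Matrix.mul_one] at this
      obtain ⟨R, hR, he⟩ := hM
      have hu : IsUnit R.det := by rw [hR]; exact isUnit_one
      refine cls_prods hMm ⟨R⁻¹, by rw [Matrix.det_nonsing_inv, hR, Ring.inverse_one], ?_⟩
      calc R⁻¹ * M = R⁻¹ * (M * R) * R⁻¹ := by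
            rw [Matrix.mul_assoc, Matrix.mul_assoc M, Matrix.mul_nonsing_inv _ hu, Matrix.mul_one]
        _ = Lm 1 k' 0 * R⁻¹ := by rw [← he, Matrix.nonsing_inv_mul_cancel_left _ _ hu]
    push Not at hex
    have h1 : k' + k = 0 := by simpa using hex 1 one_ne_zero
    have h2' : (-k') + k = 0 := by linear_combination hex (-1) (neg_ne_zero.2 one_ne_zero)
    have h2 : (2 : F) = 0 := mul_left_cancel₀ hk (by linear_combination h1 + h2')
    have hkk : k' = k := by linear_combination h1 - k * h2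
    subst hkk
    have h3 : Lm 1 k' 0 * (Lm 1 k' 0 * Lm 1 k' 0) ∈ Cls J := by
      rw [lm_mul, lm_mul]
      have he : ∀ z, Lm (1 + (1 + 1)) (k' + (k' + k')) z = Lm 1 (k' * 1) z := fun z => by
        congr 1 <;> grind
      rw [he]
      exact hmem one_ne_zero _
    obtain ⟨R, hR, he⟩ := h3
    have hu : IsUnit R.det := by rw [hR]; exact isUnit_one
    refine cls_prods (prods_mul (prods_one (cls_self J)) (prods_mul (prods_one (cls_self J)) (prods_one (cls_self J))))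
      ⟨R⁻¹, by rw [Matrix.det_nonsing_inv, hR, Ring.inverse_one], ?_⟩
    calc R⁻¹ * (J * (J * J)) = R⁻¹ * (J * (J * J) * R) * R⁻¹ := by
          rw [Matrix.mul_assoc, Matrix.mul_assoc (J * (J * J)), Matrix.mul_nonsing_inv _ hu, Matrix.mul_one]
      _ = Lm 1 k' 0 * R⁻¹ := by rw [← he, Matrix.nonsing_inv_mul_cancel_left _ _ hu]
  intro g hg
  by_cases hns : NS g
  · rcases cdet_or_uni g with hD | ⟨μ, hμ⟩
    · obtain ⟨X, Y, hX, hY, hXY⟩ := mem_sim hq hT hs hgr hβ0 hJc (by rw [hJ, lm_det]; exact one_ne_zero)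
        (by rw [hg, hTd, hJ, lm_det, one_mul]) hns
      exact ⟨1, one_pow 3, by rw [one_smul]; exact mem_free hF hX hY hXY hD⟩
    · obtain ⟨hμ3, k', hk', R, hR, he⟩ := uni_form hg hμ
      have hμ0 : μ ≠ 0 := fun h0 => by rw [h0] at hμ3; simp at hμ3
      refine ⟨μ⁻¹, by rw [inv_pow, hμ3, inv_one], cls_prods (hall k' hk') ⟨R, hR, ?_⟩⟩
      rw [Matrix.mul_smul] at he
      rw [Matrix.smul_mul, ← he, smul_smul, inv_mul_cancel₀ hμ0, one_smul]
  · simp only [NS, not_forall, not_not] at hns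
    obtain ⟨σ, rfl⟩ := hns
    have hσ : σ ^ 3 = 1 := by simpa [Matrix.det_smul] using hg
    have hσ0 : σ ≠ 0 := fun h0 => by rw [h0] at hσ; simp at hσ
    refine ⟨σ⁻¹, by rw [inv_pow, hσ, inv_one], ?_⟩
    rw [smul_smul, inv_mul_cancel₀ hσ0, one_smul]
    obtain ⟨u, -, hu⟩ := Finset.exists_mem_notMem_of_card_lt_card (s := ({0, -1} : Finset F))
      (t := Finset.univ) (lt_of_le_of_lt Finset.card_le_two (by rw [Finset.card_univ]; omega))
    simp only [Finset.mem_insert, Finset.mem_singleton, not_or] at hu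
    have h3 : -(1 + u) ≠ 0 := fun h => hu.2 (by linear_combination -h)
    have hone : Lm 1 (k * 1) 0 * (Lm u (k * u) 0 * Lm (-(1 + u)) (k * -(1 + u)) (k + k * u * (1 + u))) = 1 := by
      rw [lm_mul, lm_mul, ← lm_zero]
      congr 1 <;> ring
    rw [← hone]
    exact prods_mul (prods_one (hmem one_ne_zero _)) (prods_mul (prods_one (hmem hu.1 _)) (prods_one (hmem h3 _)))

/-- **Cyclic classes in dimension three.** -/
theorem covered_three [Fintype F] (hq : 4 ≤ Fintype.card F) {A : Matrix (Fin 3) (Fin 3) F} (hA : Cyc A)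
    (hdA : A.det = 1) : Covered A := by
  classical
  rcases cdet_or_uni A with hD | ⟨μ, hμ⟩
  · have hS : Sc A = Cls A := sc_eq_cls hD
    have hA0 : A.det ≠ 0 := by rw [hdA]; exact one_ne_zero
    obtain ⟨b, -, hb⟩ := Finset.exists_mem_notMem_of_card_lt_card (s := ({0, 1, -1} : Finset F))
      (t := Finset.univ) (lt_of_le_of_lt Finset.card_le_three (by rw [Finset.card_univ]; omega))
    simp only [Finset.mem_insert, Finset.mem_singleton, not_or] at hb
    obtain ⟨hb0, hb1, hb1'⟩ := hb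
    have hbb : b⁻¹ ≠ b := fun h => by
      have : b * b = 1 := by nth_rw 1 [← h]; exact inv_mul_cancel₀ hb0
      exact (mul_self_eq_one_iff.1 this).elim hb1 hb1'
    have hfm := Matrix.charpoly_monic A
    have hfd := charpoly_natDegree_fin A
    have hf0 : A.charpoly.coeff 0 = -1 := by rw [coeff_zero_eq, hdA]; norm_num
    have hG := good_three hfm hfd (by rw [hf0]; simp) (a₀ := b⁻¹) one_ne_zero hb0
      (by rw [hf0]; simp [hb0]) (fun h => hb1 (inv_eq_one.1 h)) hbb (Ne.symm hb1)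
    obtain ⟨h1, h2⟩ := cyc_rComp hfm hfd
    set β : Fin 3 → F := ![b⁻¹, 1, b] with hβ
    have hβ0 : ∀ i, β i ≠ 0 := fun i => by fin_cases i <;> simp [hβ, hb0]
    obtain ⟨T, hT, hs, hTd, hTm, -⟩ := (hG.sim (cyc_similar' h1 hA h2)).elem
      (div_ne_zero (by simp) (by simp [hb0])) hβ0
    have hF := full_sc hTm
    have hgr : Grouped β := fun i j l hij hjl h => by
      obtain rfl : i = 0 := Fin.ext (by have := Fin.lt_def.1 hij; have := Fin.lt_def.1 hjl; simp; omega)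
      obtain rfl : l = 2 := Fin.ext (by have := Fin.lt_def.1 hij; have := Fin.lt_def.1 hjl; simp; omega)
      exact absurd (by simpa [hβ] using h) hbb
    intro g hg
    by_cases hns : NS g
    · obtain ⟨X, Y, hX, hY, hXY⟩ := mem_sim hq hT hs hgr hβ0 hA hA0
        (by rw [hg, hTd, hdA, one_pow, one_mul]) hns
      refine ⟨1, one_pow 3, ?_⟩
      rw [one_smul, ← hS]
      exact mem_of_mul hF (full_sc (prods_one (Sim.refl A : A ∈ Sc A))) hX hY hXY
    · simp only [NS, not_forall, not_not] at hns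
      obtain ⟨σ, rfl⟩ := hns
      have hσ : σ ^ 3 = 1 := by simpa [Matrix.det_smul] using hg
      have hσ0 : σ ≠ 0 := fun h0 => by rw [h0] at hσ; simp at hσ
      refine ⟨σ⁻¹, by rw [inv_pow, hσ, inv_one], ?_⟩
      rw [smul_smul, inv_mul_cancel₀ hσ0, one_smul, ← hS]
      exact one_mem_three hq hA hdA
  · obtain ⟨hμ3, k, hk, R, hR, he⟩ := uni_form hdA hμ
    have hμ0 : μ ≠ 0 := fun h0 => by rw [h0] at hμ3; simp at hμ3
    intro g hg
    obtain ⟨ζ, hζ, hmem⟩ := covered_uni hq hk g hg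
    refine ⟨ζ, hζ, ?_⟩
    have hsc : ∀ X ∈ Cls (Lm 1 k 0), μ • X ∈ Cls A := by
      rintro X ⟨S, hS, heS⟩
      have hu : IsUnit R.det := by rw [hR]; exact isUnit_one
      refine ⟨S * R⁻¹, by rw [Matrix.det_mul, hS, Matrix.det_nonsing_inv, hR, Ring.inverse_one, mul_one], ?_⟩
      have hA' : R⁻¹ * A = μ • Lm 1 k 0 * R⁻¹ := by
        calc R⁻¹ * A = R⁻¹ * (A * R) * R⁻¹ := by
              rw [Matrix.mul_assoc, Matrix.mul_assoc A, Matrix.mul_nonsing_inv _ hu, Matrix.mul_one]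
          _ = μ • Lm 1 k 0 * R⁻¹ := by rw [← he, Matrix.nonsing_inv_mul_cancel_left _ _ hu]
      rw [Matrix.mul_assoc, hA', ← Matrix.mul_assoc, Matrix.mul_smul, heS, ← Matrix.smul_mul, Matrix.mul_assoc]
    have := prods_smul hsc hmem
    rwa [hμ3, one_smul] at this

end H89.CN
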