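import Cfsg.Agent.H89.CN.Cover0

/-!
Three-dimensional classes with irreducible characteristic polynomial.
-/

set_option autoImplicit false

namespace H89.CN

open Matrix Polynomial

variable {F : Type*} [Field F]

/-- An irreducible characteristic polynomial makes a matrix cyclic. -/
lemma cyc_of_irreducible {n : ℕ} {M : Matrix (Fin n) (Fin n) F} (hn : 0 < n) (h : Irreducible M.charpoly) : Cyc M := by
  classical
  set φ : Fin n → F := Pi.single ⟨0, hn⟩ 1 with hφ
  refine ⟨φ, fun hdet => ?_⟩
  obtain ⟨c, hc, hcz⟩ := Matrix.exists_vecMul_eq_zero_iff.2 hdet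
  set p : F[X] := ∑ i : Fin n, C (c i) * X ^ (i : ℕ) with hp
  have hcoef : ∀ i : Fin n, p.coeff i = c i := fun i => by
    rw [hp, finset_sum_coeff, Finset.sum_eq_single i]
    · simp
    · intro b _ hb
      simp [coeff_X_pow, Fin.val_inj, Ne.symm hb]
    · simp
  have hdeg : p.natDegree < n := by
    refine lt_of_le_of_lt (natDegree_sum_le_of_forall_le _ _ fun i _ => ?_) (Nat.sub_lt hn one_pos)
    exact (natDegree_C_mul_X_pow_le (c i) i).trans (by omega)
  have hp0 : p ≠ 0 := fun h0 => hc (_root_.funext fun i => by rw [← hcoef i, h0]; simp)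
  have hz : φ ᵥ* aeval M p = 0 := by
    rw [vecMul_aeval M φ p hdeg]
    rw [← hcz, Finset.sum_range fun i => p.coeff i • (φ ᵥ* M ^ i)]
    funext j
    simp [hcoef, Matrix.vecMul, dotProduct, kry, Finset.sum_apply]
  have hcop : IsCoprime p M.charpoly := (h.coprime_iff_not_dvd.2 fun hd => by
    have := natDegree_le_of_dvd hd hp0
    rw [Matrix.charpoly_natDegree_eq_dim, Fintype.card_fin] at this
    omega).symm
  obtain ⟨u, v, huv⟩ := hcop
  have h1 := congrArg (fun P => φ ᵥ* aeval M P) huv
  simp only [map_add, map_mul, map_one, Matrix.aeval_self_charpoly, mul_zero, add_zero, Matrix.vecMul_one] at h1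
  have hcm : aeval M u * aeval M p = aeval M p * aeval M u := by rw [← map_mul, ← map_mul, mul_comm]
  rw [hcm, ← Matrix.vecMul_vecMul, hz, Matrix.zero_vecMul] at h1
  simpa [hφ] using (congrFun h1 ⟨0, hn⟩).symm

/-- A matrix annihilated by an irreducible polynomial of full degree has it as characteristic polynomial. -/
lemma charpoly_of_irreducible {n : ℕ} {M : Matrix (Fin n) (Fin n) F} (hn : 0 < n) {f : F[X]} (hf : Irreducible f)
    (hm : f.Monic) (hd : f.natDegree = n) (hz : aeval M f = 0) : M.charpoly = f := by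
  haveI : Nonempty (Fin n) := ⟨⟨0, hn⟩⟩
  have h1 := minpoly.eq_of_irreducible_of_monic hf hz hm
  have h2 := Matrix.minpoly_dvd_charpoly M
  rw [← h1] at h2
  exact eq_of_monic_of_dvd_of_natDegree_le hm (Matrix.charpoly_monic M) h2
    (by rw [Matrix.charpoly_natDegree_eq_dim, Fintype.card_fin, hd])

/-- **Irreducible cubic classes.** -/
theorem irr_three [Fintype F] {A : Matrix (Fin 3) (Fin 3) F} (hirr : Irreducible A.charpoly) (hdA : A.det = 1) :
    (∀ a : F, a ≠ 0 → CDet A a) ∧
      ∃ X Y : Matrix (Fin 3) (Fin 3) F, Sim A X ∧ Sim A Y ∧ A * X * Y = 1 := by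
  classical
  set f := A.charpoly with hfd
  have hm : f.Monic := Matrix.charpoly_monic A
  have hdeg : f.natDegree = 3 := by rw [hfd, Matrix.charpoly_natDegree_eq_dim, Fintype.card_fin]
  haveI : Fact (Irreducible f) := ⟨hirr⟩
  set K := AdjoinRoot f
  let pb := AdjoinRoot.powerBasis hirr.ne_zero
  haveI : Module.Finite F K := pb.finite
  haveI : Finite K := Module.finite_of_finite F
  have hdim : pb.dim = 3 := by simp [pb, hdeg]
  let b := pb.basis.reindex (finCongr hdim)
  let L : K →ₐ[F] Matrix (Fin 3) (Fin 3) F := Algebra.leftMulMatrix b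
  let x : K := AdjoinRoot.root f
  have hx : aeval x f = 0 := AdjoinRoot.eval₂_root f
  have hchar : ∀ y : K, aeval y f = 0 → (L y).charpoly = f := fun y hy =>
    charpoly_of_irreducible (by omega) hirr hm hdeg (by rw [aeval_algHom_apply, hy, map_zero])
  have hsim : ∀ y : K, aeval y f = 0 → Sim A (L y) := fun y hy =>
    cyc_similar' (cyc_of_irreducible (by omega) hirr)
      (cyc_of_irreducible (by omega) (by rw [hchar y hy]; exact hirr)) (hchar y hy).symm
  set φ := FiniteField.frobeniusAlgHom F K with hφ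
  have hφy : ∀ y : K, aeval y f = 0 → aeval (φ y) f = 0 := fun y hy => by rw [aeval_algHom_apply, hy, map_zero]
  obtain ⟨P, hP, he⟩ := (hsim x hx).symm
  have hconj : ∀ M N : Matrix (Fin 3) (Fin 3) F, P * M * P⁻¹ * (P * N * P⁻¹) = P * (M * N) * P⁻¹ := fun M N => by
    rw [Matrix.mul_assoc (P * M) P⁻¹, Matrix.mul_assoc P N, Matrix.nonsing_inv_mul_cancel_left _ _ hP]
    simp only [Matrix.mul_assoc]
  have hA : A = P * L x * P⁻¹ := eq_conj hP he
  have hdet : ∀ y : K, (L y).det = Algebra.norm F y := fun y => (Algebra.norm_eq_matrix_det b y).symm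
  refine ⟨fun a _ => ?_, P * L (φ x) * P⁻¹, P * L (φ (φ x)) * P⁻¹,
    (hsim _ (hφy x hx)).trans (sim_conj hP rfl), (hsim _ (hφy _ (hφy x hx))).trans (sim_conj hP rfl), ?_⟩
  · obtain ⟨y, hy⟩ := FiniteField.norm_surjective F K a
    refine ⟨P * L y * P⁻¹, by rw [hA, hconj, hconj, ← map_mul, ← map_mul, mul_comm], ?_⟩
    rw [Matrix.det_conj ((Matrix.isUnit_iff_isUnit_det P).2 hP), hdet, hy]
  · rw [hA, hconj, hconj, ← map_mul, ← map_mul]
    have hprod : x * φ x * φ (φ x) = algebraMap F K (Algebra.norm F x) := by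
      rw [FiniteField.algebraMap_norm_eq_pow]
      have hcard : Nat.card K = Fintype.card F ^ 3 := by
        rw [Module.natCard_eq_pow_finrank (K := F), pb.finrank, hdim, Nat.card_eq_fintype_card]
      rw [hcard, Nat.card_eq_fintype_card]
      simp only [hφ, FiniteField.coe_frobeniusAlgHom]
      rw [← pow_mul, ← pow_succ', ← pow_add]
      congr 1
      have hq : 1 < Fintype.card F := Fintype.one_lt_card
      rw [← Nat.geomSum_eq hq]
      simp [Finset.sum_range_succ]
      ring
    rw [hprod, ← hdet, ← (hsim x hx).det_eq, hdA, map_one, map_one, Matrix.mul_one, Matrix.mul_nonsing_inv _ hP]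

end H89.CN
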