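import Cfsg.Agent.H89.CN.GLMain
import Cfsg.Agent.H89.CN.Sub

/-!
Members of the square of a class which bring their similarity class along.
-/

set_option autoImplicit false

namespace H89.CN

open Matrix Polynomial

variable {F : Type*} [Field F]

lemma CDet.mul {n : ℕ} {A : Matrix (Fin n) (Fin n) F} {a b : F} (ha : CDet A a) (hb : CDet A b) : CDet A (a * b) := by
  obtain ⟨Z, hZ, rfl⟩ := ha
  obtain ⟨W, hW, rfl⟩ := hb
  exact ⟨Z * W, by rw [Matrix.mul_assoc, hW, ← Matrix.mul_assoc, hZ, Matrix.mul_assoc], Matrix.det_mul _ _⟩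

lemma cdet_one {n : ℕ} (A : Matrix (Fin n) (Fin n) F) : CDet A 1 := ⟨1, by simp, Matrix.det_one⟩

lemma CDet.inv {n : ℕ} {A : Matrix (Fin n) (Fin n) F} {a : F} (ha : CDet A a) (h0 : a ≠ 0) : CDet A a⁻¹ := by
  obtain ⟨Z, hZ, rfl⟩ := ha
  have hu : IsUnit Z.det := isUnit_iff_ne_zero.2 h0
  refine ⟨Z⁻¹, ?_, by rw [Matrix.det_nonsing_inv, Ring.inverse_eq_inv']⟩
  calc Z⁻¹ * A = Z⁻¹ * (A * (Z * Z⁻¹)) := by rw [Matrix.mul_nonsing_inv _ hu, Matrix.mul_one]
    _ = Z⁻¹ * (Z * A * Z⁻¹) := by rw [hZ, Matrix.mul_assoc A]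
    _ = A * Z⁻¹ := by rw [Matrix.mul_assoc Z, Matrix.nonsing_inv_mul_cancel_left _ _ hu]

lemma CDet.pow {n : ℕ} {A : Matrix (Fin n) (Fin n) F} {a : F} (ha : CDet A a) : ∀ k : ℕ, CDet A (a ^ k)
  | 0 => by rw [pow_zero]; exact cdet_one A
  | k + 1 => by rw [pow_succ]; exact (CDet.pow ha k).mul ha

/-- Determinants of the centraliser of a block. -/
lemma dec_cdet : ∀ (l : List F[X]) {n : ℕ} (A : Matrix (Fin n) (Fin n) F), Dec A l → ∀ f ∈ l,
    ∀ Z : Matrix (Fin f.natDegree) (Fin f.natDegree) F,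
      Z * rComp f.natDegree f = rComp f.natDegree f * Z → CDet A Z.det
  | g :: l, n, A, ⟨_, _, N, e, A₂, hs, hdec⟩, f, hf, Z, hZ => by
    obtain ⟨P, hP, he⟩ := hs.symm
    have transport : ∀ W, W * Matrix.reindex e e (Matrix.fromBlocks (rComp g.natDegree g) 0 0 A₂) =
        Matrix.reindex e e (Matrix.fromBlocks (rComp g.natDegree g) 0 0 A₂) * W → CDet A W.det := by
      intro W hW
      refine ⟨P * W * P⁻¹, ?_, Matrix.det_conj ((Matrix.isUnit_iff_isUnit_det P).2 hP) W⟩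
      have hm : ∀ X Y : Matrix (Fin n) (Fin n) F, P * X * P⁻¹ * (P * Y * P⁻¹) = P * (X * Y) * P⁻¹ := fun X Y => by
        rw [Matrix.mul_assoc (P * X) P⁻¹, Matrix.mul_assoc P Y, Matrix.nonsing_inv_mul_cancel_left _ _ hP]
        simp only [Matrix.mul_assoc]
      rw [eq_conj hP he, hm, hm, hW]
    rcases List.mem_cons.1 hf with rfl | hf'
    · have := transport (Matrix.reindex e e (Matrix.fromBlocks Z 0 0 1)) (by
        simp only [Matrix.reindex_apply, Matrix.submatrix_mul_equiv, Matrix.fromBlocks_multiply]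
        simp [hZ])
      rwa [Matrix.det_reindex_self, Matrix.det_fromBlocks_zero₁₂, Matrix.det_one, mul_one] at this
    · obtain ⟨W, hW, hWd⟩ := dec_cdet l A₂ hdec f hf' Z hZ
      have := transport (Matrix.reindex e e (Matrix.fromBlocks 1 0 0 W)) (by
        simp only [Matrix.reindex_apply, Matrix.submatrix_mul_equiv, Matrix.fromBlocks_multiply]
        simp [hW])
      rwa [Matrix.det_reindex_self, Matrix.det_fromBlocks_zero₁₂, Matrix.det_one, one_mul, hWd] at this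

/-- Scalars on a block. -/
lemma cdet_scalar {n : ℕ} {A : Matrix (Fin n) (Fin n) F} {l : List F[X]} (h : Dec A l) {f : F[X]} (hf : f ∈ l)
    (a : F) : CDet A (a ^ f.natDegree) := by
  have := dec_cdet l A h f hf (a • 1) (by simp)
  simpa [Matrix.det_smul] using this

/-- The block itself. -/
lemma cdet_block {n : ℕ} {A : Matrix (Fin n) (Fin n) F} {l : List F[X]} (h : Dec A l) {f : F[X]} (hf : f ∈ l)
    (hm : f.Monic) : CDet A ((-1) ^ f.natDegree * f.coeff 0) := by
  have := dec_cdet l A h f hf _ rfl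
  rwa [Matrix.det_eq_sign_charpoly_coeff, (cyc_rComp hm rfl).2, Fintype.card_fin] at this

/-- The centraliser of `A` permutes its class. -/
lemma cls_conj_cdet {n : ℕ} {A X Z : Matrix (Fin n) (Fin n) F} (hX : X ∈ Cls A) (hZ : Z * A = A * Z)
    (hu : IsUnit Z.det) : Z * X * Z⁻¹ ∈ Cls A := by
  obtain ⟨R, hR, he⟩ := hX
  refine ⟨Z * R * Z⁻¹, by rw [Matrix.det_conj ((Matrix.isUnit_iff_isUnit_det Z).2 hu), hR], ?_⟩
  have hZA : Z⁻¹ * A = A * Z⁻¹ := by
    calc Z⁻¹ * A = Z⁻¹ * (A * (Z * Z⁻¹)) := by rw [Matrix.mul_nonsing_inv _ hu, Matrix.mul_one]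
      _ = Z⁻¹ * (Z * A * Z⁻¹) := by rw [hZ, Matrix.mul_assoc A]
      _ = A * Z⁻¹ := by rw [Matrix.mul_assoc Z, Matrix.nonsing_inv_mul_cancel_left _ _ hu]
  rw [Matrix.mul_assoc (Z * R), hZA, ← Matrix.mul_assoc, Matrix.mul_assoc Z R, he, Matrix.mul_assoc (Z * X) Z⁻¹,
    Matrix.mul_assoc Z R, Matrix.nonsing_inv_mul_cancel_left _ _ hu]
  simp only [Matrix.mul_assoc]

/-- Fullness from conjugates with enough determinants. -/
lemma full_of_flex {n k : ℕ} {A T : Matrix (Fin n) (Fin n) F}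
    (h : ∀ κ : F, κ ≠ 0 → ∃ (d : F) (P : Matrix (Fin n) (Fin n) F),
      CDet A d ∧ d * P.det = κ ∧ P * T * P⁻¹ ∈ Prods (Cls A) k) : Full (Prods (Cls A) k) T := by
  refine full_cls fun κ hκ => ?_
  obtain ⟨d, P, ⟨Z, hZ, hZd⟩, he, hmem⟩ := h κ hκ
  have hd : d ≠ 0 := left_ne_zero_of_mul (he ▸ hκ)
  have hu : IsUnit Z.det := by rw [hZd]; exact isUnit_iff_ne_zero.2 hd
  have hPu : IsUnit P.det := isUnit_iff_ne_zero.2 (right_ne_zero_of_mul (he ▸ hκ))
  refine ⟨Z * P, by rw [Matrix.det_mul, hZd, he], ?_⟩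
  have := prods_map hu (fun X hX => cls_conj_cdet hX hZ hu) hmem
  rw [Matrix.mul_inv_rev]
  simpa only [Matrix.mul_assoc] using this

/-- The determinant of a polynomial in a lower triangular matrix. -/
lemma det_aeval_low {n : ℕ} {L : Matrix (Fin n) (Fin n) F} (hL : Low L) (p : F[X]) :
    (Polynomial.aeval L p).det = ∏ i, p.eval (L i i) := by
  have hpow : ∀ k : ℕ, Low (L ^ k) ∧ ∀ i, (L ^ k) i i = L i i ^ k := by
    intro k
    induction k with
    | zero => exact ⟨fun i j h => Matrix.one_apply_ne h.ne, fun i => by simp⟩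
    | succ k ih =>
      rw [pow_succ]
      refine ⟨fun i j hij => ?_, fun i => ?_⟩
      · rw [Matrix.mul_apply]
        refine Finset.sum_eq_zero fun b _ => ?_
        rcases lt_or_ge i b with hb | hb
        · rw [ih.1 i b hb, zero_mul]
        · rw [hL b j (lt_of_le_of_lt hb hij), mul_zero]
      · rw [Matrix.mul_apply, Finset.sum_eq_single i, ih.2, pow_succ]
        · intro b _ hb
          rcases lt_or_gt_of_ne hb with hb' | hb'
          · rw [hL b i hb', mul_zero]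
          · rw [ih.1 i b hb', zero_mul]
        · simp
  have hboth : ∀ p : F[X], Low (Polynomial.aeval L p) ∧ ∀ i, (Polynomial.aeval L p) i i = p.eval (L i i) := by
    intro p
    induction p using Polynomial.induction_on' with
    | add p q hp hq =>
      refine ⟨fun i j h => by rw [map_add, Matrix.add_apply, hp.1 i j h, hq.1 i j h, add_zero], fun i => ?_⟩
      rw [map_add, Matrix.add_apply, hp.2, hq.2, eval_add]
    | monomial k a =>
      refine ⟨fun i j h => ?_, fun i => ?_⟩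
      · rw [aeval_monomial, ← Algebra.smul_def, Matrix.smul_apply, (hpow k).1 i j h, smul_zero]
      · rw [aeval_monomial, ← Algebra.smul_def, Matrix.smul_apply, (hpow k).2, eval_monomial, smul_eq_mul]
  rw [Matrix.det_of_isLowerTriangular _ (fun i j h => (hboth p).1 i j h)]
  exact Finset.prod_congr rfl fun i _ => (hboth p).2 i

/-- The determinant of a polynomial in a cyclic split matrix. -/
lemma det_aeval_split [Fintype F] {n : ℕ} {T : Matrix (Fin n) (Fin n) F} {β : Fin n → F} (hT : Cyc T)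
    (hs : SplitBy T β) (hβ : ∀ i, β i ≠ 0) (p : F[X]) : (Polynomial.aeval T p).det = ∏ i, p.eval (β i) := by
  obtain ⟨σ, hσ⟩ := exists_grouped β
  have hL := bidiag_regL (β ∘ σ)
  have hc : Cyc (bidiag (β ∘ σ)) := cyc_lower hL.1 (fun i => hβ _) hσ hL.2
  obtain ⟨P, hP, he⟩ := cyc_similar hT hc (by rw [splitBy_perm hs σ, splitBy_lower hL.1])
  have hcomm : P * Polynomial.aeval T p = Polynomial.aeval (bidiag (β ∘ σ)) p * P := by
    have hk : ∀ k : ℕ, P * T ^ k = bidiag (β ∘ σ) ^ k * P := fun k => by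
      induction k with
      | zero => simp
      | succ k ih => rw [pow_succ, ← Matrix.mul_assoc, ih, Matrix.mul_assoc, he, ← Matrix.mul_assoc, ← pow_succ]
    induction p using Polynomial.induction_on' with
    | add p q hp hq => rw [map_add, map_add, Matrix.mul_add, hp, hq, Matrix.add_mul]
    | monomial k a =>
      rw [aeval_monomial, aeval_monomial, ← Algebra.smul_def, ← Algebra.smul_def, Matrix.mul_smul, hk, Matrix.smul_mul]
  rw [(show Sim (Polynomial.aeval T p) _ from ⟨P, hP, hcomm⟩).det_eq,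
    det_aeval_low (fun i j h => hL.1.1 i j h) p]
  simp only [hL.1.2]
  exact Equiv.prod_comp σ fun i => p.eval (β i)

/-- **An eigenvalue of suitable multiplicity makes a member full.** -/
theorem full_of_mult [Fintype F] [DecidableEq F] {n k : ℕ} {A T : Matrix (Fin n) (Fin n) F} {β : Fin n → F}
    (hT : Cyc T) (hs : SplitBy T β) (hβ : ∀ i, β i ≠ 0) (hm : T ∈ Prods (Cls A) k) (a : F)
    (h : ∀ κ : F, κ ≠ 0 → ∃ d x : F, CDet A d ∧ d * x ^ (msOf β).count a = κ) : Full (Prods (Cls A) k) T := by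
  refine full_of_flex fun κ hκ => ?_
  obtain ⟨d, x, hd, he⟩ := h κ hκ
  let p : F[X] := 1 + C (x - 1) * Lagrange.basis (insert a (Finset.univ.image β)) id a
  have hp : ∀ i, p.eval (β i) = if β i = a then x else 1 := by
    intro i
    simp only [p, eval_add, eval_one, eval_mul, eval_C]
    by_cases hi : β i = a
    · rw [if_pos hi, hi, show Polynomial.eval a (Lagrange.basis _ id a) = 1 from
        Lagrange.eval_basis_self (Set.injOn_id _) (Finset.mem_insert_self _ _)]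
      ring
    · rw [if_neg hi, show Polynomial.eval (β i) (Lagrange.basis _ id a) = 0 from
        Lagrange.eval_basis_of_ne (v := id) (Ne.symm hi) (Finset.mem_insert_of_mem (by simp)), mul_zero, add_zero]
  have hdet : (Polynomial.aeval T p).det = x ^ (msOf β).count a := by
    rw [det_aeval_split hT hs hβ p, Finset.prod_congr rfl fun i _ => hp i, Finset.prod_ite, Finset.prod_const,
      Finset.prod_const_one, mul_one]
    congr 1
    rw [msOf, Multiset.count_map]
    simp only [eq_comm (a := a)]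
    rfl
  refine ⟨d, Polynomial.aeval T p, hd, by rw [hdet, he], ?_⟩
  have hu : IsUnit (Polynomial.aeval T p).det := by
    rw [hdet, isUnit_iff_ne_zero]; exact right_ne_zero_of_mul (he ▸ hκ)
  have hc : Polynomial.aeval T p * T = T * Polynomial.aeval T p := by
    have := congrArg (Polynomial.aeval T) (mul_comm p X)
    simpa using this
  rwa [hc, Matrix.mul_assoc, Matrix.mul_nonsing_inv _ hu, Matrix.mul_one]

/-- Pairs whose products are conjugate with any determinant of `K`. -/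
def Twist {ι : Type*} [Fintype ι] [DecidableEq ι] (B : Matrix ι ι F) (δ : F) (β : ι → F) (K : F → Prop) : Prop :=
  ∃ T₀ : Matrix ι ι F, RU T₀ ∧ SplitBy T₀ β ∧
    ∀ κ, K κ → ∃ X T P : Matrix ι ι F, Pair2 B δ X T ∧ P.det = κ ∧ P * T₀ = T * P

lemma Twist.of_good {ι : Type*} [Fintype ι] [DecidableEq ι] {B : Matrix ι ι F} {δ : F} {β : ι → F}
    {L R : F → Prop} (h : Good B δ β L R) : Twist B δ β (· = 1) := by
  obtain ⟨X, T, hP, hru, hsp, -, -⟩ := h
  exact ⟨T, hru, hsp, fun κ hκ => ⟨X, T, 1, hP, by rw [Matrix.det_one, hκ], by simp⟩⟩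

lemma pair2_sim {ι : Type*} [Fintype ι] [DecidableEq ι] {B B' X T Q : Matrix ι ι F} {δ : F} (h : Pair2 B δ X T)
    (hQ : IsUnit Q.det) (hQe : Q * B = B' * Q) : Pair2 B' δ (Q * X * Q⁻¹) (Q * T * Q⁻¹) := by
  obtain ⟨⟨S, hS, hSe⟩, Y, P, hP, hPd, hT⟩ := h
  have hB' : B' = Q * B * Q⁻¹ := by rw [hQe, Matrix.mul_assoc, Matrix.mul_nonsing_inv _ hQ, Matrix.mul_one]
  have hm : ∀ M N : Matrix ι ι F, Q * M * Q⁻¹ * (Q * N * Q⁻¹) = Q * (M * N) * Q⁻¹ := fun M N => by
    rw [Matrix.mul_assoc (Q * M) Q⁻¹, Matrix.mul_assoc Q N, Matrix.nonsing_inv_mul_cancel_left _ _ hQ]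
    simp only [Matrix.mul_assoc]
  have hd : ∀ M : Matrix ι ι F, (Q * M * Q⁻¹).det = M.det := fun M =>
    Matrix.det_conj ((Matrix.isUnit_iff_isUnit_det Q).2 hQ) M
  exact ⟨⟨Q * S * Q⁻¹, by rw [hd, hS], by rw [hB', hm, hSe, hm]⟩,
    Q * Y * Q⁻¹, Q * P * Q⁻¹, by rw [hm, hP, hm], by rw [hd, hPd], by rw [hm, hT]⟩

lemma Twist.sim {ι : Type*} [Fintype ι] [DecidableEq ι] {B B' : Matrix ι ι F} {δ : F} {β : ι → F} {K : F → Prop}
    (h : Twist B δ β K) (hs : Sim B B') : Twist B' δ β K := by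
  obtain ⟨T₀, hru, hsp, hK⟩ := h
  obtain ⟨Q, hQ, hQe⟩ := hs
  have hc : Sim T₀ (Q * T₀ * Q⁻¹) :=
    ⟨Q, hQ, by rw [Matrix.mul_assoc (Q * T₀), Matrix.nonsing_inv_mul _ hQ, Matrix.mul_one]⟩
  refine ⟨Q * T₀ * Q⁻¹, hc.RU hru, by rw [SplitBy, ← hc.charpoly_eq]; exact hsp, fun κ hκ => ?_⟩
  obtain ⟨X, T, P, hP, hd, he⟩ := hK κ hκ
  refine ⟨_, _, Q * P * Q⁻¹, pair2_sim hP hQ hQe, by rw [Matrix.det_conj ((Matrix.isUnit_iff_isUnit_det Q).2 hQ), hd], ?_⟩
  have hm : ∀ M N : Matrix ι ι F, Q * M * Q⁻¹ * (Q * N * Q⁻¹) = Q * (M * N) * Q⁻¹ := fun M N => by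
    rw [Matrix.mul_assoc (Q * M) Q⁻¹, Matrix.mul_assoc Q N, Matrix.nonsing_inv_mul_cancel_left _ _ hQ]
    simp only [Matrix.mul_assoc]
  rw [hm, hm, he]

lemma Twist.reindex {ι κ : Type*} [Fintype ι] [DecidableEq ι] [Fintype κ] [DecidableEq κ] {B : Matrix ι ι F}
    {δ : F} {β : ι → F} {K : F → Prop} (h : Twist B δ β K) (e : ι ≃ κ) :
    Twist (Matrix.reindex e e B) δ (β ∘ e.symm) K := by
  obtain ⟨T₀, hru, hsp, hK⟩ := h
  have hm : ∀ M N : Matrix ι ι F, Matrix.reindex e e M * Matrix.reindex e e N = Matrix.reindex e e (M * N) :=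
    fun M N => by simp only [Matrix.reindex_apply, Matrix.submatrix_mul_equiv]
  refine ⟨_, hru.reindex e, hsp.reindex e, fun a ha => ?_⟩
  obtain ⟨X, T, P, ⟨⟨S, hS, hSe⟩, Y, P', hP', hPd, hT⟩, hd, he⟩ := hK a ha
  exact ⟨Matrix.reindex e e X, Matrix.reindex e e T, Matrix.reindex e e P,
    ⟨⟨Matrix.reindex e e S, by rw [Matrix.det_reindex_self, hS], by rw [hm, hm, hSe]⟩,
      Matrix.reindex e e Y, Matrix.reindex e e P', by rw [hm, hm, hP'], by rw [Matrix.det_reindex_self, hPd],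
      by rw [hm, hT]⟩, by rw [Matrix.det_reindex_self, hd], by rw [hm, hm, he]⟩

/-- Twists of blocks without common eigenvalue combine. -/
theorem Twist.sum {ι κ : Type*} [Fintype ι] [DecidableEq ι] [Fintype κ] [DecidableEq κ] {B₁ : Matrix ι ι F}
    {B₂ : Matrix κ κ F} {δ₁ δ₂ : F} {β : ι → F} {γ : κ → F} {K₁ K₂ : F → Prop} (h₁ : Twist B₁ δ₁ β K₁)
    (h₂ : Twist B₂ δ₂ γ K₂) (hd : ∀ i j, β i ≠ γ j) :
    Twist (Matrix.fromBlocks B₁ 0 0 B₂) (δ₁ * δ₂) (Sum.elim β γ) (fun x => ∃ a b, K₁ a ∧ K₂ b ∧ a * b = x) := by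
  obtain ⟨T₁, hru₁, hsp₁, hK₁⟩ := h₁
  obtain ⟨T₂, hru₂, hsp₂, hK₂⟩ := h₂
  refine ⟨Matrix.fromBlocks T₁ 0 0 T₂, RU_glue hru₁ hru₂ ?_, hsp₁.glue hsp₂ 0, ?_⟩
  · intro a v hv he hw
    obtain ⟨w, hw0, hwe⟩ := hw
    obtain ⟨i, hi⟩ := hsp₁.eigen_mem hv he
    obtain ⟨j, hj⟩ := hsp₂.eigen_mem hw0 hwe
    exact absurd (hi.trans hj.symm) (hd i j)
  · rintro x ⟨a, b, ha, hb, rfl⟩
    obtain ⟨X₁, U₁, P₁, ⟨⟨S₁, hS₁, hSe₁⟩, Y₁, R₁, hR₁, hRd₁, hU₁⟩, hPd₁, he₁⟩ := hK₁ a ha
    obtain ⟨X₂, U₂, P₂, ⟨⟨S₂, hS₂, hSe₂⟩, Y₂, R₂, hR₂, hRd₂, hU₂⟩, hPd₂, he₂⟩ := hK₂ b hb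
    exact ⟨Matrix.fromBlocks X₁ 0 0 X₂, Matrix.fromBlocks U₁ 0 0 U₂, Matrix.fromBlocks P₁ 0 0 P₂,
      ⟨⟨Matrix.fromBlocks S₁ 0 0 S₂, by simp [Matrix.det_fromBlocks_zero₁₂, hS₁, hS₂],
          by simp [Matrix.fromBlocks_multiply, hSe₁, hSe₂]⟩,
        Matrix.fromBlocks Y₁ 0 0 Y₂, Matrix.fromBlocks R₁ 0 0 R₂, by simp [Matrix.fromBlocks_multiply, hR₁, hR₂],
        by simp [Matrix.det_fromBlocks_zero₁₂, hRd₁, hRd₂], by simp [Matrix.fromBlocks_multiply, hU₁, hU₂]⟩,
      by simp [Matrix.det_fromBlocks_zero₁₂, hPd₁, hPd₂], by simp [Matrix.fromBlocks_multiply, he₁, he₂]⟩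

/-- A twist covering all classes gives a full member. -/
theorem Twist.elem [Fintype F] {n : ℕ} {A : Matrix (Fin n) (Fin n) F} {δ : F} {β : Fin n → F} {K : F → Prop}
    (h : Twist A δ β K) (hδ : δ ≠ 0) (hd : CDet A δ) (hβ : ∀ i, β i ≠ 0)
    (hK : ∀ κ : F, κ ≠ 0 → ∃ d a : F, CDet A d ∧ K a ∧ d * a = κ) :
    ∃ T : Matrix (Fin n) (Fin n) F, Cyc T ∧ SplitBy T β ∧ T.det = A.det ^ 2 ∧ Full (Prods (Cls A) 2) T := by
  obtain ⟨T₀, hru, hsp, hK'⟩ := h
  have key : ∀ κ : F, κ ≠ 0 → ∃ (d : F) (P T : Matrix (Fin n) (Fin n) F),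
      CDet A d ∧ d * P.det = κ ∧ P * T₀ = T * P ∧ T ∈ Prods (Cls A) 2 := by
    intro κ hκ
    obtain ⟨d, a, hd', ha, he⟩ := hK κ hκ
    obtain ⟨X, T, P, hP, hPd, hPe⟩ := hK' a ha
    exact ⟨d, P, T, hd', by rw [hPd, he], hPe, hP.mem hd hδ⟩
  refine ⟨T₀, cyc_of_RU hsp hβ hru, hsp, ?_, full_of_flex fun κ hκ => ?_⟩
  · obtain ⟨d, P, T, -, he, hPe, hT⟩ := key 1 one_ne_zero
    have hu : IsUnit P.det := isUnit_iff_ne_zero.2 (right_ne_zero_of_mul (he ▸ one_ne_zero))
    rw [(show Sim T₀ T from ⟨P, hu, hPe⟩).det_eq, prods_det (fun X hX => cls_det hX) hT]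
  · obtain ⟨d, P, T, hd', he, hPe, hT⟩ := key κ hκ
    have hu : IsUnit P.det := isUnit_iff_ne_zero.2 (right_ne_zero_of_mul (he ▸ hκ))
    exact ⟨d, P, hd', he, by rw [← eq_conj hu hPe]; exact hT⟩

/-- The parameters of a block with a single diagonal value. -/
lemma exists_weights [Fintype F] (hq : 4 ≤ Fintype.card F) (ρ₀ M₀ : F) (hρ : ρ₀ ≠ 0) :
    ∃ v x y : F, v ≠ 0 ∧ x ≠ 0 ∧ y ≠ 0 ∧ x * v ^ 2 = ρ₀ * y ∧ x + y + v = M₀ := by
  classical
  obtain ⟨v, hv0, hvM, hvr⟩ : ∃ v : F, v ≠ 0 ∧ v ≠ M₀ ∧ v ^ 2 ≠ -ρ₀ := by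
    by_contra hcon
    push Not at hcon
    by_cases hex : ∃ r : F, r ^ 2 = -ρ₀
    · obtain ⟨r, hr⟩ := hex
      have hsub : (Finset.univ : Finset F) ⊆ {0, M₀, r, -r} := by
        intro z _
        simp only [Finset.mem_insert, Finset.mem_singleton]
        by_cases hz : z = 0
        · exact Or.inl hz
        by_cases hzM : z = M₀
        · exact Or.inr (Or.inl hzM)
        rcases eq_or_eq_neg_of_sq_eq_sq z r ((hcon z hz hzM).trans hr.symm) with h | h
        exacts [Or.inr (Or.inr (Or.inl h)), Or.inr (Or.inr (Or.inr h))]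
      by_cases h2 : (2 : F) = 0
      · have : -r = r := by linear_combination -r * h2
        rw [this] at hsub
        have := (Finset.card_le_card hsub).trans (show ({0, M₀, r, r} : Finset F).card ≤ 3 by
          simpa using Finset.card_le_three (a := (0 : F)) (b := M₀) (c := r))
        rw [Finset.card_univ] at this; omega
      · have h5 : 5 ≤ Fintype.card F := by
          by_contra h5
          have hq4 : Fintype.card F = 4 := by omega
          have hF : (4 : F) = 0 := by exact_mod_cast hq4 ▸ FiniteField.cast_card_eq_zero F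
          exact h2 (pow_eq_zero_iff (n := 2) (by omega) |>.1 (by linear_combination hF))
        have := (Finset.card_le_card hsub).trans Finset.card_le_four
        rw [Finset.card_univ] at this; omega
    · push Not at hex
      have hsub : (Finset.univ : Finset F) ⊆ {0, M₀} := by
        intro z _
        simp only [Finset.mem_insert, Finset.mem_singleton]
        by_contra hz
        push Not at hz
        exact hex z (hcon z hz.1 hz.2)
      have := (Finset.card_le_card hsub).trans Finset.card_le_two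
      rw [Finset.card_univ] at this; omega
  set ρ := ρ₀ / v ^ 2 with hρd
  have hρ1 : 1 + ρ ≠ 0 := fun h => hvr (by
    rw [hρd] at h
    field_simp at h
    linear_combination h)
  refine ⟨v, ρ * ((M₀ - v) / (1 + ρ)), (M₀ - v) / (1 + ρ), hv0,
    mul_ne_zero (div_ne_zero hρ (pow_ne_zero _ hv0)) (div_ne_zero (sub_ne_zero.2 (Ne.symm hvM)) hρ1),
    div_ne_zero (sub_ne_zero.2 (Ne.symm hvM)) hρ1, ?_, ?_⟩
  · rw [hρd]; field_simp
  · field_simp; ring

/-- The value of the subdiagonal product from given interior entries. -/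
lemma subProd_split {m : ℕ} (hm : 4 ≤ m) (T : Matrix (Fin m) (Fin m) F) {x y v : F}
    (hx : T ⟨1, by omega⟩ ⟨0, by omega⟩ = x) (hv : T ⟨2, by omega⟩ ⟨1, by omega⟩ = v)
    (hy : T ⟨m - 1, by omega⟩ ⟨m - 2, by omega⟩ = y)
    (hone : ∀ j : Fin m, ∀ h : j.val + 1 < m, 2 ≤ j.val → j.val + 2 < m → T ⟨j.val + 1, h⟩ j = 1) :
    subProd T 0 = x * v ^ 2 * y ^ (m - 1) := by
  classical
  let o0 : Fin m := ⟨0, by omega⟩
  let o1 : Fin m := ⟨1, by omega⟩
  let o2 : Fin m := ⟨m - 2, by omega⟩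
  rw [subProd, ← Finset.mul_prod_erase _ _ (Finset.mem_univ o0),
    ← Finset.mul_prod_erase _ _ (show o1 ∈ Finset.univ.erase o0 by simp [o0, o1]),
    ← Finset.mul_prod_erase _ _ (show o2 ∈ (Finset.univ.erase o0).erase o1 by
      simp [o0, o1, o2, Fin.ext_iff]; omega),
    Finset.prod_eq_one]
  · rw [dif_pos (show o0.val + 1 < m by simp [o0]; omega), dif_pos (show o1.val + 1 < m by simp [o1]; omega),
      dif_pos (show o2.val + 1 < m by simp [o2]; omega)]
    have e2 : (⟨o2.val + 1, by simp [o2]; omega⟩ : Fin m) = ⟨m - 1, by omega⟩ := Fin.ext (by simp [o2]; omega)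
    rw [e2]
    simp only [o0, o1, o2, Nat.zero_add, hx, hy]
    rw [show (⟨1 + 1, by omega⟩ : Fin m) = ⟨2, by omega⟩ from rfl, hv, show m - 2 + 1 = m - 1 by omega, pow_one,
      mul_one, mul_assoc]
  · intro j hj
    have h0 : j.val ≠ 0 := fun h => Finset.ne_of_mem_erase (Finset.mem_of_mem_erase (Finset.mem_of_mem_erase hj))
      (Fin.ext h)
    have h1 : j.val ≠ 1 := fun h => Finset.ne_of_mem_erase (Finset.mem_of_mem_erase hj) (Fin.ext h)
    have h2 : j.val ≠ m - 2 := fun h => Finset.ne_of_mem_erase hj (Fin.ext h)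
    split_ifs with h
    · rw [hone j h (by omega) (by omega), one_pow]
    · rfl

/-- **A block with a single diagonal value has every twist.** -/
theorem twist_block [Fintype F] (hq : 4 ≤ Fintype.card F) {m : ℕ} (hm : 4 ≤ m) {f : F[X]} {c : F} (hf : f.Monic)
    (hd : f.natDegree = m) (hf0 : f.coeff 0 ≠ 0) (hc : c ≠ 0) (hbv : bv (f, c) = c) :
    Twist (rComp m f) (bd (f, c)) (fun _ : Fin m => c)
      (fun κ => ∃ s : F, s ≠ 0 ∧ ∃ a : F, a = κ * s ^ m ∧ a ≠ 0) := by
  classical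
  let L₀ : F := -f.coeff (m - 1) + f.coeff 1 * c / f.coeff 0
  let e1 : Fin m := ⟨1, by omega⟩
  let e2 : Fin m := ⟨m - 2, by omega⟩
  have hne12 : e1 ≠ e2 := by simp [e1, e2, Fin.ext_iff]; omega
  set I := Finset.univ.filter (fun j : Fin m => 1 ≤ j.val ∧ j.val + 1 < m)
  have he1 : e1 ∈ I := by simp [I, e1]; omega
  have he2 : e2 ∈ I.erase e1 := by simp [I, e2, hne12.symm]; omega
  set R : F := ∑ _j ∈ (I.erase e1).erase e2, (1 : F) with hR
  have key : ∀ ρ : F, ρ ≠ 0 → ∃ (T X : Matrix (Fin m) (Fin m) F) (s : F), s ≠ 0 ∧ Pair2 (cComp m f) (bd (f, c)) X T ∧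
      H41.IsLowerWith (fun _ : Fin m => c) T ∧ SubNe T ∧ subProd T 0 = ρ * s ^ m := by
    intro ρ hρ
    obtain ⟨v, x, y, hv, hx, hy, hprod, hsum⟩ := exists_weights hq ρ (L₀ - R) hρ
    obtain ⟨Y, P, hP, hPd, hup, hdiag, hsub, h10⟩ :=
      exists_pair_core (show 2 ≤ m by omega) hf hd hf0 (fun _ => c)
        (Function.update (Function.update (fun _ => 1) e2 y) e1 v) (fun _ => hc)
    set T := cComp m f * Y with hT
    have hPd' : P.det = bd (f, c) := by
      rw [bd, hd, eq_div_iff (pow_ne_zero _ hc), ← hPd]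
      congr 1
      have hin : ∀ j : Fin m, (∏ _i ∈ Finset.univ.filter (fun i : Fin m => 1 ≤ i.val ∧ i.val ≤ j.val), c) =
          c ^ j.val := by
        intro j
        rw [Finset.prod_const]
        congr 1
        have : (Finset.univ.filter (fun i : Fin m => 1 ≤ i.val ∧ i.val ≤ j.val)).image (fun i : Fin m => i.val) =
            Finset.Icc 1 j.val := by
          ext k
          simp only [Finset.mem_image, Finset.mem_filter, Finset.mem_univ, true_and, Finset.mem_Icc]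
          exact ⟨by rintro ⟨i, hi, rfl⟩; exact hi, fun hk => ⟨⟨k, by omega⟩, hk, rfl⟩⟩
        have hcard := congrArg Finset.card this
        rw [Finset.card_image_of_injective _ Fin.val_injective, Nat.card_Icc] at hcard
        omega
      rw [Finset.prod_congr rfl fun j _ => hin j, Finset.prod_pow_eq_pow_sum]
      congr 1
      exact (Fin.sum_univ_eq_sum_range (fun i => i) m).symm
    have hdetP : IsUnit P.det := by
      rw [hPd', bd, isUnit_iff_ne_zero]; exact div_ne_zero (pow_ne_zero _ (by simp)) (pow_ne_zero _ hc)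
    let z : Fin m := ⟨0, by omega⟩
    have hT00 : T z z = c := by
      have h1 : T.det = T z z * c ^ (m - 1) := by
        rw [Matrix.det_of_isLowerTriangular T (fun i j h => hup i j h), ← Finset.mul_prod_erase _ _ (Finset.mem_univ z)]
        congr 1
        rw [Finset.prod_congr rfl (g := fun _ => c) fun i hi => by
          have hne : i.val ≠ 0 := fun h => Finset.ne_of_mem_erase hi (Fin.ext h)
          rw [hdiag i (by omega)], Finset.prod_const, Finset.card_erase_of_mem (Finset.mem_univ z),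
          Finset.card_univ, Fintype.card_fin]
      have h2 : T.det = c * c ^ (m - 1) := by
        have hb := hbv
        rw [bv, hd, div_eq_iff (pow_ne_zero _ hc)] at hb
        rw [hT, Matrix.det_mul, ← (show Sim (cComp m f) Y from ⟨P, hdetP, hP⟩).det_eq, cComp_det hf hd, ← hb]
        ring
      exact mul_right_cancel₀ (pow_ne_zero _ hc) (h1.symm.trans h2)
    have hlow : H41.IsLowerWith (fun _ : Fin m => c) T := ⟨hup, fun i => by
      by_cases hi : i.val = 0
      · rw [show i = z from Fin.ext hi, hT00]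
      · exact hdiag i (by omega)⟩
    have hSsum : (∑ j ∈ I, Function.update (Function.update (fun _ => (1 : F)) e2 y) e1 v j) = v + y + R := by
      rw [← Finset.add_sum_erase _ _ he1, ← Finset.add_sum_erase _ _ he2, Function.update_self,
        Function.update_of_ne hne12.symm, Function.update_self, hR, add_assoc]
      congr 2
      exact Finset.sum_congr rfl fun j hj => by
        rw [Function.update_of_ne (Finset.ne_of_mem_erase (Finset.mem_of_mem_erase hj)),
          Function.update_of_ne (Finset.ne_of_mem_erase hj)]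
    have hT10 : T ⟨1, by omega⟩ ⟨0, by omega⟩ = x := by
      rw [show T ⟨1, _⟩ ⟨0, _⟩ = _ from h10, show T ⟨0, _⟩ ⟨0, _⟩ = c from hT00, hSsum]
      simp only [L₀] at hsum
      linear_combination -hsum
    have hs1 : T ⟨2, by omega⟩ ⟨1, by omega⟩ = v := by
      rw [hsub _ ⟨1, by omega⟩ (by simp) (by simp)]; exact Function.update_self _ _ _
    have hsy : T ⟨m - 1, by omega⟩ ⟨m - 2, by omega⟩ = y := by
      rw [hsub _ ⟨m - 2, by omega⟩ (by simp; omega) (by simp; omega)]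
      show Function.update (Function.update (fun _ : Fin m => (1 : F)) e2 y) e1 v e2 = y
      rw [Function.update_of_ne hne12.symm, Function.update_self]
    have hs0 : ∀ j : Fin m, ∀ h : j.val + 1 < m, 2 ≤ j.val → j.val + 2 < m → T ⟨j.val + 1, h⟩ j = 1 := by
      intro j h h2 h3
      rw [hsub _ j rfl (by omega), Function.update_of_ne (fun he => by rw [he] at h2; simp [e1] at h2),
        Function.update_of_ne (fun he => by rw [he] at h3; simp [e2] at h3; omega)]
    have hne : SubNe T := by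
      intro i j hij
      by_cases hj0 : j.val = 0
      · rw [show i = ⟨1, by omega⟩ from Fin.ext (by simp; omega), show j = ⟨0, by omega⟩ from Fin.ext hj0, hT10]
        exact hx
      · rw [hsub i j hij (by omega)]
        simp only [Function.update_apply]
        split_ifs <;> [exact hv; exact hy; exact one_ne_zero]
    refine ⟨T, cComp m f, y, hy, ⟨cls_self _, Y, P, hP, hPd', hT⟩, hlow, hne, ?_⟩
    rw [subProd_split hm T hT10 hs1 hsy hs0, hprod, mul_assoc, ← pow_succ', show m - 1 + 1 = m by omega]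
  obtain ⟨T₀, X₀, s₀, hs₀, -, hlow₀, hne₀, hsp₀⟩ := key 1 one_ne_zero
  have hk : ∀ {T : Matrix (Fin m) (Fin m) F}, H41.IsLowerWith (fun _ : Fin m => c) T → SubNe T →
      (kry T (eLast m)).det = (-1) ^ tri m * subProd T 0 ∧ (kry T (eLast m)).det ≠ 0 := by
    intro T hl hn
    have h1 := kry_sub (T := T) (fun i j h => hl.1 i j h) hl.2
    exact ⟨h1, by rw [h1]; exact mul_ne_zero (pow_ne_zero _ (by simp)) (subProd_ne hn 0)⟩
  refine Twist.sim (B := cComp m f)
    ⟨T₀, RU_lower hlow₀ (fun _ _ _ _ _ _ => rfl) fun i j h _ => hne₀ i j h, splitBy_lower hlow₀, ?_⟩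
    (sim_cComp (by omega) hf hd)
  rintro κ ⟨s, hs, a, ha, ha0⟩
  obtain ⟨T, X, s', hs', hP, hlow, hne, hsp⟩ := key ((κ * s ^ m)⁻¹ * s₀ ^ m) (by
    have : κ ≠ 0 := left_ne_zero_of_mul (ha ▸ ha0)
    exact mul_ne_zero (inv_ne_zero (mul_ne_zero this (pow_ne_zero _ hs))) (pow_ne_zero _ hs₀))
  set t := s' / s with ht
  refine ⟨X, T, (kry T (eLast m))⁻¹ * kry T₀ (eLast m) * (t • 1), hP, ?_, ?_⟩
  · rw [Matrix.det_mul, Matrix.det_mul, Matrix.det_nonsing_inv, Ring.inverse_eq_inv', Matrix.det_smul,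
      Matrix.det_one, mul_one, Fintype.card_fin, (hk hlow₀ hne₀).1, (hk hlow hne).1, hsp, hsp₀, ht, div_pow]
    have hκ : κ ≠ 0 := left_ne_zero_of_mul (ha ▸ ha0)
    rcases neg_one_pow_eq_or F (tri m) with h | h <;> rw [h] <;> field_simp
  · have hch : T₀.charpoly = T.charpoly := by rw [splitBy_lower hlow₀, splitBy_lower hlow]
    rw [Matrix.mul_smul, Matrix.mul_one, Matrix.smul_mul, Matrix.mul_smul]
    congr 1
    exact kry_conj (hk hlow hne).2 hch

end H89.CN
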