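import Cfsg.Agent.H89.CN.Quad
import Cfsg.Agent.H89.CN.Sub

/-!
Products of block matrices of a quadratic class which are regular and split.
-/

set_option autoImplicit false

namespace H89.CN

open Matrix Polynomial

variable {F : Type*} [Field F] {n : ℕ}

/-- The product of the first factors. -/
def chainProd (M : ℕ → Matrix (Fin n) (Fin n) F) : ℕ → Matrix (Fin n) (Fin n) F
  | 0 => 1
  | k + 1 => chainProd M k * M k

lemma chainProd_mem {S : Set (Matrix (Fin n) (Fin n) F)} {M : ℕ → Matrix (Fin n) (Fin n) F} :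
    ∀ {k : ℕ}, (∀ i < k, M i ∈ S) → chainProd M k ∈ Prods S k
  | 0, _ => rfl
  | k + 1, h => prods_mul (chainProd_mem fun i hi => h i (by omega)) (prods_one (h k (by omega)))

lemma chainProd_low {M : ℕ → Matrix (Fin n) (Fin n) F} :
    ∀ {k : ℕ}, (∀ i < k, Low (M i)) → Low (chainProd M k) ∧
      (∀ v, chainProd M k v v = ∏ i ∈ Finset.range k, M i v v)
  | 0, _ => ⟨fun i j h => Matrix.one_apply_ne h.ne, fun v => by simp [chainProd]⟩
  | k + 1, h => by
    obtain ⟨h1, h2⟩ := chainProd_low (k := k) fun i hi => h i (by omega)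
    have hM := h k (by omega)
    refine ⟨fun i j hij => ?_, fun v => ?_⟩
    · show (chainProd M k * M k) i j = 0
      rw [Matrix.mul_apply]
      refine Finset.sum_eq_zero fun b _ => ?_
      rcases lt_or_ge i b with hb | hb
      · rw [h1 i b hb, zero_mul]
      · rw [hM b j (lt_of_le_of_lt hb hij), mul_zero]
    · show (chainProd M k * M k) v v = _
      rw [Matrix.mul_apply, Finset.sum_eq_single v, h2, Finset.prod_range_succ]
      · intro b _ hb
        rcases lt_or_gt_of_ne hb with hb' | hb'
        · rw [hM b v hb', mul_zero]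
        · rw [h1 v b hb', zero_mul]
      · simp

lemma chainProd_sub {M : ℕ → Matrix (Fin n) (Fin n) F} {v w : Fin n} (hvw : v.val = w.val + 1) {k : ℕ}
    (h : ∀ i < k + 1, Low (M i)) :
    chainProd M (k + 1) v w = chainProd M k v w * M k w w + chainProd M k v v * M k v w := by
  obtain ⟨h1, -⟩ := chainProd_low (M := M) (k := k) fun i hi => h i (by omega)
  have hM := h k (by omega)
  show (chainProd M k * M k) v w = _
  have hne : w ≠ v := fun he => by rw [he] at hvw; omega
  rw [Matrix.mul_apply, ← Finset.add_sum_erase _ _ (Finset.mem_univ w), Finset.sum_eq_single v]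
  · intro b hb hbv
    have hbw : b.val ≠ w.val := fun h' => Finset.ne_of_mem_erase hb (Fin.ext h')
    have hbv' : b.val ≠ v.val := fun h' => hbv (Fin.ext h')
    rcases Nat.lt_or_ge b.val w.val with hb' | hb'
    · rw [hM b w hb', mul_zero]
    · rw [h1 v b (show v.val < b.val by omega), zero_mul]
  · exact fun h' => absurd (Finset.mem_erase.2 ⟨hne.symm, Finset.mem_univ _⟩) h'

lemma sub_unique {M : ℕ → Matrix (Fin n) (Fin n) F} {v w : Fin n} (hvw : v.val = w.val + 1) {i₀ : ℕ} :
    ∀ {k : ℕ}, (∀ i < k, Low (M i) ∧ M i v v ≠ 0 ∧ M i w w ≠ 0 ∧ (M i v w ≠ 0 ↔ i = i₀)) →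
      (chainProd M k v w ≠ 0 ↔ i₀ < k)
  | 0, _ => by
    have hne : v ≠ w := fun he => by rw [he] at hvw; omega
    simp [chainProd, Matrix.one_apply_ne hne]
  | k + 1, h => by
    have ih := sub_unique hvw (i₀ := i₀) (k := k) fun i hi => h i (by omega)
    obtain ⟨-, hv, hw, hiff⟩ := h k (by omega)
    have hd : chainProd M k v v ≠ 0 := by
      rw [(chainProd_low fun i hi => (h i (by omega)).1).2]
      exact Finset.prod_ne_zero_iff.2 fun i hi => (h i (by have := Finset.mem_range.1 hi; omega)).2.1
    rw [chainProd_sub hvw fun i hi => (h i hi).1]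
    by_cases hk : k = i₀
    · have hz : chainProd M k v w = 0 := by
        by_contra h0
        have := ih.1 h0
        omega
      rw [hz, zero_mul, zero_add]
      exact ⟨fun _ => by omega, fun _ => mul_ne_zero hd (hiff.2 hk)⟩
    · have hz : M k v w = 0 := by
        by_contra h0
        exact hk (hiff.1 h0)
      rw [hz, mul_zero, add_zero, mul_ne_zero_iff_right hw, ih]
      omega

lemma sub_const {M : ℕ → Matrix (Fin n) (Fin n) F} {lam : F} {v w : Fin n} (hvw : v.val = w.val + 1) :
    ∀ {k : ℕ}, (∀ i < k + 1, Low (M i) ∧ M i v v = lam ∧ M i w w = lam) →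
      chainProd M (k + 1) v w = lam ^ k * ∑ i ∈ Finset.range (k + 1), M i v w
  | 0, h => by
    rw [chainProd_sub hvw fun i hi => (h i hi).1]
    have hne : v ≠ w := fun he => by rw [he] at hvw; omega
    simp [chainProd, Matrix.one_apply_ne hne]
  | k + 1, h => by
    rw [chainProd_sub hvw fun i hi => (h i hi).1, sub_const hvw (k := k) fun i hi => h i (by omega),
      (h (k + 1) (by omega)).2.2, Finset.sum_range_succ _ (k + 1), (chainProd_low fun i hi => (h i (by omega)).1).2,
      Finset.prod_congr rfl (fun i hi => (h i (by have := Finset.mem_range.1 hi; omega)).2.1), Finset.prod_const,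
      Finset.card_range, pow_succ]
    ring

/-- The place of the edge below a vertex: even edges first. -/
def posV (n v : ℕ) : ℕ := if v % 2 = 1 then (v - 1) / 2 else n / 2 + (v - 2) / 2

/-- The vertex above a place. -/
def vtx (n p : ℕ) : ℕ := if p < n / 2 then 2 * p + 1 else 2 * (p - n / 2) + 2

/-- The upper endpoints of the edges in a range of places. -/
def winT (n a b : ℕ) : Finset (Fin n) := Finset.univ.filter fun v => 1 ≤ v.val ∧ a ≤ posV n v.val ∧ posV n v.val < b

lemma mem_winT {a b : ℕ} {v : Fin n} : v ∈ winT n a b ↔ 1 ≤ v.val ∧ a ≤ posV n v.val ∧ posV n v.val < b := by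
  simp [winT]

lemma card_winT {a b : ℕ} (hab : a ≤ b) (hb : b ≤ n - 1) : (winT n a b).card = b - a := by
  rw [← Nat.card_Ico]
  refine Finset.card_bij (fun v _ => posV n v.val) (fun v hv => ?_) (fun v hv w hw h => ?_) fun p hp => ?_
  · rw [mem_winT] at hv; exact Finset.mem_Ico.2 hv.2
  · rw [mem_winT] at hv hw
    refine Fin.ext ?_
    unfold posV at h
    split_ifs at h <;> omega
  · rw [Finset.mem_Ico] at hp
    have hlt : vtx n p < n := by unfold vtx; split_ifs <;> omega
    refine ⟨⟨vtx n p, hlt⟩, ?_, ?_⟩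
    · rw [mem_winT]; unfold vtx posV; split_ifs <;> simp_all <;> omega
    · unfold vtx posV; split_ifs <;> simp_all <;> omega

/-- The lower neighbour. -/
def pred' (v : Fin n) : Fin n := ⟨v.val - 1, by omega⟩

lemma pred'_injOn {a b : ℕ} : Set.InjOn pred' (winT n a b : Set (Fin n)) := by
  intro v hv w hw h
  rw [Finset.mem_coe, mem_winT] at hv hw
  have := congrArg Fin.val h
  simp only [pred'] at this
  exact Fin.ext (by omega)

/-- Neighbours are never in the same window. -/
lemma pred'_notMem {a b u : ℕ} (hb : b ≤ a + u) (hn : 2 * u + 2 ≤ n ∨ (n = 2 * u + 1 ∧ (b ≤ u ∨ u ≤ a))) {v : Fin n}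
    (hv : v ∈ winT n a b) : pred' v ∉ winT n a b := by
  intro hp
  rw [mem_winT] at hv hp
  simp only [pred'] at hp
  unfold posV at hv hp
  have := v.2
  split_ifs at hv hp <;> omega

lemma qmat_low {lam nu : F} {S T : Finset (Fin n)} {c : Fin n → F} (hT : ∀ v ∈ T, 1 ≤ v.val) :
    Low (qmat lam nu S T pred' c) := by
  intro i l hil
  have h : i.val < l.val := hil
  simp only [qmat, Matrix.of_apply, if_neg hil.ne]
  rw [if_neg]
  rintro ⟨-, he⟩
  have := congrArg Fin.val he
  simp only [pred'] at this
  omega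

lemma qmat_sub {lam nu : F} {S T : Finset (Fin n)} {c : Fin n → F} {v w : Fin n} (hvw : v.val = w.val + 1) :
    qmat lam nu S T pred' c v w = if v ∈ T then c v else 0 := by
  have hne : v ≠ w := fun he => by rw [he] at hvw; omega
  have hw : w = pred' v := Fin.ext (by simp [pred']; omega)
  simp only [qmat, Matrix.of_apply, if_neg hne]
  by_cases h : v ∈ T <;> simp [h, hw]

lemma qmat_diag {lam nu : F} {S T : Finset (Fin n)} {c : Fin n → F} (v : Fin n) :
    qmat lam nu S T pred' c v v = if v ∈ S then nu else lam := by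
  simp [qmat]

/-- The regular split product with its diagonal. -/
def QuadElem (A : Matrix (Fin n) (Fin n) F) : Prop :=
  ∃ (j : ℕ) (T : Matrix (Fin n) (Fin n) F) (β : Fin n → F), Cyc T ∧ SplitBy T β ∧ (∀ i, β i ≠ 0) ∧
    T ∈ Prods (Sc A) j ∧
    ((2 * j ≤ n ∧ ∃ c : F, (∀ v : Fin n, v.val ≠ 0 → β v = c) ∧ (2 * j = n → ∀ v, β v = c)) ∨ 3 * j ≤ n)

lemma exists_chunk {st : ℕ → ℕ} (h0 : st 0 = 0) : ∀ {j p : ℕ}, p < st j → ∃ k < j, st k ≤ p ∧ p < st (k + 1)
  | 0, p, hp => by omega
  | j + 1, p, hp => by
    by_cases h : p < st j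
    · obtain ⟨k, hk, h1⟩ := exists_chunk h0 h
      exact ⟨k, by omega, h1⟩
    · exact ⟨j, by omega, by omega, hp⟩

variable [Fintype F]

/-- Semisimple classes, given the chunks and the fillers. -/
lemma chunk_elem {t u j : ℕ} {A : Matrix (Fin n) (Fin n) F} {lam nu : F} {f : F[X]} (hf : f.Monic)
    (hd : f.natDegree = 2) (hfac : f = (X - C lam) * (X - C nu))
    (hA : Dec A (List.replicate t (X - C lam) ++ List.replicate u f)) (hlam : lam ≠ 0) (hnu : nu ≠ 0) (hne : lam ≠ nu)
    (st : ℕ → ℕ) (h0 : st 0 = 0) (hj : st j = n - 1) (hmono : ∀ k < j, st k ≤ st (k + 1))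
    (hsep : ∀ k < j, 2 * u + 2 ≤ n ∨ (n = 2 * u + 1 ∧ (st (k + 1) ≤ u ∨ u ≤ st k)))
    (Fi : ℕ → Finset (Fin n)) (hdisj : ∀ k < j, ∀ v ∈ winT n (st k) (st (k + 1)), v ∉ Fi k ∧ pred' v ∉ Fi k)
    (hsize : ∀ k < j, (st (k + 1) - st k) + (Fi k).card = u)
    (β : Fin n → F) (hβ : ∀ v, β v = ∏ k ∈ Finset.range j, if v ∈ winT n (st k) (st (k + 1)) ∪ Fi k then nu else lam)
    (hgr : Grouped β) :
    ∃ T : Matrix (Fin n) (Fin n) F, Cyc T ∧ SplitBy T β ∧ (∀ i, β i ≠ 0) ∧ T ∈ Prods (Sc A) j := by
  classical
  have hst : ∀ k ≤ j, ∀ k' ≤ j, k ≤ k' → st k ≤ st k' := by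
    intro k hk k' hk' hkk'
    induction k', hkk' using Nat.le_induction with
    | base => exact le_rfl
    | succ m hm ih => exact (ih (by omega)).trans (hmono m (by omega))
  let M : ℕ → Matrix (Fin n) (Fin n) F := fun k =>
    qmat lam nu (winT n (st k) (st (k + 1)) ∪ Fi k) (winT n (st k) (st (k + 1))) pred' fun _ => 1
  have hlow : ∀ k, Low (M k) := fun k => qmat_low fun v hv => (mem_winT.1 hv).1
  have hmem : ∀ k < j, M k ∈ Sc A := by
    intro k hk
    have hb : st (k + 1) ≤ n - 1 := hj ▸ hst (k + 1) (by omega) j le_rfl (by omega)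
    refine qmat_mem hf hd hfac hA _ _ _ _ ?_ Finset.subset_union_left (fun v hv => ?_) pred'_injOn
      (fun _ _ => Or.inl one_ne_zero) (Or.inr hne)
    · rw [Finset.card_union_of_disjoint (Finset.disjoint_left.2 fun v hv => (hdisj k hk v hv).1),
        card_winT (hmono k hk) hb]
      exact hsize k hk
    · rw [Finset.mem_union, not_or]
      exact ⟨pred'_notMem (by have := hsize k hk; have := hmono k hk; omega) (hsep k hk) hv, (hdisj k hk v hv).2⟩
  have hdiag : ∀ k v, M k v v ≠ 0 := fun k v => by
    simp only [M, qmat_diag]; split_ifs <;> assumption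
  obtain ⟨hlw, hdg⟩ := chainProd_low (M := M) (k := j) fun i _ => hlow i
  have hTd : ∀ v, chainProd M j v v = β v := fun v => by
    rw [hdg, hβ]
    exact Finset.prod_congr rfl fun k _ => qmat_diag v
  have hβ0 : ∀ i, β i ≠ 0 := fun v => by
    rw [hβ]; exact Finset.prod_ne_zero_iff.2 fun k _ => by split_ifs <;> assumption
  have hsub : ∀ v w : Fin n, v.val = w.val + 1 → chainProd M j v w ≠ 0 := by
    intro v w hvw
    have hp : posV n v.val < st j := by
      rw [hj]; have := v.2; unfold posV; split_ifs <;> omega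
    obtain ⟨k₀, hk₀, hk1, hk2⟩ := exists_chunk h0 hp
    refine (sub_unique hvw (i₀ := k₀) fun i hi => ⟨hlow i, hdiag i v, hdiag i w, ?_⟩).2 hk₀
    simp only [M, qmat_sub hvw, ite_ne_right_iff, ne_eq, one_ne_zero, not_false_eq_true, and_true, mem_winT]
    constructor
    · rintro ⟨-, h1, h2⟩
      by_contra hne'
      rcases Nat.lt_or_gt_of_ne hne' with h | h
      · have := hst (i + 1) (by omega) k₀ (by omega) (by omega); omega
      · have := hst (k₀ + 1) (by omega) i (by omega) (by omega); omega
    · rintro rfl; exact ⟨by omega, hk1, hk2⟩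
  have hlw' : H41.IsLowerWith β (chainProd M j) := ⟨hlw, hTd⟩
  exact ⟨_, cyc_lower hlw' hβ0 hgr fun v w hvw _ => hsub v w hvw, splitBy_lower hlw', hβ0, chainProd_mem hmem⟩

/-- Semisimple classes. -/
theorem semisimple_elem {t u : ℕ} {A : Matrix (Fin n) (Fin n) F} {lam nu : F} {f : F[X]} (hf : f.Monic)
    (hd : f.natDegree = 2) (hfac : f = (X - C lam) * (X - C nu))
    (hA : Dec A (List.replicate t (X - C lam) ++ List.replicate u f)) (hlam : lam ≠ 0) (hnu : nu ≠ 0) (hne : lam ≠ nu)
    (hu : 2 ≤ u) (ht : 1 ≤ t) (hn : n = 2 * u + t) : QuadElem A := by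
  classical
  obtain ⟨j₁, hj1, hj2⟩ : ∃ j₁, j₁ * u < n - 1 ∧ n - 1 ≤ j₁ * u + u := by
    refine ⟨(n - 2) / u, ?_, ?_⟩ <;>
      · have h1 := Nat.div_add_mod (n - 2) u
        have h2 := Nat.mod_lt (n - 2) (show u > 0 by omega)
        rw [mul_comm u] at h1
        omega
  obtain ⟨j, hjdef⟩ : ∃ j, j = j₁ + 1 := ⟨_, rfl⟩
  have hju : j * u = j₁ * u + u := by rw [hjdef, Nat.succ_mul]
  set r := j * u - (n - 1) with hr
  have hj₁ : 1 ≤ j₁ := by
    by_contra h0
    have : j₁ = 0 := by omega
    rw [this] at hj2
    omega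
  have hpos : ∀ v : Fin n, posV n v.val < n - 1 := fun v => by
    have := v.2; unfold posV; split_ifs <;> omega
  by_cases hrj : r < j
  · -- surplus at the first vertex
    let st : ℕ → ℕ := fun k => k * u - (k - (j - r))
    let Fi : ℕ → Finset (Fin n) := fun k => if j - r ≤ k then {⟨0, by omega⟩} else ∅
    have hst_succ : ∀ k, st (k + 1) = k * u + u - (k + 1 - (j - r)) := fun k => by simp [st, Nat.succ_mul]
    have hst : ∀ k, st k = k * u - (k - (j - r)) := fun k => rfl
    have hk : ∀ k, k ≤ k * u := fun k => Nat.le_mul_of_pos_right k (by omega)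
    have h0 : st 0 = 0 := by simp [st]
    have hjn : st j = n - 1 := by rw [hst]; omega
    have hmono : ∀ k < j, st k ≤ st (k + 1) := fun k _ => by rw [hst_succ, hst]; have := hk k; omega
    let β : Fin n → F := fun v =>
      ∏ k ∈ Finset.range j, if v ∈ winT n (st k) (st (k + 1)) ∪ Fi k then nu else lam
    have hmem0 : ∀ k (v : Fin n), v.val ≠ 0 → (v ∈ winT n (st k) (st (k + 1)) ∪ Fi k ↔ v ∈ winT n (st k) (st (k + 1))) := by
      intro k v hv
      simp only [Finset.mem_union, Fi]
      refine ⟨?_, Or.inl⟩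
      rintro (h | h)
      · exact h
      · split_ifs at h
        · rw [Finset.mem_singleton] at h; exact absurd (congrArg Fin.val h) hv
        · simp at h
    have hmono' : ∀ k, k ≤ j → ∀ k', k' ≤ j → k ≤ k' → st k ≤ st k' := by
      intro k hk k' hk' hkk'
      induction k', hkk' using Nat.le_induction with
      | base => exact le_rfl
      | succ m hm ih => exact (ih (by omega)).trans (hmono m (by omega))
    have hconst : ∀ v : Fin n, v.val ≠ 0 → β v = nu * lam ^ j₁ := by
      intro v hv
      obtain ⟨k₀, hk₀, h1, h2⟩ := exists_chunk h0 (show posV n v.val < st j by rw [hjn]; exact hpos v)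
      have e : ∀ k ∈ Finset.range j, (v ∈ winT n (st k) (st (k + 1)) ∪ Fi k ↔ k = k₀) := by
        intro k hkj
        rw [Finset.mem_range] at hkj
        rw [hmem0 k v hv, mem_winT]
        constructor
        · rintro ⟨-, h3, h4⟩
          by_contra hne'
          rcases Nat.lt_or_gt_of_ne hne' with h | h
          · have := hmono' (k + 1) (by omega) k₀ (by omega) (by omega); omega
          · have := hmono' (k₀ + 1) (by omega) k (by omega) (by omega); omega
        · rintro rfl; exact ⟨by omega, h1, h2⟩
      show (∏ k ∈ Finset.range j, _) = _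
      rw [← Finset.mul_prod_erase _ _ (Finset.mem_range.2 hk₀), if_pos ((e k₀ (Finset.mem_range.2 hk₀)).2 rfl),
        Finset.prod_congr rfl (g := fun _ => lam) fun k hk' =>
          if_neg fun h => Finset.ne_of_mem_erase hk' ((e k (Finset.mem_of_mem_erase hk')).1 h),
        Finset.prod_const, Finset.card_erase_of_mem (Finset.mem_range.2 hk₀), Finset.card_range]
      congr 2
      omega
    have hj2n : 2 * j ≤ n ∧ (2 * j = n → r = 1) := by
      have h1 : j₁ * 2 ≤ j₁ * u := Nat.mul_le_mul_left _ hu
      refine ⟨by omega, fun h => ?_⟩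
      rcases (show u = 2 ∨ 3 ≤ u by omega) with rfl | hu3
      · omega
      · have h2 : j₁ * 3 ≤ j₁ * u := Nat.mul_le_mul_left _ hu3
        omega
    obtain ⟨T, hT, hs, hβ, hTm⟩ := chunk_elem hf hd hfac hA hlam hnu hne st h0 hjn hmono (fun k hkj => by
      rcases (show 2 * u + 2 ≤ n ∨ n = 2 * u + 1 by omega) with h | h
      · exact Or.inl h
      · refine Or.inr ⟨h, ?_⟩
        have hj2' : j₁ = 1 := by
          by_contra hne'
          have : 2 * u ≤ j₁ * u := Nat.mul_le_mul_right u (by omega)
          omega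
        rw [hst_succ, hst]
        rcases (show k = 0 ∨ k = 1 by omega) with rfl | rfl
        · left; omega
        · right; rw [hj2'] at hjdef; omega) Fi
      (fun k hkj v hv => by
        simp only [Fi]
        rw [mem_winT] at hv
        split_ifs with h
        · simp only [Finset.mem_singleton, Fin.ext_iff, pred']
          refine ⟨by omega, fun hv1 => ?_⟩
          have : v.val = 1 := by omega
          have hp : posV n v.val = 0 := by rw [this]; simp [posV]
          have h1 := hst_succ 0
          have h2 : st 1 ≤ st k := hmono' 1 (by omega) k (by omega) (by omega)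
          simp at h1
          omega
        · simp)
      (fun k hkj => by
        rw [hst_succ, hst]
        simp only [Fi]
        have := hk k
        split_ifs with h <;> simp <;> omega)
      β (fun v => rfl) (by
        intro a b c hab hbc h
        have hb0 : b.val ≠ 0 := by have : a.val < b.val := hab; omega
        have hc0 : c.val ≠ 0 := by have : b.val < c.val := hbc; omega
        rw [hconst b hb0, h, hconst c hc0])
    refine ⟨j, T, β, hT, hs, hβ, hTm, Or.inl ⟨hj2n.1, nu * lam ^ j₁, hconst, fun h v => ?_⟩⟩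
    by_cases hv : v.val = 0
    · have hr1 := hj2n.2 h
      show (∏ k ∈ Finset.range j, _) = _
      have e : ∀ k ∈ Finset.range j, (v ∈ winT n (st k) (st (k + 1)) ∪ Fi k ↔ k = j₁) := by
        intro k hkj
        rw [Finset.mem_range] at hkj
        simp only [Finset.mem_union, mem_winT, Fi]
        split_ifs with h' <;> simp [hv, Fin.ext_iff] <;> omega
      rw [← Finset.mul_prod_erase _ _ (Finset.mem_range.2 (show j₁ < j by omega)),
        if_pos ((e j₁ (Finset.mem_range.2 (by omega))).2 rfl),
        Finset.prod_congr rfl (g := fun _ => lam) fun k hk' =>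
          if_neg fun h => Finset.ne_of_mem_erase hk' ((e k (Finset.mem_of_mem_erase hk')).1 h),
        Finset.prod_const, Finset.card_erase_of_mem (Finset.mem_range.2 (show j₁ < j by omega)), Finset.card_range]
      congr 2
      omega
    · exact hconst v hv
  · -- surplus at low vertices inside the last chunk
    have hu4 : 4 ≤ u := by
      by_contra h
      have : j₁ ≥ 2 := by
        by_contra h'
        have : j₁ = 1 := by omega
        rw [this] at hj2 hju
        omega
      omega
    have h3j : 3 * j ≤ n := by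
      have : j₁ * 4 ≤ j₁ * u := Nat.mul_le_mul_left _ hu4
      omega
    have hn2 : 2 * u + 2 ≤ n := by
      by_contra h
      have : j₁ = 1 := by
        by_contra hne'
        have : 2 * u ≤ j₁ * u := Nat.mul_le_mul_right u (by omega)
        omega
      rw [this] at hj2 hju
      omega
    let st : ℕ → ℕ := fun k => min (k * u) (n - 1)
    let Fi : ℕ → Finset (Fin n) := fun k =>
      if k = j₁ then Finset.univ.filter (fun v => 1 ≤ v.val ∧ v.val ≤ r) else ∅
    have hst : ∀ k, st k = min (k * u) (n - 1) := fun k => rfl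
    have hst_succ : ∀ k, st (k + 1) = min (k * u + u) (n - 1) := fun k => by simp [st, Nat.succ_mul]
    have h0 : st 0 = 0 := by simp [st]
    have hjn : st j = n - 1 := by rw [hst]; omega
    have hlt : ∀ k < j₁, k * u + u ≤ j₁ * u := fun k hk => by
      rw [← Nat.succ_mul]; exact Nat.mul_le_mul_right u hk
    have hmono : ∀ k < j, st k ≤ st (k + 1) := fun k _ => by rw [hst_succ, hst]; omega
    have hmono' : ∀ k, k ≤ j → ∀ k', k' ≤ j → k ≤ k' → st k ≤ st k' := by
      intro k hk k' hk' hkk'
      induction k', hkk' using Nat.le_induction with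
      | base => exact le_rfl
      | succ m hm ih => exact (ih (by omega)).trans (hmono m (by omega))
    let β : Fin n → F := fun v =>
      ∏ k ∈ Finset.range j, if v ∈ winT n (st k) (st (k + 1)) ∪ Fi k then nu else lam
    have hlast : ∀ v : Fin n, v ∈ winT n (st j₁) (st (j₁ + 1)) → r + 2 ≤ v.val := by
      intro v hv
      rw [mem_winT, hst_succ, hst] at hv
      unfold posV at hv
      split_ifs at hv <;> omega
    have hfi : ∀ k (v : Fin n), v ∈ Fi k ↔ k = j₁ ∧ 1 ≤ v.val ∧ v.val ≤ r := fun k v => by
      simp only [Fi]; split_ifs with h <;> simp [h]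
    have hβ0v : ∀ v : Fin n, v.val = 0 → β v = lam ^ j₁ * lam := by
      intro v hv
      show (∏ k ∈ Finset.range j, _) = _
      rw [Finset.prod_congr rfl (g := fun _ => lam) fun k _ => if_neg (by
        rw [Finset.mem_union, mem_winT, hfi]; omega), Finset.prod_const, Finset.card_range, hjdef, pow_succ]
    have hβv : ∀ v : Fin n, v.val ≠ 0 →
        β v = if v.val ≤ r then nu * nu * lam ^ (j₁ - 1) else nu * lam ^ j₁ := by
      intro v hv
      obtain ⟨k₀, hk₀, h1, h2⟩ := exists_chunk h0 (show posV n v.val < st j by rw [hjn]; exact hpos v)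
      have e : ∀ k ∈ Finset.range j,
          (v ∈ winT n (st k) (st (k + 1)) ∪ Fi k ↔ (k = k₀ ∨ (k = j₁ ∧ v.val ≤ r))) := by
        intro k hkj
        rw [Finset.mem_range] at hkj
        rw [Finset.mem_union, mem_winT, hfi]
        constructor
        · rintro (⟨-, h3, h4⟩ | h)
          · left
            by_contra hne'
            rcases Nat.lt_or_gt_of_ne hne' with h | h
            · have := hmono' (k + 1) (by omega) k₀ (by omega) (by omega); omega
            · have := hmono' (k₀ + 1) (by omega) k (by omega) (by omega); omega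
          · exact Or.inr ⟨h.1, h.2.2⟩
        · rintro (rfl | ⟨rfl, h⟩)
          · exact Or.inl ⟨by omega, h1, h2⟩
          · exact Or.inr ⟨rfl, by omega, h⟩
      show (∏ k ∈ Finset.range j, _) = _
      rw [← Finset.mul_prod_erase _ _ (Finset.mem_range.2 hk₀), if_pos ((e k₀ (Finset.mem_range.2 hk₀)).2 (Or.inl rfl))]
      by_cases hvr : v.val ≤ r
      · rw [if_pos hvr]
        have hne' : j₁ ≠ k₀ := fun h => by
          have := hlast v (mem_winT.2 ⟨by omega, h ▸ h1, h ▸ h2⟩); omega
        have hmem : j₁ ∈ (Finset.range j).erase k₀ := Finset.mem_erase.2 ⟨hne', Finset.mem_range.2 (by omega)⟩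
        rw [← Finset.mul_prod_erase _ _ hmem, if_pos ((e j₁ (Finset.mem_of_mem_erase hmem)).2 (Or.inr ⟨rfl, hvr⟩)),
          Finset.prod_congr rfl (g := fun _ => lam) fun k hk' => if_neg fun h => by
            rcases (e k (Finset.mem_of_mem_erase (Finset.mem_of_mem_erase hk'))).1 h with h' | ⟨h', -⟩
            · exact Finset.ne_of_mem_erase (Finset.mem_of_mem_erase hk') h'
            · exact Finset.ne_of_mem_erase hk' h',
          Finset.prod_const, Finset.card_erase_of_mem hmem,
          Finset.card_erase_of_mem (Finset.mem_range.2 hk₀), Finset.card_range, mul_assoc]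
        congr 3
        omega
      · rw [if_neg hvr, Finset.prod_congr rfl (g := fun _ => lam) fun k hk' => if_neg fun h => by
            rcases (e k (Finset.mem_of_mem_erase hk')).1 h with h' | ⟨-, h'⟩
            · exact Finset.ne_of_mem_erase hk' h'
            · exact hvr h',
          Finset.prod_const, Finset.card_erase_of_mem (Finset.mem_range.2 hk₀), Finset.card_range]
        congr 2
        omega
    obtain ⟨T, hT, hs, hβ, hTm⟩ := chunk_elem hf hd hfac hA hlam hnu hne st h0 hjn hmono
      (fun k _ => Or.inl hn2) Fi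
      (fun k hkj v hv => by
        simp only [hfi, pred']
        refine ⟨fun h => ?_, fun h => ?_⟩ <;>
          · have := hlast v (h.1 ▸ hv); omega)
      (fun k hkj => by
        rw [hst_succ, hst]
        simp only [Fi]
        split_ifs with h
        · subst h
          have hc : (Finset.univ.filter fun v : Fin n => 1 ≤ v.val ∧ v.val ≤ r).card = r := by
            have : (Finset.univ.filter fun v : Fin n => 1 ≤ v.val ∧ v.val ≤ r).image Fin.val = Finset.Icc 1 r := by
              ext x
              simp only [Finset.mem_image, Finset.mem_filter, Finset.mem_univ, true_and, Finset.mem_Icc]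
              exact ⟨by rintro ⟨v, hv, rfl⟩; exact hv, fun hx => ⟨⟨x, by omega⟩, hx, rfl⟩⟩
            rw [← Finset.card_image_of_injective _ Fin.val_injective, this, Nat.card_Icc]
            omega
          rw [hc]; omega
        · have := hlt k (by omega)
          simp; omega)
      β (fun v => rfl) (by
        have hp : lam ^ j₁ = lam ^ (j₁ - 1) * lam := by rw [← pow_succ]; congr 1; omega
        have hpne : lam ^ (j₁ - 1) ≠ 0 := pow_ne_zero _ hlam
        intro a b c hab hbc h
        have hab' : a.val < b.val := hab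
        have hbc' : b.val < c.val := hbc
        rw [hβv b (by omega)]
        rw [hβv c (by omega)] at h
        by_cases ha : a.val = 0
        · rw [hβ0v a ha] at h ⊢
          by_cases hc : c.val ≤ r
          · rw [if_pos (show b.val ≤ r by omega)]; rw [if_pos hc] at h; exact h.symm
          · rw [if_neg hc] at h
            exact absurd (mul_left_cancel₀ (pow_ne_zero j₁ hlam) (h.trans (mul_comm _ _))) hne
        · rw [hβv a ha] at h ⊢
          by_cases hb : b.val ≤ r
          · rw [if_pos hb, if_pos (show a.val ≤ r by omega)]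
          · rw [if_neg hb]
            rw [if_neg (show ¬ c.val ≤ r by omega)] at h
            exact h.symm)
    exact ⟨j, T, β, hT, hs, hβ, hTm, Or.inr h3j⟩

/-- Unipotent-type classes. -/
theorem unipotent_elem (hq : 3 ≤ Fintype.card F) {t u : ℕ} {A : Matrix (Fin n) (Fin n) F} {lam : F} {f : F[X]}
    (hf : f.Monic) (hd : f.natDegree = 2) (hfac : f = (X - C lam) * (X - C lam))
    (hA : Dec A (List.replicate t (X - C lam) ++ List.replicate u f)) (hlam : lam ≠ 0)
    (hu : 2 ≤ u) (ht : 1 ≤ t) (hn : n = 2 * u + t) : QuadElem A := by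
  classical
  obtain ⟨j₁, hj1, hj2⟩ : ∃ j₁, j₁ * u < n - 1 ∧ n - 1 ≤ j₁ * u + u := by
    refine ⟨(n - 2) / u, ?_, ?_⟩ <;>
      · have h1 := Nat.div_add_mod (n - 2) u
        have h2 := Nat.mod_lt (n - 2) (show u > 0 by omega)
        rw [mul_comm u] at h1
        omega
  obtain ⟨x, hx⟩ : ∃ x : F, x ≠ 0 ∧ 1 + x ≠ 0 := by
    obtain ⟨x, hx⟩ := Finset.exists_mem_notMem_of_card_lt_card (s := ({0, -1} : Finset F)) (t := Finset.univ)
      (by rw [Finset.card_univ]; exact lt_of_le_of_lt Finset.card_le_two (by omega))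
    simp only [Finset.mem_univ, true_and, Finset.mem_insert, Finset.mem_singleton, not_or] at hx
    exact ⟨x, hx.1, fun h => hx.2 (eq_neg_of_add_eq_zero_right h)⟩
  let st : ℕ → ℕ := fun k => if k = j₁ then n - 1 - u else k * u
  let T : ℕ → Finset (Fin n) := fun k => winT n (st k) (st k + u)
  let M : ℕ → Matrix (Fin n) (Fin n) F := fun k =>
    qmat lam lam (T k) (T k) pred' fun _ => if k = j₁ then x else 1
  have hlow : ∀ k, Low (M k) := fun k => qmat_low fun v hv => (mem_winT.1 hv).1
  have hlt : ∀ k < j₁, k * u + u ≤ j₁ * u := fun k hk => by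
    rw [← Nat.succ_mul]; exact Nat.mul_le_mul_right u hk
  have hmem : ∀ k < j₁ + 1, M k ∈ Sc A := by
    intro k hk
    have hb : st k + u ≤ n - 1 := by
      simp only [st]; split_ifs with h
      · omega
      · have := hlt k (by omega); omega
    have hsep : 2 * u + 2 ≤ n ∨ (n = 2 * u + 1 ∧ (st k + u ≤ u ∨ u ≤ st k)) := by
      rcases (show 2 * u + 2 ≤ n ∨ n = 2 * u + 1 by omega) with h | h
      · exact Or.inl h
      · refine Or.inr ⟨h, ?_⟩
        simp only [st]; split_ifs with h'
        · omega
        · rcases Nat.eq_zero_or_pos k with rfl | hk0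
          · simp
          · right; calc u = 1 * u := (one_mul u).symm
              _ ≤ k * u := Nat.mul_le_mul_right u hk0
    refine qmat_mem hf hd hfac hA _ _ _ _ ?_ subset_rfl (fun v hv => pred'_notMem le_rfl hsep hv)
      pred'_injOn (fun _ _ => Or.inl ?_) (Or.inl rfl)
    · simp only [T]; rw [card_winT (by omega) hb]; omega
    · split_ifs <;> [exact hx.1; exact one_ne_zero]
  have hdiag : ∀ k v, M k v v = lam := fun k v => by simp [M, qmat_diag]
  obtain ⟨hlw, hdg⟩ := chainProd_low (M := M) (k := j₁ + 1) fun i _ => hlow i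
  have hTd : ∀ v, chainProd M (j₁ + 1) v v = lam ^ (j₁ + 1) := fun v => by
    rw [hdg, Finset.prod_congr rfl fun k _ => hdiag k v, Finset.prod_const, Finset.card_range]
  have hsub : ∀ v w : Fin n, v.val = w.val + 1 → chainProd M (j₁ + 1) v w ≠ 0 := by
    intro v w hvw
    rw [sub_const hvw fun i _ => ⟨hlow i, hdiag i v, hdiag i w⟩]
    refine mul_ne_zero (pow_ne_zero _ hlam) ?_
    set p := posV n v.val with hp
    have hpn : p < n - 1 := by rw [hp]; have := v.2; unfold posV; split_ifs <;> omega
    have hM : ∀ k, M k v w = if st k ≤ p ∧ p < st k + u then (if k = j₁ then x else 1) else 0 := fun k => by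
      simp only [M, qmat_sub hvw, T, mem_winT]
      simp [show 1 ≤ v.val by omega, hp]
    rw [Finset.sum_range_succ, hM j₁, if_pos rfl, show st j₁ = n - 1 - u from if_pos rfl]
    by_cases hp1 : p < j₁ * u
    · rw [Finset.sum_eq_single (p / u)]
      · have h1 := Nat.div_add_mod p u
        have h2 := Nat.mod_lt p (show u > 0 by omega)
        rw [mul_comm u] at h1
        have h3 : p / u < j₁ := (Nat.div_lt_iff_lt_mul (by omega)).2 hp1
        rw [hM, show st (p / u) = p / u * u from if_neg (by omega), if_pos (⟨by omega, by omega⟩), if_neg (by omega)]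
        split_ifs
        · exact hx.2
        · simp
      · intro k hk hne'
        rw [Finset.mem_range] at hk
        rw [hM, show st k = k * u from if_neg (by omega), if_neg]
        rintro ⟨h1, h2⟩
        exact hne' (Nat.div_eq_of_lt_le h1 (by rw [Nat.succ_mul]; exact h2)).symm
      · intro h
        exact absurd (Finset.mem_range.2 ((Nat.div_lt_iff_lt_mul (by omega)).2 hp1)) h
    · rw [Finset.sum_eq_zero fun k hk => by
        rw [Finset.mem_range] at hk
        have := hlt k hk
        rw [hM, show st k = k * u from if_neg (by omega), if_neg (by omega)], zero_add, if_pos (by omega)]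
      exact hx.1
  have hlw' : H41.IsLowerWith (fun _ => lam ^ (j₁ + 1)) (chainProd M (j₁ + 1)) := ⟨hlw, hTd⟩
  have h2j : 2 * (j₁ + 1) ≤ n := by
    have : j₁ * 2 ≤ j₁ * u := Nat.mul_le_mul_left _ hu
    omega
  exact ⟨j₁ + 1, _, _, cyc_lower hlw' (fun _ => pow_ne_zero _ hlam) (fun _ _ _ _ _ _ => rfl)
    fun v w hvw _ => hsub v w hvw, splitBy_lower hlw', fun _ => pow_ne_zero _ hlam, chainProd_mem hmem,
    Or.inl ⟨h2j, _, fun v _ => rfl, fun _ v => rfl⟩⟩

end H89.CN
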