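import Cfsg.Agent.H89.CN.Elem0

/-!
Classes without scalar block, in dimension at least four.
-/

set_option autoImplicit false

namespace H89.CN

open Matrix Polynomial

variable {F : Type*} [Field F]

lemma eq_of_deg_two {l : List F[X]} (hl : ∀ f ∈ l, f.Monic) (hp : l.Pairwise (· ∣ ·)) {f g : F[X]} (hf : f ∈ l)
    (hg : g ∈ l) (hfd : f.natDegree = 2) (hgd : g.natDegree = 2) : f = g := by
  induction l with
  | nil => simp at hf
  | cons x l ih =>
    rw [List.pairwise_cons] at hp
    have key : ∀ {y : F[X]}, y ∈ l → x.natDegree = 2 → y.natDegree = 2 → x = y := fun {y} hy h1 h2 =>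
      (eq_of_monic_of_dvd_of_natDegree_le (hl x List.mem_cons_self) (hl y (List.mem_cons_of_mem _ hy))
        (hp.1 y hy) (by omega)).symm
    rcases List.mem_cons.1 hf with rfl | hf' <;> rcases List.mem_cons.1 hg with rfl | hg'
    · rfl
    · exact key hg' hfd hgd
    · exact (key hf' hgd hfd).symm
    · exact ih (fun y hy => hl y (List.mem_cons_of_mem _ hy)) hp.2 hf' hg'

/-- The mono block has a single value. -/
lemma bv_mono {f : F[X]} (hd : f.natDegree = 2) (hf0 : f.coeff 0 ≠ 0) :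
    bv (f, -f.coeff 0) = -f.coeff 0 := by
  rw [bv]
  simp only [hd]
  rw [div_eq_iff (pow_ne_zero _ (neg_ne_zero.2 hf0))]
  ring

variable [Fintype F]

lemma two_ne_of_not_full {n : ℕ} {A : Matrix (Fin n) (Fin n) F} (hsq : ∀ a : F, a ≠ 0 → CDet A (a ^ 2))
    (hnf : ¬ ∀ a : F, a ≠ 0 → CDet A a) : (2 : F) ≠ 0 := by
  intro h2
  have hinj : Function.Injective fun x : F => x ^ 2 := fun x y h => by
    have : (x - y) ^ 2 = 0 := by linear_combination h + (y ^ 2 - x * y) * h2
    exact sub_eq_zero.1 (pow_eq_zero_iff (n := 2) (by omega) |>.1 this)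
  refine hnf fun a ha => ?_
  obtain ⟨b, rfl⟩ := (Finite.injective_iff_surjective.1 hinj) a
  exact hsq b (fun hb => ha (by simp [hb]))

/-- If the squares are centraliser determinants but not everything is, all of them are squares. -/
lemma sq_of_cdet {n : ℕ} {A : Matrix (Fin n) (Fin n) F} (hsq : ∀ a : F, a ≠ 0 → CDet A (a ^ 2))
    (hnf : ¬ ∀ a : F, a ≠ 0 → CDet A a) {d : F} (hd : CDet A d) (hd0 : d ≠ 0) : IsSquare d := by
  classical
  by_contra hns
  refine hnf fun a ha => ?_
  by_cases has : IsSquare a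
  · obtain ⟨t, rfl⟩ := has
    rw [← sq]; exact hsq t (left_ne_zero_of_mul ha)
  · obtain ⟨t, ht⟩ : IsSquare (a / d) := by
      have h1 := (quadraticChar_neg_one_iff_not_isSquare).2 has
      have h2 := (quadraticChar_neg_one_iff_not_isSquare).2 hns
      refine (quadraticChar_one_iff_isSquare (div_ne_zero ha hd0)).1 ?_
      have : quadraticChar F (a / d) * quadraticChar F d = quadraticChar F a := by
        rw [← map_mul, div_mul_cancel₀ _ hd0]
      rw [h1, h2] at this
      linear_combination -this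
    have : a = t ^ 2 * d := by rw [sq, ← ht, div_mul_cancel₀ _ hd0]
    rw [this]
    exact (hsq t fun h => ha (by rw [this, h]; simp)).mul hd

/-- A quadratic block with a small centraliser is unipotent up to a scalar. -/
lemma quad_root {n : ℕ} {A : Matrix (Fin n) (Fin n) F} {l : List F[X]} (h : Dec A l) {f : F[X]} (hf : f ∈ l)
    (hm : f.Monic) (hd : f.natDegree = 2) (hnf : ¬ ∀ a : F, a ≠ 0 → CDet A a) :
    (2 : F) ≠ 0 ∧ ∃ r : F, f = (X - C r) * (X - C r) := by
  classical
  have hsq : ∀ a : F, a ≠ 0 → CDet A (a ^ 2) := fun a _ => by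
    have := cdet_scalar h hf a; rwa [hd] at this
  have h2 := two_ne_of_not_full hsq hnf
  refine ⟨h2, -f.coeff 1 / 2, ?_⟩
  set e := f.coeff 1 ^ 2 / 4 - f.coeff 0 with he
  have h4 : (4 : F) ≠ 0 := by
    rw [show (4 : F) = 2 * 2 by norm_num]; exact mul_ne_zero h2 h2
  suffices he0 : e = 0 by
    have hf0 : f.coeff 0 = (f.coeff 1 / 2) ^ 2 := by
      rw [he, sub_eq_zero] at he0; rw [← he0]; field_simp; ring
    conv_lhs => rw [hm.as_sum, hd]
    rw [Finset.sum_range_succ, Finset.sum_range_one, hf0]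
    simp only [neg_div, map_neg, sub_neg_eq_add, pow_zero, mul_one, pow_one, map_pow]
    have : C (f.coeff 1) = 2 * C (f.coeff 1 / 2) := by
      rw [show (2 : F[X]) = C 2 by simp [map_ofNat], ← map_mul]; congr 1; field_simp
    rw [this]; ring
  by_contra he0
  refine hnf fun κ hκ => ?_
  have hF : ringChar F ≠ 2 := fun h => h2 (by
    have := CharP.cast_eq_zero F (ringChar F); rwa [h, Nat.cast_ofNat] at this)
  obtain ⟨z, y, hzy⟩ := FiniteField.exists_root_sum_quadratic (f := X ^ 2 - C κ) (g := C (-e) * X ^ 2)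
    (degree_X_pow_sub_C (by omega) κ) (degree_C_mul_X_pow 2 (neg_ne_zero.2 he0))
    (FiniteField.odd_card_of_char_ne_two hF)
  simp only [eval_sub, eval_pow, eval_X, eval_C, eval_mul] at hzy
  set x := z + f.coeff 1 * y / 2 with hx
  have key : ∀ Z : Matrix (Fin 2) (Fin 2) F, Z * rComp 2 f = rComp 2 f * Z → CDet A Z.det := by
    intro Z hZ
    have := dec_cdet l A h f hf
    rw [hd] at this
    exact this Z hZ
  have hZ := key (x • 1 + y • rComp 2 f) (by simp [Matrix.add_mul, Matrix.mul_add])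
  have hdet : (x • (1 : Matrix (Fin 2) (Fin 2) F) + y • rComp 2 f).det = κ := by
    rw [Matrix.det_fin_two]
    simp [rComp, Matrix.one_apply]
    rw [hx]
    have : z ^ 2 - e * y ^ 2 = κ := by linear_combination hzy
    rw [← this, he]
    field_simp
    ring
  rwa [hdet] at hZ

/-! ### The element -/

variable [DecidableEq F]

/-- Squares miss some determinant: all blocks are large. -/
theorem elem_big_cubes (hq : 4 ≤ Fintype.card F) {n : ℕ} {A : Matrix (Fin n) (Fin n) F} {l : List F[X]} {g : F[X]}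
    (hdec : Dec A (l ++ [g])) (hl : ∀ f ∈ l ++ [g], f.Monic ∧ 2 ≤ f.natDegree ∧ f.coeff 0 ≠ 0)
    (hp : (l ++ [g]).Pairwise (· ∣ ·)) (hdA : A.det = 1) (hr : l ≠ [])
    (hs : ∃ s : F, s ≠ 0 ∧ ¬ CDet A (s ^ 2)) : ∃ ms, Elem A ms := by
  obtain ⟨s, hs0, hs⟩ := hs
  have h3 : ∀ f ∈ l ++ [g], 3 ≤ f.natDegree := by
    intro f hf
    rcases (show f.natDegree = 2 ∨ 3 ≤ f.natDegree by have := (hl f hf).2.1; omega) with h | h
    · have := cdet_scalar hdec hf s
      rw [h] at this
      exact absurd this hs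
    · exact h
  have hgm : g ∈ l ++ [g] := List.mem_append_right _ List.mem_cons_self
  obtain ⟨hg, -, hg0⟩ := hl g hgm
  have hg3 := h3 g hgm
  set ps := l.map fun f => (f, (-1 : F)) with hps
  have hfst : ps.map Prod.fst = l := by simp [hps, Function.comp_def]
  have hv : ∀ p ∈ ps, Valid p := fun p hp' => by
    obtain ⟨f, hf, rfl⟩ := List.mem_map.1 hp'
    have hf' := List.mem_append_left [g] hf
    exact ⟨(hl f hf').1, (hl f hf').2.1, (hl f hf').2.2, by simp, fun h => by
      have := h3 f hf'; simp only at h; omega⟩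
  have hok : ps.Pairwise OkPair := by
    rw [hps, List.pairwise_map]
    exact (List.pairwise_append.1 hp).1.imp_of_mem fun {a b} _ hb _ h2 => by
      have := h3 b (List.mem_append_left _ hb); simp only at h2; omega
  have hδ : CDet A (ps.map bd).prod := cdet_list ps fun p hp' => by
    obtain ⟨f, hf, rfl⟩ := List.mem_map.1 hp'
    have := cdet_bd_neg_sq hdec (List.mem_append_left [g] hf) 1
    rwa [one_pow] at this
  have hvals : ∀ a ∈ listVals ps, CDet A (-a) := by
    intro a ha
    obtain ⟨p, hp', ha'⟩ := listVals_cases ha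
    obtain ⟨f, hf, rfl⟩ := List.mem_map.1 hp'
    have hf' := List.mem_append_left [g] hf
    rcases mem_blockVals ha' with rfl | rfl
    · obtain ⟨k, hk⟩ : ∃ k, f.natDegree = k + 1 := ⟨f.natDegree - 1, by have := h3 f hf'; omega⟩
      have h1 := ((cdet_block hdec hf' (hl f hf').1).pow 2).mul (cdet_scalar hdec hf' (-1))
      convert h1 using 1
      simp only [bv, hk, Nat.add_sub_cancel, pow_succ]
      rcases neg_one_pow_eq_or F k with h | h <;> rw [h] <;> ring
    · simpa using cdet_one A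
  have mk : ∀ c : F, c ≠ 0 → CDet A (bd (g, c)) → ¬ CDet A (-c) → (bv (g, c) ≠ c ∨ 4 ≤ g.natDegree) →
      ∃ ms, Elem A ms := fun c hc hcd hout hb =>
    ⟨_, full_special hq (by rwa [hfst]) hv hok hg hg0 hg3 hc hδ hcd (fun h => hout (hvals c h)) hb⟩
  rcases (show 4 ≤ g.natDegree ∨ g.natDegree = 3 by omega) with hg4 | hg3'
  · exact mk (-s ^ 2) (by simp [hs0]) (cdet_bd_neg_sq hdec hgm s) (by rwa [neg_neg]) (Or.inr hg4)
  have hodd : Odd g.natDegree := by rw [hg3']; decide
  have hm1 : CDet A (-1) := by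
    have := cdet_scalar hdec hgm (-1)
    rwa [hg3', show ((-1 : F) ^ 3) = -1 by ring] at this
  have hneg : ∀ c : F, CDet A (-c) → CDet A c := fun c h => by simpa using h.mul hm1
  by_cases hex : ∃ c : F, c ≠ 0 ∧ ¬ CDet A c ∧ bv (g, c) ≠ c
  · obtain ⟨c, hc, hcD, hb⟩ := hex
    exact mk c hc (cdet_bd_odd hdec hgm hodd c) (fun h => hcD (hneg c h)) (Or.inl hb)
  push Not at hex
  set d2 := g.coeff 0 ^ 2 with hd2
  have hcube : ∀ c : F, c ≠ 0 → ¬ CDet A c → c ^ 3 = d2 := fun c hc hcD => by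
    have := hex c hc hcD
    rw [bv, div_eq_iff (pow_ne_zero _ hc), hg3'] at this
    rw [hd2]
    linear_combination -this
  -- a field of four elements
  have hd31 : d2 = 1 ∧ ∀ x : F, x ≠ 0 → x ^ 3 = 1 := by
    have hc : ¬ CDet A (s ^ 2) := hs
    set c := s ^ 2 with hcs
    have hc0 : c ≠ 0 := pow_ne_zero _ hs0
    have hc3 : CDet A (c ^ 3) := by have := cdet_scalar hdec hgm c; rwa [hg3'] at this
    have hc2 : ¬ CDet A (c ^ 2) := fun h => hc (by
      have := hc3.mul (h.inv (pow_ne_zero _ hc0))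
      rwa [show c ^ 3 * (c ^ 2)⁻¹ = c by field_simp] at this)
    have e1 := hcube c hc0 hc
    have e2 := hcube _ (pow_ne_zero _ hc0) hc2
    have e3 : c ^ 3 = 1 := mul_left_cancel₀ (pow_ne_zero 3 hc0) (by
      rw [mul_one, ← pow_add]; rw [← pow_mul] at e2; exact e2.trans e1.symm)
    refine ⟨e1.symm.trans e3, fun x hx => ?_⟩
    by_cases hxD : CDet A x
    · have hcx : ¬ CDet A (c * x) := fun h => hc (by
        have := h.mul (hxD.inv hx)
        rwa [mul_inv_cancel_right₀ hx] at this)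
      have := hcube _ (mul_ne_zero hc0 hx) hcx
      rwa [mul_pow, e3, one_mul, ← e1, e3] at this
    · rw [hcube x hx hxD, ← e1, e3]
  obtain ⟨hd21, hx3⟩ := hd31
  have hall : ∀ f ∈ l, f = g := fun f hf => by
    have hdvd := (List.pairwise_append.1 hp).2.2 f hf g List.mem_cons_self
    exact (eq_of_monic_of_dvd_of_natDegree_le (hl f (List.mem_append_left _ hf)).1 hg hdvd
      (by have := h3 f (List.mem_append_left _ hf); omega)).symm
  obtain ⟨w, hw0, hw1⟩ : ∃ w : F, w ≠ 0 ∧ w ≠ 1 := by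
    obtain ⟨w, -, hw⟩ := Finset.exists_mem_notMem_of_card_lt_card (s := ({0, 1} : Finset F)) (t := Finset.univ)
      (lt_of_le_of_lt Finset.card_le_two (by rw [Finset.card_univ]; omega))
    simp only [Finset.mem_insert, Finset.mem_singleton, not_or] at hw
    exact ⟨w, hw.1, hw.2⟩
  have hw3 := hx3 w hw0
  have hw21 : w * w ≠ 1 := fun h => hw1 (by linear_combination hw3 - w * h)
  have hw2 : w * w ≠ w := fun h => hw1 (mul_left_cancel₀ hw0 (by rw [mul_one]; exact h))
  have hm11 : (-1 : F) = 1 := by linear_combination hx3 (-1) (by simp)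
  obtain ⟨l', hll'⟩ : ∃ l', l ++ [g] = g :: g :: l' ∧ ∀ f ∈ l', f ∈ l ++ [g] := by
    match l, hr with
    | [x], _ => exact ⟨[], by simp [hall x List.mem_cons_self], by simp⟩
    | x :: y :: l₁, _ =>
      exact ⟨l₁ ++ [g], by simp [hall x List.mem_cons_self, hall y (List.mem_cons_of_mem _ List.mem_cons_self)],
        fun f hf => List.mem_cons_of_mem _ (List.mem_cons_of_mem _ hf)⟩
  have hdec' := hdec
  rw [hll'.1] at hdec'
  obtain ⟨-, -, N₁, e₁, A₁, hs₁, -, -, N₂, e₂, A₂, hs₂, hdec₂⟩ := hdec'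
  set qs := l'.map fun f => (f, (1 : F)) with hqs
  have hvq : ∀ p ∈ qs, Valid p := fun p hp' => by
    obtain ⟨f, hf, rfl⟩ := List.mem_map.1 hp'
    exact ⟨(hl f (hll'.2 f hf)).1, (hl f (hll'.2 f hf)).2.1, (hl f (hll'.2 f hf)).2.2, one_ne_zero, fun h => by
      have := h3 f (hll'.2 f hf); simp only at h; omega⟩
  have hfq : qs.map Prod.fst = l' := by simp [hqs, Function.comp_def]
  obtain ⟨γ, hγ, hmsγ, hG₃⟩ := good_list (by omega) qs A₂ (by rw [hfq]; exact hdec₂) hvq (by
    rw [hqs, List.pairwise_map]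
    have : l'.Pairwise (· ∣ ·) := by
      have := hp; rw [hll'.1] at this
      exact (List.pairwise_cons.1 (List.pairwise_cons.1 this).2).2
    exact this.imp_of_mem fun {a b} _ hb _ h2 => by
      have := h3 b (hll'.2 b hb); simp only at h2; omega)
  generalize hd' : g.natDegree = m at e₁ e₂ hs₁ hs₂
  obtain rfl : m = 3 := hd'.symm.trans hg3'
  have hG₁ := good_three hg hg3' hg0 (a₀ := w * w) (a := 1) (b := w) one_ne_zero hw0
    (by rw [← hd2, hd21]; linear_combination hw3) hw21 hw2 (Ne.symm hw1)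
  have hG₂ := good_three hg hg3' hg0 (a₀ := 1) (a := w * w) (b := w) (mul_ne_zero hw0 hw0) hw0
    (by rw [← hd2, hd21]; linear_combination hw3) (Ne.symm hw21) (Ne.symm hw1) hw2
  have hne : ∀ i, (![1, w * w, w] : Fin 3 → F) i ≠ 0 := fun i => by fin_cases i <;> simp [hw0]
  have hne1 : ∀ i, (![w * w, 1, w] : Fin 3 → F) i ≠ 0 := fun i => by fin_cases i <;> simp [hw0]
  have hG₂₃ := ((hG₂.glue hG₃ hne fun i j _ => Or.inr fun p hp' h => by
    obtain ⟨f, hf, rfl⟩ := List.mem_map.1 hp'
    have := h3 f (hll'.2 f hf); simp only at h; omega).reindex e₂).sim hs₂.symm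
  have hG := ((hG₁.glue hG₂₃ hne1 fun i j _ => by
    by_cases h : (![w * w, 1, w] : Fin 3 → F) i = w
    · exact Or.inl h
    · exact Or.inr ⟨h, fun p hp' h' => by
        obtain ⟨f, hf, rfl⟩ := List.mem_map.1 hp'
        have := h3 f (hll'.2 f hf); simp only at h'; omega⟩).reindex e₁).sim hs₁.symm
  set β := Sum.elim (![w * w, 1, w] : Fin 3 → F) (Sum.elim ![1, w * w, w] γ ∘ e₂.symm) ∘ e₁.symm with hβd
  have hβ : ∀ i, β i ≠ 0 := fun i => by
    simp only [hβd, Function.comp_apply]
    rcases e₁.symm i with j | j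
    · exact hne1 j
    simp only [Sum.elim_inr, Function.comp_apply]
    rcases e₂.symm j with k | k
    exacts [hne k, hγ k]
  have hδq : CDet A (qs.map bd).prod := cdet_list qs fun p hp' => by
    obtain ⟨f, hf, rfl⟩ := List.mem_map.1 hp'
    exact cdet_bd_odd hdec (hll'.2 f hf) (by
      rw [show f = g by
        rcases List.mem_append.1 (hll'.2 f hf) with h | h
        exacts [hall f h, List.mem_singleton.1 h]]
      exact hodd) 1
  have hprod : -1 / (1 * (1 * w)) * (-1 / (w * w * (w * w * w))) = 1 := by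
    field_simp
    linear_combination (-(w ^ 3) - 1) * hw3
  obtain ⟨T, hT, hsT, hd, -, hm⟩ := hG.elem (mul_ne_zero (div_ne_zero (by simp) (by simp [hw0]))
    (mul_ne_zero (div_ne_zero (by simp) (by simp [hw0])) (prod_bd_ne hvq))) hβ
  have hmem := hm (by rw [← mul_assoc, hprod, one_mul]; exact hδq)
  refine ⟨_, T, β, hT, hsT, hβ, hd, full_of_mult hT hsT hβ hmem w ?_, rfl⟩
  have hcount : (msOf β).count w = 2 := by
    rw [hβd, msOf_comp, msOf_elim, msOf_comp, msOf_elim, hmsγ, Multiset.count_add, Multiset.count_add,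
      Multiset.count_eq_zero.2 (show w ∉ listVals qs from fun h => by
        obtain ⟨p, hp', ha⟩ := listVals_cases h
        obtain ⟨f, hf, rfl⟩ := List.mem_map.1 hp'
        rcases mem_blockVals ha with h | h
        · have hfg : f = g := by
            rcases List.mem_append.1 (hll'.2 f hf) with h | h
            exacts [hall f h, List.mem_singleton.1 h]
          refine hw1 ?_
          rw [h, hfg, bv]
          simp only [hg3', one_pow, div_one, mul_pow, ← hd2, hd21]
          norm_num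
        · exact hw1 h)]
    simp [msOf, Fin.univ_val_map, List.ofFn_succ, hw2, Ne.symm hw2, Ne.symm hw1, hw1]
  rw [hcount]
  intro κ hκ
  refine ⟨1, κ ^ 2, cdet_one A, ?_⟩
  have := hx3 κ hκ
  linear_combination κ * this

/-- Squares are centraliser determinants. -/
theorem elem_big_squares (hq : 4 ≤ Fintype.card F) {n : ℕ} {A : Matrix (Fin n) (Fin n) F} {l : List F[X]}
    {g : F[X]} (hdec : Dec A (l ++ [g])) (hl : ∀ f ∈ l ++ [g], f.Monic ∧ 2 ≤ f.natDegree ∧ f.coeff 0 ≠ 0)
    (hp : (l ++ [g]).Pairwise (· ∣ ·)) (hnf : ¬ ∀ a : F, a ≠ 0 → CDet A a)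
    (hsq : ∀ a : F, a ≠ 0 → CDet A (a ^ 2)) (hg : 3 ≤ g.natDegree) : ∃ ms, Elem A ms := by
  have hgm : g ∈ l ++ [g] := List.mem_append_right _ List.mem_cons_self
  have h2 := two_ne_of_not_full hsq hnf
  have heven : ∀ f ∈ l ++ [g], Even f.natDegree := by
    intro f hf
    by_contra ho
    rw [Nat.not_even_iff_odd] at ho
    refine hnf fun κ hκ => ?_
    obtain ⟨k, hk⟩ := ho
    have := (cdet_scalar hdec hf κ).mul (hsq _ (inv_ne_zero (pow_ne_zero k hκ)))
    rwa [hk, inv_pow, ← pow_mul, mul_comm k 2, pow_succ, mul_comm, inv_mul_cancel_left₀ (pow_ne_zero _ hκ)] at this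
  have hg4 : 4 ≤ g.natDegree := by obtain ⟨k, hk⟩ := heven g hgm; omega
  obtain ⟨c₀, s₀, hc₀, hs₀, hquad⟩ : ∃ c₀ s₀ : F, c₀ = -s₀ ^ 2 ∧ s₀ ≠ 0 ∧
      ∀ f ∈ l ++ [g], f.natDegree = 2 → c₀ = -f.coeff 0 ∧ f.coeff 1 * 2 ≠ 0 := by
    by_cases hex : ∃ f ∈ l ++ [g], f.natDegree = 2
    · obtain ⟨f, hf, hd⟩ := hex
      obtain ⟨-, r, hr⟩ := quad_root hdec hf (hl f hf).1 hd hnf
      have hc0 : f.coeff 0 = r ^ 2 := by rw [hr]; simp [mul_coeff_zero]; ring
      have hr0 : r ≠ 0 := fun h => (hl f hf).2.2 (by rw [hc0, h]; ring)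
      have hc1 : f.coeff 1 = -2 * r := by
        rw [hr, show (X - C r) * (X - C r) = X ^ 2 + C (-2 * r) * X + C (r * r) by
          simp only [map_mul, map_neg, map_ofNat]; ring]
        simp [coeff_X]
      refine ⟨_, r, rfl, hr0, fun f' hf' hd' => ?_⟩
      rw [eq_of_deg_two (fun x hx => (hl x hx).1) hp hf' hf hd' hd, hc0, hc1]
      exact ⟨rfl, mul_ne_zero (mul_ne_zero (neg_ne_zero.2 h2) hr0) h2⟩
    · exact ⟨-(1 : F) ^ 2, 1, rfl, one_ne_zero, fun f hf hd => absurd ⟨f, hf, hd⟩ hex⟩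
  have hc00 : c₀ ≠ 0 := by rw [hc₀]; simp [hs₀]
  let φ : F[X] → F[X] × F := fun f => (f, c₀)
  have hvφ : ∀ f ∈ l ++ [g], Valid (φ f) ∧ (f.natDegree = 2 → Mono (φ f)) := fun f hf => by
    have hM : f.natDegree = 2 → Mono (φ f) := fun h => ⟨h, (hquad f hf h).1, (hquad f hf h).2⟩
    exact ⟨⟨(hl f hf).1, (hl f hf).2.1, (hl f hf).2.2, hc00, fun h => Or.inr (hM h)⟩, hM⟩
  have hδφ : ∀ f ∈ l ++ [g], CDet A (bd (φ f)) := fun f hf => by
    simp only [φ, hc₀]; exact cdet_bd_neg_sq hdec hf s₀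
  by_cases hall : ∀ f ∈ l, bv (φ f) = c₀
  · -- all values of the other blocks coincide
    obtain ⟨s, hs, hsne⟩ : ∃ s : F, s ≠ 0 ∧ s ^ 2 ≠ s₀ ^ 2 := by
      obtain ⟨s, -, hs⟩ := Finset.exists_mem_notMem_of_card_lt_card (s := ({0, s₀, -s₀} : Finset F))
        (t := Finset.univ) (lt_of_le_of_lt Finset.card_le_three (by rw [Finset.card_univ]; omega))
      simp only [Finset.mem_insert, Finset.mem_singleton, not_or] at hs
      exact ⟨s, hs.1, fun h => (eq_or_eq_neg_of_sq_eq_sq s s₀ h).elim hs.2.1 hs.2.2⟩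
    have hfst : (l.map φ).map Prod.fst = l := by simp [φ, Function.comp_def]
    refine ⟨_, full_special hq (ps := l.map φ) (c := -s ^ 2) (by rwa [hfst]) (fun p hp' => ?_) ?_ (hl g hgm).1
      (hl g hgm).2.2 hg (by simp [hs]) (cdet_list _ fun p hp' => ?_) (cdet_bd_neg_sq hdec hgm s) (fun h => ?_)
      (Or.inr hg4)⟩
    · obtain ⟨f, hf, rfl⟩ := List.mem_map.1 hp'; exact (hvφ f (List.mem_append_left _ hf)).1
    · refine ok_of_mono (fun p hp' => ?_) (by rw [hfst]; exact (List.pairwise_append.1 hp).1) fun p hp' => ?_ <;>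
        obtain ⟨f, hf, rfl⟩ := List.mem_map.1 hp'
      exacts [⟨(hl f (List.mem_append_left _ hf)).1, (hl f (List.mem_append_left _ hf)).2.1⟩,
        (hvφ f (List.mem_append_left _ hf)).2]
    · obtain ⟨f, hf, rfl⟩ := List.mem_map.1 hp'; exact hδφ f (List.mem_append_left _ hf)
    · obtain ⟨p, hp', ha⟩ := listVals_cases h
      obtain ⟨f, hf, rfl⟩ := List.mem_map.1 hp'
      refine hsne ?_
      rcases mem_blockVals ha with h | h
      · rw [hall f hf, hc₀] at h; exact neg_inj.1 h
      · simp only [φ, hc₀] at h; exact neg_inj.1 h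
  · -- otherwise some multiplicity is odd, possibly after a change
    push Not at hall
    obtain ⟨f, hfl, hb⟩ := hall
    set b := bv (φ f) with hbd
    have hf : f ∈ l ++ [g] := List.mem_append_left _ hfl
    have hf3 : 3 ≤ f.natDegree := by
      by_contra h
      have hd : f.natDegree = 2 := by have := (hl f hf).2.1; omega
      refine hb ?_
      rw [hbd]
      simp only [φ, (hquad f hf hd).1]
      exact bv_mono hd (hl f hf).2.2
    obtain ⟨k, hk⟩ := heven f hf
    obtain ⟨e, he⟩ : ∃ e : F, b = -e ^ 2 := by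
      refine ⟨(-1) ^ f.natDegree * f.coeff 0 / s₀ ^ (f.natDegree - 1), ?_⟩
      rw [hbd]
      simp only [φ, bv, hc₀, div_pow]
      rw [neg_pow (s₀ ^ 2), (show Odd (f.natDegree - 1) from ⟨k - 1, by omega⟩).neg_one_pow, ← pow_mul, ← pow_mul,
        mul_comm 2]
      ring
    have he0 : e ≠ 0 := fun h => by
      have : b = 0 := by rw [he, h]; ring
      rw [hbd, bv] at this
      exact div_ne_zero (pow_ne_zero _ (mul_ne_zero (pow_ne_zero _ (by simp)) (hl f hf).2.2))
        (pow_ne_zero _ hc00) this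
    obtain ⟨s, hs, hsc, hse⟩ : ∃ s : F, s ≠ 0 ∧ -s ^ 2 ≠ c₀ ∧ -s ^ 2 ≠ b := by
      by_contra hcon
      push Not at hcon
      have hsub : (Finset.univ : Finset F) ⊆ {0, s₀, -s₀} ∪ {e, -e} := by
        intro z _
        simp only [Finset.mem_union, Finset.mem_insert, Finset.mem_singleton]
        by_cases hz : z = 0
        · exact Or.inl (Or.inl hz)
        by_cases hzc : -z ^ 2 = c₀
        · rcases eq_or_eq_neg_of_sq_eq_sq z s₀ (by rw [hc₀] at hzc; exact neg_inj.1 hzc) with h | h
          exacts [Or.inl (Or.inr (Or.inl h)), Or.inl (Or.inr (Or.inr h))]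
        · rcases eq_or_eq_neg_of_sq_eq_sq z e (by
            have := hcon z hz hzc; rw [he] at this; exact neg_inj.1 this) with h | h
          exacts [Or.inr (Or.inl h), Or.inr (Or.inr h)]
      have hc5 := (Finset.card_le_card hsub).trans (Finset.card_union_le _ _)
      rw [Finset.card_univ] at hc5
      have hc5' : Fintype.card F ≤ 5 := hc5.trans (Nat.add_le_add Finset.card_le_three Finset.card_le_two)
      have hF : ringChar F ≠ 2 := fun h => h2 (by
        have := CharP.cast_eq_zero F (ringChar F); rwa [h, Nat.cast_ofNat] at this)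
      have hodd := FiniteField.odd_card_of_char_ne_two hF
      have hq5 : Fintype.card F = 5 := by omega
      have h4 : ∀ z : F, z ≠ 0 → z ^ 4 = 1 := fun z hz => by
        have := FiniteField.pow_card_sub_one_eq_one z hz; rwa [hq5] at this
      obtain ⟨t, ht⟩ := sq_of_cdet hsq hnf (cdet_block hdec hf (hl f hf).1)
        (mul_ne_zero (pow_ne_zero _ (by simp)) (hl f hf).2.2)
      have hd1 : ((-1) ^ f.natDegree * f.coeff 0) ^ 2 = 1 := by
        rw [ht, ← sq, ← pow_mul]
        exact h4 t fun h => (hl f hf).2.2 (by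
          rw [h, mul_zero] at ht; exact (mul_eq_zero.1 ht).resolve_left (pow_ne_zero _ (by simp)))
      have hc1 : c₀ ^ 2 = 1 := by rw [hc₀, neg_sq, ← pow_mul]; exact h4 s₀ hs₀
      refine hb ?_
      rw [hbd]
      simp only [φ, bv]
      rw [hd1, show f.natDegree - 1 = 2 * (k - 1) + 1 by omega, pow_succ, pow_mul, hc1, one_pow, one_mul, one_div]
      exact inv_eq_of_mul_eq_one_right (by rw [← sq, hc1])
    obtain ⟨l₁, l₂, hsplit⟩ := List.append_of_mem hfl
    set v := -s ^ 2 with hv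
    have hv0 : v ≠ 0 := by rw [hv]; simp [hs]
    let qs : F → List (F[X] × F) := fun x => l₁.map φ ++ (f, x) :: (l₂ ++ [g]).map φ
    have hqs : ∀ x, (qs x).map Prod.fst = l ++ [g] := fun x => by
      simp [qs, φ, hsplit, Function.comp_def]
    have hmem : ∀ x, ∀ p ∈ qs x, (p.1 = f ∧ p.2 = x) ∨ (p.1 ∈ l ++ [g] ∧ p = φ p.1) := by
      intro x p hp'
      simp only [qs, List.mem_append, List.mem_cons, List.mem_map, List.not_mem_nil, or_false] at hp'
      rcases hp' with ⟨y, hy, rfl⟩ | rfl | ⟨y, hy, rfl⟩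
      · exact Or.inr ⟨by simp [φ, hsplit, hy], rfl⟩
      · exact Or.inl ⟨rfl, rfl⟩
      · exact Or.inr ⟨by rcases hy with h | h <;> simp [φ, hsplit, h], rfl⟩
    have hE : ∀ x : F, x ≠ 0 → CDet A (bd (f, x)) → ∀ a : F, Odd ((listVals (qs x)).count a) →
        ∃ ms, Elem A ms := fun x hx hxd a ha =>
      ⟨_, elem_of_list (by omega) (qs x) (by rw [hqs]; exact hdec) (fun p hp' => by
          rcases hmem x p hp' with ⟨h1, h2⟩ | ⟨h1, h2⟩
          · obtain ⟨p1, p2⟩ := p
            simp only at h1 h2; subst h1; subst h2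
            exact ⟨(hl _ hf).1, (hl _ hf).2.1, (hl _ hf).2.2, hx, fun h => by simp only at h; omega⟩
          · rw [h2]; exact (hvφ _ h1).1)
        (ok_of_mono (fun p hp' => by
            rcases hmem x p hp' with ⟨h1, -⟩ | ⟨h1, -⟩
            · rw [h1]; exact ⟨(hl _ hf).1, (hl _ hf).2.1⟩
            · exact ⟨(hl _ h1).1, (hl _ h1).2.1⟩) (by rw [hqs]; exact hp) (fun p hp' h2' => by
            rcases hmem x p hp' with ⟨h1, -⟩ | ⟨h1, h2⟩
            · rw [h1] at h2'; omega
            · rw [h2]; exact (hvφ _ h1).2 h2'))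
        (cdet_list _ fun p hp' => by
          rcases hmem x p hp' with ⟨h1, h2⟩ | ⟨h1, h2⟩
          · obtain ⟨p1, p2⟩ := p
            simp only at h1 h2; subst h1; subst h2
            exact hxd
          · rw [h2]; exact hδφ _ h1) a (flex_odd hsq ha)⟩
    set R := listVals (l₁.map φ) + listVals ((l₂ ++ [g]).map φ) with hR
    have hval : ∀ x a, (listVals (qs x)).count a =
        R.count a + ((if a = bv (f, x) then 1 else 0) + if x = a then f.natDegree - 1 else 0) := by
      intro x a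
      simp only [qs, listVals_append, hR, Multiset.count_add]
      rw [show listVals ((f, x) :: (l₂ ++ [g]).map φ) = blockVals (f, x) + listVals ((l₂ ++ [g]).map φ) by
        simp [listVals], Multiset.count_add, blockVals, Multiset.count_cons, Multiset.count_replicate]
      ring
    by_contra hno
    have even0 : ∀ a, Even ((listVals (qs c₀)).count a) := fun a => by
      by_contra h; exact hno (hE c₀ hc00 (hδφ f hf) a (Nat.not_even_iff_odd.1 h))
    have even1 : ∀ a, Even ((listVals (qs v)).count a) := fun a => by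
      by_contra h; exact hno (hE v hv0 (cdet_bd_neg_sq hdec hf s) a (Nat.not_even_iff_odd.1 h))
    have hbb : bv (f, c₀) = b := rfl
    have e1 := even0 v
    have e2 := even0 b
    have e3 := even1 v
    have e4 := even1 b
    rw [hval, hbb, if_neg (show v ≠ b from hse), if_neg (Ne.symm hsc)] at e1
    rw [hval, hbb, if_pos rfl, if_neg (Ne.symm hb)] at e2
    rw [hval, if_pos rfl] at e3
    rw [hval, if_neg (show v ≠ b from hse)] at e4
    rw [Nat.even_iff] at e1 e2 e3 e4
    by_cases hv' : v = bv (f, v)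
    · rw [if_neg (fun h => hse (hv'.trans h.symm))] at e4
      omega
    · rw [if_neg hv'] at e3
      omega

/-- All blocks of size two, small centraliser. -/
theorem elem_quad (hq : 4 ≤ Fintype.card F) {n u : ℕ} {A : Matrix (Fin n) (Fin n) F} {f : F[X]}
    (hu : 2 ≤ u) (hdec : Dec A (List.replicate u f)) (hf : f.Monic) (hd : f.natDegree = 2)
    (hnf : ¬ ∀ a : F, a ≠ 0 → CDet A a) (hd0 : f.coeff 0 ≠ 0) :
    ∃ d w : F, d = f.coeff 0 ∧ d ≠ 0 ∧ w ≠ 0 ∧ w ^ 2 ≠ d ^ 2 ∧
      Elem A (Multiset.replicate 2 d + (Multiset.replicate (2 * (u - 2)) (-d) + {d ^ 2 / w, w})) := by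
  have hfm : f ∈ List.replicate u f := List.mem_replicate.2 ⟨by omega, rfl⟩
  obtain ⟨h2, r, hr⟩ := quad_root hdec hfm hf hd hnf
  have hsq : ∀ a : F, a ≠ 0 → CDet A (a ^ 2) := fun a _ => by
    have := cdet_scalar hdec hfm a; rwa [hd] at this
  have hc0 : f.coeff 0 = r * r := by rw [hr]; simp [mul_coeff_zero]
  have hc1 : f.coeff 1 = -2 * r := by
    rw [hr, show (X - C r) * (X - C r) = X ^ 2 + C (-2 * r) * X + C (r * r) by
      simp only [map_mul, map_neg, map_ofNat]; ring]
    simp [coeff_X]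
  set d := f.coeff 0 with hdd
  obtain ⟨k, rfl⟩ : ∃ k, u = k + 2 := ⟨u - 2, by omega⟩
  have hdec' := hdec
  rw [List.replicate_succ] at hdec'
  obtain ⟨N, e, A₂, hs, hdec₂⟩ := dec_two hd hdec'
  have hr0 : r ≠ 0 := fun h => hd0 (by rw [hc0, h, mul_zero])
  obtain ⟨w, -, hw⟩ := Finset.exists_mem_notMem_of_card_lt_card (s := ({0, 1} ∪ {d, -d} : Finset F))
    (t := Finset.univ) (lt_of_le_of_lt ((Finset.card_union_le _ _).trans
      (Nat.add_le_add Finset.card_le_two Finset.card_le_two)) (by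
    rw [Finset.card_univ]
    have hF : ringChar F ≠ 2 := fun h => h2 (by
      have := CharP.cast_eq_zero F (ringChar F); rwa [h, Nat.cast_ofNat] at this)
    have := FiniteField.odd_card_of_char_ne_two hF
    omega))
  simp only [Finset.mem_union, Finset.mem_insert, Finset.mem_singleton, not_or] at hw
  obtain ⟨⟨hw0, hw1⟩, hwd, hwd'⟩ := hw
  have hwsq : w ^ 2 ≠ d ^ 2 := fun h => (eq_or_eq_neg_of_sq_eq_sq w d h).elim hwd hwd'
  set ps := List.replicate k (f, -d) ++ [(f, w)] with hps
  have hmono : Mono (f, -d) := ⟨hd, rfl, by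
    rw [hc1]; exact mul_ne_zero (mul_ne_zero (neg_ne_zero.2 h2) hr0) h2⟩
  have hv : ∀ p ∈ ps, Valid p := fun p hp => by
    rcases List.mem_append.1 hp with h | h
    · rw [List.eq_of_mem_replicate h]
      exact ⟨hf, by simp only; omega, hd0, neg_ne_zero.2 hd0, fun _ => Or.inr hmono⟩
    · rw [List.mem_singleton.1 h]
      exact ⟨hf, by simp only; omega, hd0, hw0, fun _ => Or.inl (by simpa [← hdd] using hwsq)⟩
  have hok : ps.Pairwise OkPair := by
    rw [hps, List.pairwise_append]
    refine ⟨?_, List.pairwise_singleton _ _, fun p hp q _ _ => ?_⟩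
    · rw [List.pairwise_replicate]
      exact Or.inr fun _ => ⟨hd, Or.inl hmono⟩
    · rw [List.eq_of_mem_replicate hp]; exact ⟨hd, Or.inl hmono⟩
  obtain ⟨γ, hγ, hms, hG₂⟩ := good_list (by omega) ps A₂ (by
    simpa [hps, List.replicate_succ'] using hdec₂) hv hok
  have hb : bv (f, w) = d ^ 2 / w := by simp [bv, hd, ← hdd]
  have hbmono : bv (f, -d) = -d := by rw [hdd]; exact bv_mono hd hd0
  have hlv : listVals ps = Multiset.replicate (2 * k) (-d) + {d ^ 2 / w, w} := by
    rw [hps, listVals_append, listVals_single]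
    congr 1
    · simp [listVals, blockVals, hbmono, hd, List.sum_replicate, ← Multiset.replicate_succ, Multiset.nsmul_replicate,
        mul_comm]
    · simp [blockVals, hb, hd]
  have hvals : ∀ i, γ i = -d ∨ γ i = d ^ 2 / w ∨ γ i = w := fun i => by
    have := (msOf_mem γ (γ i)).2 ⟨i, rfl⟩
    rw [hms, hlv, Multiset.mem_add] at this
    rcases this with h | h
    · exact Or.inl (Multiset.eq_of_mem_replicate h)
    · simp at h; tauto
  have hbne : d ^ 2 / w ≠ r * r := by
    rw [← hc0, Ne, div_eq_iff hw0]; exact fun h => hwd (mul_left_cancel₀ hd0 (by linear_combination -h))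
  have hcond : ∀ i : Fin 2, ∀ j, (fun _ : Fin 2 => r * r) i = γ j → False := by
    intro i j h
    simp only at h
    rcases hvals j with h' | h' | h' <;> rw [h'] at h
    · rw [← hc0] at h
      exact hd0 (mul_left_cancel₀ h2 (by linear_combination h))
    · exact hbne h.symm
    · rw [← hc0] at h; exact hwd h.symm
  have hk1 : -w ≠ -1 := fun h => hw1 (neg_inj.1 h)
  have hG := (((good_two_mono hf hd hr hr0 (neg_ne_zero.2 hw0) hk1).glue hG₂ (fun _ => mul_ne_zero hr0 hr0)
    fun i j h => (hcond i j h).elim).reindex e).sim hs.symm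
  set β := Sum.elim (fun _ : Fin 2 => r * r) γ ∘ e.symm with hβd
  have hβ : ∀ i, β i ≠ 0 := fun i => by
    simp only [hβd, Function.comp_apply]
    rcases e.symm i with j | j
    exacts [mul_ne_zero hr0 hr0, hγ j]
  obtain ⟨T, hT, hsT, hdT, -, hm⟩ := hG.elem (mul_ne_zero (neg_ne_zero.2 hw0) (prod_bd_ne hv)) hβ
  have htri : tri 2 = 1 := by simp [tri, Finset.sum_range_succ]
  have hδ : CDet A (-w * (ps.map bd).prod) := by
    have h1 := ((cdet_block hdec hfm hf).pow k).inv (pow_ne_zero _ (mul_ne_zero (by simp) hd0))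
    convert h1 using 1
    rw [hps, List.map_append, List.prod_append, List.map_replicate, List.prod_replicate, List.map_singleton,
      List.prod_singleton, bd, bd]
    simp only [hd, htri, pow_one, ← hdd, neg_sq, one_pow, one_mul]
    rw [← inv_pow, show (-1 : F) / -d = d⁻¹ by field_simp]
    field_simp
  have hmsβ : msOf β = Multiset.replicate 2 d + (Multiset.replicate (2 * k) (-d) + {d ^ 2 / w, w}) := by
    rw [hβd, msOf_comp, msOf_elim, hms, hlv, hc0]
    congr 1
  refine ⟨d, w, rfl, hd0, hw0, hwsq, T, β, hT, hsT, hβ, hdT, full_of_mult hT hsT hβ (hm hδ) w ?_, by simpa using hmsβ⟩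
  have hbw : d ^ 2 / w ≠ w := fun h => hwsq (by rw [div_eq_iff hw0] at h; linear_combination -h)
  have hcount : (msOf β).count w = 1 := by
    rw [hmsβ]
    simp [Multiset.count_replicate, Multiset.count_cons, Multiset.count_add, Multiset.count_singleton, hwd, hwd',
      Ne.symm hwd, Ne.symm hwd', hbw, Ne.symm hbw]
  rw [hcount]
  exact flex_one A

end H89.CN
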